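import Cfsg.Agent.CharPair.Defs

/-!
# Two invariant maximal subgroups with automizers: auxiliary definitions (S5189)

`omZ p H` is `Ω₁ Z(H)`; `TopFrame` records the generators of a top layer.
-/

set_option autoImplicit false

namespace Cfsg.Agent.CharPair

universe u

variable {G : Type u} [Group G]

/-- `Ω₁ Z(H)`. -/
def omZ (p : ℕ) (H : Subgroup G) : Subgroup G where
  carrier := {z | z ∈ H ∧ z ^ p = 1 ∧ ∀ x ∈ H, x * z = z * x}
  one_mem' := ⟨H.one_mem, one_pow p, fun x _ => by rw [mul_one, one_mul]⟩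
  mul_mem' {a b} ha hb := ⟨H.mul_mem ha.1 hb.1, by
      rw [(show Commute a b from hb.2.2 a ha.1).mul_pow, ha.2.1, hb.2.1, one_mul],
    fun x hx => (show Commute x (a * b) from
      (show Commute x a from ha.2.2 x hx).mul_right (hb.2.2 x hx))⟩
  inv_mem' {a} ha := ⟨H.inv_mem ha.1, by rw [inv_pow, ha.2.1, inv_one],
    fun x hx => (show Commute x a from ha.2.2 x hx).inv_right⟩

/-- `τ` fixes the elements of the centralised layer `C` and of the outside element `z`, and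
inverts `a` and `b`, which generate `E₁` over `C`. -/
structure TopFrame (p : ℕ) (E₁ E₂ : Subgroup G) (A₁ : Subgroup (MulAut E₁))
    (B : Subgroup (MulAut G)) (C : Subgroup G) (τ : MulAut G) (a b z : G) : Prop where
  plane : Plane p E₁ A₁ B C τ
  le : C ≤ E₂
  fix : ∀ c ∈ C, τ c = c
  otriv : OTriv p A₁ C ⊥
  sq : τ * τ = 1
  a_mem : a ∈ E₁
  a_not : a ∉ E₂
  b_mem : b ∈ E₁ ⊓ E₂
  b_not : b ∉ C
  a_inv : τ a = a⁻¹
  b_inv : τ b = b⁻¹
  a_pow : a ^ p = 1
  b_pow : b ^ p = 1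
  a_comm : ∀ c ∈ C, a * c = c * a
  b_comm : ∀ c ∈ C, b * c = c * b
  c_comm : ∀ c ∈ C, ∀ d ∈ C, c * d = d * c
  z_mem : z ∈ E₂
  z_not : z ∉ E₁
  z_fix : τ z = z
  z_cent : ∀ x ∈ E₂, z * x = x * z
  az : a * z * a⁻¹ * z⁻¹ ∉ C

end Cfsg.Agent.CharPair
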