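import Cfsg.Agent.CharPair.Tools
import Cfsg.Agent.FusRankThree.JordanTools

/-!
# one automizer moves the centre (S5189)

Proof. `Lgen A₁` fixes `Z = Ω₁Z(G)` pointwise, so by irreducibility a subgroup of `Z` invariant
under `A₂` is trivial. `U = {x ∈ Z₂ : [x, G] ≤ Z}`, `V` is the join of the `A₁`-images of `U`.
If `V ≰ E₂` take `v` outside: every commutator and `p`-th power in `E₂` commutes with `v`, hence
lies in `Z(G)`, so `E₂` is elementary abelian, absurd. If `V ≤ U` then `Z₂` is good. Otherwise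
`V` has order `p³`, it is the set of `x ∈ E₂` with `x ^ p = 1` and `[x, E₂] ≤ U`, and it is good.
-/

set_option autoImplicit false
set_option linter.unusedSectionVars false
set_option linter.unusedVariables false
set_option linter.style.haveILetI false

open Cfsg.Agent.FusRankThree Cfsg.Agent.FusRankThree.Jordan
open scoped commutatorElement

namespace Cfsg.Agent.CharPair

universe u

namespace CentreOne

section Generic

variable {G : Type u} [Group G]

/-- The elements of `N` whose commutators with all of `S` lie in `M`. -/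
def comSub (N S M : Subgroup G) (hM : M.Normal) : Subgroup G where
  carrier := {x | x ∈ N ∧ ∀ g ∈ S, x * g * x⁻¹ * g⁻¹ ∈ M}
  one_mem' := ⟨N.one_mem, fun g _ => by simp⟩
  mul_mem' := by
    rintro a b ⟨ha, ha'⟩ ⟨hb, hb'⟩
    refine ⟨N.mul_mem ha hb, fun g hg => ?_⟩
    have h := M.mul_mem (hM.conj_mem _ (hb' g hg) a) (ha' g hg)
    simpa [mul_assoc] using h
  inv_mem' := by
    rintro a ⟨ha, ha'⟩
    refine ⟨N.inv_mem ha, fun g hg => ?_⟩
    have h := hM.conj_mem _ (M.inv_mem (ha' g hg)) a⁻¹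
    simpa [mul_assoc] using h

/-- The elements whose commutator with `x` lies in `M`. -/
def rel (x : G) (M : Subgroup G) (hM : M.Normal) : Subgroup G where
  carrier := {g | x * g * x⁻¹ * g⁻¹ ∈ M}
  one_mem' := by simp
  mul_mem' := by
    intro a b ha hb
    have h := M.mul_mem ha (hM.conj_mem _ hb a)
    simpa [mul_assoc] using h
  inv_mem' := by
    intro a ha
    have h := hM.conj_mem _ (M.inv_mem ha) a⁻¹
    simpa [mul_assoc] using h

theorem comm_inv_mem {M : Subgroup G} {a b : G} (h : a * b * a⁻¹ * b⁻¹ ∈ M) :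
    b * a * b⁻¹ * a⁻¹ ∈ M := by
  have h' := M.inv_mem h
  simpa [mul_assoc] using h'

theorem comm_eq {a b : G} (h : a * b = b * a) : a * b * a⁻¹ * b⁻¹ = 1 := by
  rw [h]; group

theorem eq_comm_of {a b : G} (h : a * b * a⁻¹ * b⁻¹ = 1) : a * b = b * a := by
  calc a * b = a * b * a⁻¹ * b⁻¹ * (b * a) := by group
    _ = b * a := by rw [h, one_mul]

/-- Commutators are additive in the second variable when they commute with it. -/
theorem comm_mul_right (v a b : G) (h : a * (v * b * v⁻¹ * b⁻¹) = (v * b * v⁻¹ * b⁻¹) * a) :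
    v * (a * b) * v⁻¹ * (a * b)⁻¹ = v * a * v⁻¹ * a⁻¹ * (v * b * v⁻¹ * b⁻¹) := by
  calc v * (a * b) * v⁻¹ * (a * b)⁻¹
      = v * a * v⁻¹ * a⁻¹ * (a * (v * b * v⁻¹ * b⁻¹) * a⁻¹) := by group
    _ = v * a * v⁻¹ * a⁻¹ * (v * b * v⁻¹ * b⁻¹) := by rw [h]; group

/-- Commutators in a central subgroup are powers in the second variable. -/
theorem comm_zpow_right {v b c : G} (h : v * b * v⁻¹ * b⁻¹ = c) (hc : c * b = b * c) (i : ℤ) :
    v * b ^ i * v⁻¹ * (b ^ i)⁻¹ = c ^ i := by
  have e : v * b * v⁻¹ = c * b := by rw [← h]; group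
  rw [← conj_zpow, e, (show Commute c b from hc).mul_zpow]
  group

theorem mul_pow_eq_one {a b : G} {p : ℕ} (hp : Odd p) {c : G} (hba : b * a = c * (a * b))
    (hca : c * a = a * c) (hcb : c * b = b * c) (hc : c ^ p = 1) :
    (a * b) ^ p = a ^ p * b ^ p := by
  have hbn : ∀ n : ℕ, b ^ n * a = c ^ n * (a * b ^ n) := by
    intro n
    induction n with
    | zero => simp
    | succ n ih =>
      have hcb' : c * b ^ n = b ^ n * c := (show Commute c b from hcb).pow_right n
      have hca' : a * c = c * a := hca.symm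
      calc b ^ (n + 1) * a = b ^ n * (b * a) := by rw [pow_succ, mul_assoc]
        _ = c * (b ^ n * a) * b := by
          rw [hba, ← mul_assoc, ← hcb']; simp only [mul_assoc]
        _ = c ^ (n + 1) * (a * b ^ (n + 1)) := by
          rw [ih, pow_succ' c, pow_succ b]; simp only [mul_assoc]
  have key : ∀ n : ℕ, (a * b) ^ n = c ^ (n.choose 2) * (a ^ n * b ^ n) := by
    intro n
    induction n with
    | zero => simp
    | succ n ih =>
      have h1 : a ^ n * c ^ n = c ^ n * a ^ n :=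
        ((show Commute c a from hca).pow_pow n n).symm
      calc (a * b) ^ (n + 1) = c ^ (n.choose 2) * (a ^ n * (b ^ n * a) * b) := by
            rw [pow_succ, ih]; simp only [mul_assoc]
        _ = c ^ (n.choose 2) * ((a ^ n * c ^ n) * (a * (b ^ n * b))) := by
            rw [hbn]; simp only [mul_assoc]
        _ = c ^ ((n + 1).choose 2) * (a ^ (n + 1) * b ^ (n + 1)) := by
            rw [h1, Nat.choose_succ_succ', Nat.choose_one_right, add_comm n, pow_add,
              pow_succ a, pow_succ b]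
            simp only [mul_assoc]
  obtain ⟨k, rfl⟩ := hp
  rw [key, show (2 * k + 1).choose 2 = (2 * k + 1) * k by
    rw [Nat.choose_two_right, Nat.add_sub_cancel, show (2 * k + 1) * (2 * k) = (2 * k + 1) * k * 2
      by ring, Nat.mul_div_cancel _ two_pos], pow_mul, hc, one_pow, one_mul]

theorem comm_mem_closure {S : Set G} {C : Subgroup G} (hcen : ∀ c ∈ C, ∀ x ∈ S, x * c = c * x)
    (h : ∀ a ∈ S, ∀ b ∈ S, a * b * a⁻¹ * b⁻¹ ∈ C) {a b : G} (ha : a ∈ Subgroup.closure S)
    (hb : b ∈ Subgroup.closure S) : a * b * a⁻¹ * b⁻¹ ∈ C := by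
  have hc : ∀ x ∈ Subgroup.closure S, ∀ c ∈ C, x * c = c * x := fun x hx c hc => by
    have hle : Subgroup.closure S ≤ Subgroup.centralizer {c} := (Subgroup.closure_le _).2
      fun y hy => Subgroup.mem_centralizer_singleton_iff.2 (hcen c hc y hy)
    exact Subgroup.mem_centralizer_singleton_iff.1 (hle hx)
  have h1 : ∀ a ∈ S, ∀ y ∈ Subgroup.closure S, a * y * a⁻¹ * y⁻¹ ∈ C := by
    intro a ha y hy
    induction hy using Subgroup.closure_induction with
    | mem y hy => exact h a ha y hy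
    | one => simp
    | mul x y hx _ ih1 ih2 =>
      rw [comm_mul_right _ _ _ (hc x hx _ ih2)]
      exact C.mul_mem ih1 ih2
    | inv x hx ih =>
      have e : a * x⁻¹ * a⁻¹ * x⁻¹⁻¹ = x⁻¹ * (a * x * a⁻¹ * x⁻¹)⁻¹ * x := by group
      rw [e, hc x⁻¹ ((Subgroup.closure S).inv_mem hx) _ (C.inv_mem ih), inv_mul_cancel_right]
      exact C.inv_mem ih
  refine comm_inv_mem ?_
  induction ha using Subgroup.closure_induction with
  | mem y hy => exact comm_inv_mem (h1 y hy b hb)
  | one => simp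
  | mul x y hx _ ih1 ih2 =>
    rw [comm_mul_right _ _ _ (hc x hx _ ih2)]
    exact C.mul_mem ih1 ih2
  | inv x hx ih =>
    have e : b * x⁻¹ * b⁻¹ * x⁻¹⁻¹ = x⁻¹ * (b * x * b⁻¹ * x⁻¹)⁻¹ * x := by group
    rw [e, hc x⁻¹ ((Subgroup.closure S).inv_mem hx) _ (C.inv_mem ih), inv_mul_cancel_right]
    exact C.inv_mem ih

variable [Finite G] {p : ℕ} [Fact p.Prime]

theorem card_step (hG : IsPGroup p G) {A B : Subgroup G} (h : A < B) :
    Nat.card A * p ≤ Nat.card B := by
  obtain ⟨k, hk⟩ := (hG.to_subgroup A).exists_card_eq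
  obtain ⟨m, hm⟩ := (hG.to_subgroup B).exists_card_eq
  have hlt : Nat.card A < Nat.card B := by
    by_contra hh
    exact h.ne (Subgroup.eq_of_le_of_card_ge h.le (not_lt.1 hh))
  have hp := (Fact.out : p.Prime).one_lt
  rw [hk, hm] at hlt
  rw [hk, hm, ← pow_succ]
  exact Nat.pow_le_pow_right (zero_lt_one.trans hp) ((Nat.pow_lt_pow_iff_right hp).1 hlt)

theorem lt_sup_zpowers {A : Subgroup G} {x : G} (hx : x ∉ A) : A < A ⊔ Subgroup.zpowers x :=
  lt_of_le_of_ne le_sup_left fun e => hx (e.symm ▸ Subgroup.mem_sup_right (Subgroup.mem_zpowers x))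

theorem relIndex_le_of_card {A B : Subgroup G} (hAB : A ≤ B) {n : ℕ}
    (h : Nat.card B ≤ n * Nat.card A) : A.relIndex B ≤ n := by
  have e : Nat.card A * A.relIndex B = Nat.card B := by
    rw [← Nat.card_congr (Subgroup.subgroupOfEquivOfLe hAB).toEquiv]
    exact Subgroup.card_mul_index (A.subgroupOf B)
  exact Nat.le_of_mul_le_mul_left (e.le.trans (h.trans_eq (mul_comm _ _))) Nat.card_pos

/-- A normal subgroup properly above another has a fixed point modulo it. -/
theorem exists_step (hG : IsPGroup p G) {N M : Subgroup G} (hN : N.Normal) (hM : M.Normal)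
    (h : M < N) : ∃ x ∈ N, x ∉ M ∧ ∀ g, x * g * x⁻¹ * g⁻¹ ∈ M := by
  induction hn : Nat.card N using Nat.strong_induction_on generalizing N with
  | _ n ih =>
    have hlt := commutator_sup_lt hG (A := N) (B := M) h
    rcases eq_or_lt_of_le (le_sup_right : M ≤ ⁅N, (⊤ : Subgroup G)⁆ ⊔ M) with e | hlt'
    · obtain ⟨x, hx, hxM⟩ := Set.exists_of_ssubset (SetLike.coe_ssubset_coe.2 h)
      refine ⟨x, hx, hxM, fun g => e.symm.le (Subgroup.mem_sup_left ?_)⟩
      exact Subgroup.commutator_mem_commutator hx (Subgroup.mem_top g)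
    · have hn' : Nat.card ↥(⁅N, (⊤ : Subgroup G)⁆ ⊔ M) < n := by
        by_contra hh
        exact hlt.ne (Subgroup.eq_of_le_of_card_ge hlt.le (hn ▸ not_lt.1 hh))
      obtain ⟨x, hx, hxM, hg⟩ := ih _ hn' inferInstance hlt' rfl
      exact ⟨x, hlt.le hx, hxM, hg⟩

/-- A nontrivial normal subgroup meets `Ω₁ Z(G)`. -/
theorem exists_omZ (hG : IsPGroup p G) {N : Subgroup G} (hN : N.Normal) (h : N ≠ ⊥) :
    ∃ z ∈ N, z ≠ 1 ∧ z ∈ omZ p (⊤ : Subgroup G) := by
  obtain ⟨x, hx, hx1, hg⟩ := exists_step hG hN inferInstance (bot_lt_iff_ne_bot.2 h)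
  haveI : Nontrivial (Subgroup.zpowers x) := by
    rw [Subgroup.nontrivial_iff_ne_bot, Ne, Subgroup.zpowers_eq_bot]
    exact fun e => hx1 (Subgroup.mem_bot.2 e)
  obtain ⟨k, hk, hcard⟩ := (hG.to_subgroup (Subgroup.zpowers x)).nontrivial_iff_card.1 ‹_›
  obtain ⟨z, hz⟩ := exists_prime_orderOf_dvd_card' (G := Subgroup.zpowers x) p
    (hcard ▸ dvd_pow_self p hk.ne')
  refine ⟨z, Subgroup.zpowers_le.2 hx z.2, ?_, trivial, ?_, fun y _ => ?_⟩
  · intro e
    rw [← Subgroup.orderOf_coe, e, orderOf_one] at hz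
    exact (Fact.out : p.Prime).ne_one hz.symm
  · rw [← hz, ← Subgroup.orderOf_coe]
    exact pow_orderOf_eq_one _
  · obtain ⟨n, hn⟩ := Subgroup.mem_zpowers_iff.1 z.2
    rw [← hn]
    exact (show Commute y x from (eq_comm_of (Subgroup.mem_bot.1 (hg y))).symm).zpow_right n

theorem between_top (hG : IsPGroup p G) {E : Subgroup G} (hE : E.index = p) {x : G} (hx : x ∉ E) :
    E ⊔ Subgroup.zpowers x = ⊤ := by
  rcases between (p := p) (le_sup_left : E ≤ E ⊔ Subgroup.zpowers x) le_top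
    (by rw [Subgroup.relIndex_top_right]; exact hE) with h | h
  · exact absurd h.symm (lt_sup_zpowers hx).ne
  · exact h

/-- `Ω₁ Z(E)` is invariant under every automorphism of `E`. -/
theorem invA_omZ {E : Subgroup G} (A : Subgroup (MulAut E)) : InvA A (omZ p E) := by
  rintro α - x ⟨-, hp, hc⟩
  refine ⟨(α x).2, ?_, fun y hy => ?_⟩
  · rw [← Subgroup.coe_pow, ← map_pow]
    rw [show x ^ p = 1 from Subtype.ext hp, map_one]
    rfl
  · obtain ⟨y₀, hy₀⟩ := α.surjective ⟨y, hy⟩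
    have e : y₀ * x = x * y₀ := Subtype.ext (hc _ y₀.2)
    have := congrArg (fun w => ((α w : E) : G)) e
    simpa [map_mul, hy₀] using this

end Generic

end CentreOne

open CentreOne

variable {G : Type u} [Group G] [Finite G] {p : ℕ} [Fact p.Prime] {E₁ E₂ : Subgroup G}
  {A₁ : Subgroup (MulAut E₁)} {A₂ : Subgroup (MulAut E₂)} {B : Subgroup (MulAut G)}

namespace CentreOne

theorem mem_omZ_top {x : G} (hp : x ^ p = 1) (hc : ∀ g : G, g * x = x * g) :
    x ∈ omZ p (⊤ : Subgroup G) := ⟨trivial, hp, fun g _ => hc g⟩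

theorem omZ_top_normal : (omZ p (⊤ : Subgroup G)).Normal :=
  ⟨fun z hz g => by rw [hz.2.2 g trivial, mul_inv_cancel_right]; exact hz⟩

theorem elem_le (h : Pair p E₁ E₂ A₁ A₂ B) {X : Subgroup G} (hp : ∀ a ∈ X, a ^ p = 1)
    (hc : ∀ a ∈ X, ∀ b ∈ X, a * b = b * a) : Nat.card X ≤ p ^ 3 := by
  have := h.rank X ⊥ bot_le (fun a ha => Subgroup.mem_bot.2 (hp a ha))
    fun a ha b hb => Subgroup.mem_bot.2 (comm_eq (hc a ha b hb))
  rwa [Subgroup.relIndex_bot_left] at this

/-- An extension of an elementary abelian subgroup by a centralising element of order `p`. -/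
theorem elem_sup {A : Subgroup G} {w : G} (hp : ∀ a ∈ A, a ^ p = 1)
    (hc : ∀ a ∈ A, ∀ b ∈ A, a * b = b * a) (hw : w ^ p = 1) (hwc : ∀ a ∈ A, w * a = a * w) :
    (∀ a ∈ A ⊔ Subgroup.zpowers w, a ^ p = 1) ∧
      ∀ a ∈ A ⊔ Subgroup.zpowers w, ∀ b ∈ A ⊔ Subgroup.zpowers w, a * b = b * a := by
  have hS : A ⊔ Subgroup.zpowers w = Subgroup.closure ((A : Set G) ∪ {w}) := by
    rw [Subgroup.closure_union, Subgroup.closure_eq, Subgroup.zpowers_eq_closure]
  rw [hS]
  have hcc : ∀ a ∈ Subgroup.closure ((A : Set G) ∪ {w}),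
      ∀ b ∈ Subgroup.closure ((A : Set G) ∪ {w}), a * b = b * a := fun a ha b hb => by
    refine eq_comm_of (Subgroup.mem_bot.1 (comm_mem_closure (C := ⊥) ?_ ?_ ha hb))
    · rintro c hc x -
      rw [Subgroup.mem_bot.1 hc, mul_one, one_mul]
    · rintro x (hx | rfl) y (hy | rfl) <;> rw [Subgroup.mem_bot] <;> apply comm_eq
      · exact hc x hx y hy
      · exact (hwc x hx).symm
      · exact hwc y hy
      · rfl
  refine ⟨fun a ha => ?_, hcc⟩
  induction ha using Subgroup.closure_induction with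
  | mem y hy => rcases hy with hy | rfl; exacts [hp y hy, hw]
  | one => simp
  | mul x y hx hy ihx ihy =>
    rw [(show Commute x y from hcc x hx y hy).mul_pow, ihx, ihy, one_mul]
  | inv x _ ih => rw [inv_pow, ih, inv_one]

theorem central_of (h : Pair p E₁ E₂ A₁ A₂ B) {x : G} (hn : E₂.Normal) {v : G} (hv : v ∉ E₂)
    (h2 : ∀ b ∈ E₂, b * x = x * b) (hv' : v * x = x * v) : ∀ g : G, g * x = x * g := by
  intro g
  have hle : E₂ ⊔ Subgroup.zpowers v ≤ Subgroup.centralizer {x} := by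
    refine sup_le (fun b hb => Subgroup.mem_centralizer_singleton_iff.2 (h2 b hb))
      (Subgroup.zpowers_le.2 (Subgroup.mem_centralizer_singleton_iff.2 hv'))
  rw [between_top h.pgrp h.s₂.index hv] at hle
  exact Subgroup.mem_centralizer_singleton_iff.1 (hle (Subgroup.mem_top g))

theorem lgen_fix (h : Pair p E₁ E₂ A₁ A₂ B)
    (n₁ : OTriv p A₁ (omZ p (⊤ : Subgroup G)) ⊥) {l : MulAut E₁} (hl : l ∈ Lgen A₁) {x : E₁}
    (hx : (x : G) ∈ omZ p (⊤ : Subgroup G)) : ((l x : E₁) : G) = x := by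
  let H : Subgroup (MulAut E₁) :=
    { carrier := {a | ∀ y : E₁, (y : G) ∈ omZ p (⊤ : Subgroup G) → a y = y}
      one_mem' := fun _ _ => rfl
      mul_mem' := fun {a b} ha hb y hy => by rw [MulAut.mul_apply, hb y hy, ha y hy]
      inv_mem' := fun {a} ha y hy => by
        conv_lhs => rw [← ha y hy]
        rw [MulAut.inv_apply_self] }
  have hT : cT E₁ ≤ H := fun γ hγ y hy => by
    obtain ⟨g, hg⟩ := (mem_cT h.s₁.normal).1 hγ
    refine Subtype.ext ?_
    rw [hg, hy.2.2 g trivial, mul_inv_cancel_right]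
  have hco : ∀ α ∈ Lgen A₁, (orderOf α).Coprime p → α ∈ H := fun α hα ho y hy => by
    have := Subgroup.mem_bot.1 (n₁ α hα ho y hy)
    exact Subtype.ext (inv_mul_eq_one.1 this).symm
  exact congrArg Subtype.val (h.s₁.lgen_induction h.pgrp hT hco hl x hx)

theorem omZ_le₁ (h : Pair p E₁ E₂ A₁ A₂ B) : omZ p (⊤ : Subgroup G) ≤ omZ p E₁ := fun z hz =>
  ⟨h.s₁.centric h.pgrp (Subgroup.mem_centralizer_iff.2 fun x _ => hz.2.2 x trivial), hz.2.1,
    fun x _ => hz.2.2 x trivial⟩

theorem omZ_le₂ (h : Pair p E₁ E₂ A₁ A₂ B) : omZ p (⊤ : Subgroup G) ≤ omZ p E₂ :=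
  omZ_le₁ h.symm

/-- No nontrivial `A₂`-invariant subgroup of `Ω₁ Z(G)`. -/
theorem small (h : Pair p E₁ E₂ A₁ A₂ B) (hI : Irr p A₁ A₂ B)
    (n₁ : OTriv p A₁ (omZ p (⊤ : Subgroup G)) ⊥) {X : Subgroup G}
    (hXZ : X ≤ omZ p (⊤ : Subgroup G)) (hX : InvA A₂ X) : X = ⊥ := by
  have hX₁ : X ≤ E₁ := fun x hx => (omZ_le₁ h (hXZ hx)).1
  have hX₂ : X ≤ E₂ := fun x hx => (omZ_le₂ h (hXZ hx)).1
  have hB : InvB B X := invB_of_invA h.r₂ hX₂ hX
  have hn := normal_of_invB h.inn hB
  refine hI X ⟨hn, hX₁, hX₂, hB, invA_of_invB h.s₁ h.pgrp hX₁ hB fun l hl x hx => ?_, hX,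
    moves_of_otriv h.s₁ h.pgrp hX₁ hn fun α hα ho x hx => n₁ α hα ho x (hXZ hx),
    moves_of_otriv h.s₂ h.pgrp hX₂ hn fun α hα _ => ?_⟩
  · rw [lgen_fix h n₁ hl (hXZ hx)]
    exact hx
  · refine lgen_trivOn h.s₂.normal h.s₂.cT_le hn inferInstance bot_le hX ?_ ?_ α hα
    · intro β _ y hy
      rw [Subgroup.mem_bot] at hy ⊢
      rw [show y = 1 from Subtype.ext hy, map_one]
      rfl
    · intro g x hx
      rw [(hXZ hx).2.2 g trivial]
      simp

/-- The images of `U` under `A`. -/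
def imgSup {E : Subgroup G} (A : Subgroup (MulAut E)) (U : Subgroup G) : Subgroup G :=
  Subgroup.closure {y | ∃ α ∈ A, ∃ x : E, (x : G) ∈ U ∧ ((α x : E) : G) = y}

theorem imgSup_inv {E : Subgroup G} (A : Subgroup (MulAut E)) (U : Subgroup G) :
    InvA A (imgSup A U) := by
  intro α hα x hx
  have hle : imgSup A U ≤ ((imgSup A U).comap (E.subtype.comp α.toMonoidHom)).map E.subtype := by
    refine (Subgroup.closure_le _).2 ?_
    rintro _ ⟨β, hβ, y, hy, rfl⟩
    exact ⟨β y, Subgroup.subset_closure ⟨α * β, A.mul_mem hα hβ, y, hy, rfl⟩, rfl⟩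
  obtain ⟨y, hy, hyx⟩ := hle hx
  obtain rfl : y = x := Subtype.ext hyx
  exact hy

end CentreOne

set_option maxHeartbeats 1600000 in
theorem centre_one_false (h : Pair p E₁ E₂ A₁ A₂ B) (hI : Irr p A₁ A₂ B)
    (hZ₁ : omZ p E₁ ≤ E₁ ⊓ E₂) (hZ₂ : omZ p E₂ ≤ E₁ ⊓ E₂)
    (n₁ : OTriv p A₁ (omZ p (⊤ : Subgroup G)) ⊥)
    (m₂ : ¬ OTriv p A₂ (omZ p (⊤ : Subgroup G)) ⊥) : False := by
  have hpp : p.Prime := Fact.out
  have hG := h.pgrp
  have hp3 : p ^ 3 < p ^ 4 := Nat.pow_lt_pow_right hpp.one_lt (by norm_num)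
  set Z := omZ p (⊤ : Subgroup G) with hZdef
  set W₂ := omZ p E₂ with hW₂def
  haveI hZn : Z.Normal := omZ_top_normal
  haveI hE₁n : E₁.Normal := h.s₁.normal
  haveI hE₂n : E₂.Normal := h.s₂.normal
  have hZc : ∀ z ∈ Z, ∀ g : G, g * z = z * g := fun z hz g => hz.2.2 g trivial
  have hZW : Z ≤ W₂ := omZ_le₂ h
  have hW₁ : W₂ ≤ E₁ := hZ₂.trans inf_le_left
  have hW₂E : W₂ ≤ E₂ := hZ₂.trans inf_le_right
  have hW₂A : InvA A₂ W₂ := invA_omZ A₂
  have hW₂B : InvB B W₂ := invB_of_invA h.r₂ hW₂E hW₂A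
  haveI hW₂n : W₂.Normal := normal_of_invB h.inn hW₂B
  have hW₂ab : ∀ a ∈ W₂, ∀ b ∈ W₂, a * b = b * a := fun a ha b hb => hb.2.2 a ha.1
  have hW₂card : Nat.card W₂ ≤ p ^ 3 := elem_le h (fun a ha => ha.2.1) hW₂ab
  -- `Z` is not invariant under `A₂`
  have hZ2inv : ¬ InvA A₂ Z := fun hinv => m₂ fun α hα _ => by
    refine lgen_trivOn h.s₂.normal h.s₂.cT_le hZn inferInstance bot_le hinv ?_ ?_ α hα
    · intro β _ y hy
      rw [Subgroup.mem_bot] at hy ⊢
      rw [show y = 1 from Subtype.ext hy, map_one]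
      rfl
    · intro g x hx
      rw [hZc x hx g]
      simp
  have hsmall : ∀ {X : Subgroup G}, X ≤ Z → InvA A₂ X → X = ⊥ := fun hXZ hX => small h hI n₁ hXZ hX
  have hZne : Z ≠ ⊥ := fun e => hZ2inv fun α _ x hx => by
    rw [e, Subgroup.mem_bot] at hx ⊢
    rw [show x = 1 from Subtype.ext hx, map_one]
    rfl
  have hZp : p ≤ Nat.card Z := by
    have := card_step hG (bot_lt_iff_ne_bot.2 hZne)
    rwa [Subgroup.card_bot, one_mul] at this
  have hZB : InvB B Z := fun β _ z hz => mem_omZ_top (by rw [← map_pow, hz.2.1, map_one])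
    fun g => by
      obtain ⟨g₀, rfl⟩ := β.surjective g
      rw [← map_mul, ← map_mul, hZc z hz g₀]
  have hZE₁ : Z ≤ E₁ := fun z hz => (omZ_le₁ h hz).1
  have hZA₁ : InvA A₁ Z := invA_of_invB h.s₁ hG hZE₁ hZB fun l hl x hx => by
    rw [lgen_fix h n₁ hl hx]
    exact hx
  -- the fixed points `U` of `W₂ / Z`
  set U := comSub W₂ ⊤ Z hZn with hUdef
  have hUW : U ≤ W₂ := fun x hx => hx.1
  have hUm : ∀ x ∈ U, ∀ g : G, x * g * x⁻¹ * g⁻¹ ∈ Z := fun x hx g => hx.2 g trivial
  have hZU : Z ≤ U := fun z hz => ⟨hZW hz, fun g _ => by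
    rw [comm_eq (hZc z hz g).symm]; exact Z.one_mem⟩
  have hZU' : Z < U := by
    have hlt : Z < W₂ := lt_of_le_of_ne hZW fun e => hZ2inv (e.symm ▸ hW₂A)
    obtain ⟨x, hx, hxZ, hg⟩ := exists_step hG hW₂n hZn hlt
    exact lt_of_le_of_ne hZU fun e => hxZ (e.symm ▸ ⟨hx, fun g _ => hg g⟩)
  have hUB : InvB B U := fun β hβ x hx => ⟨hW₂B β hβ x hx.1, fun g _ => by
    obtain ⟨g₀, rfl⟩ := β.surjective g
    rw [← map_inv, ← map_inv, ← map_mul, ← map_mul, ← map_mul]
    exact hZB β hβ _ (hUm x hx g₀)⟩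
  haveI hUn : U.Normal := normal_of_invB h.inn hUB
  have hUE₁ : U ≤ E₁ := hUW.trans hW₁
  -- the join `V` of the images
  set V := imgSup A₁ U with hVdef
  have hVA : InvA A₁ V := imgSup_inv A₁ U
  have hVE₁ : V ≤ E₁ := (Subgroup.closure_le _).2 (by rintro _ ⟨α, -, x, -, rfl⟩; exact (α x).2)
  have hUV : U ≤ V := fun x hx =>
    Subgroup.subset_closure ⟨1, A₁.one_mem, ⟨x, hUE₁ hx⟩, hx, rfl⟩
  haveI hVn : V.Normal := normal_of_invB h.inn (invB_of_invA h.r₁ hVE₁ hVA)
  have hVE : ∀ a ∈ V, ∀ e ∈ E₁, a * e * a⁻¹ * e⁻¹ ∈ Z := by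
    have hle : V ≤ comSub E₁ E₁ Z hZn := by
      refine (Subgroup.closure_le _).2 ?_
      rintro _ ⟨α, hα, x, hx, rfl⟩
      refine ⟨(α x).2, fun e he => ?_⟩
      obtain ⟨e₀, he₀⟩ := α.surjective ⟨e, he⟩
      have h1 := hZA₁ α hα (x * e₀ * x⁻¹ * e₀⁻¹) (by simpa using hUm x hx e₀)
      simpa [map_mul, map_inv, he₀] using h1
    exact fun a ha e he => (hle ha).2 e he
  have hVp : ∀ a ∈ V, a ^ p = 1 := by
    intro a ha
    induction ha using Subgroup.closure_induction with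
    | mem y hy =>
      obtain ⟨α, -, x, hx, rfl⟩ := hy
      rw [← Subgroup.coe_pow, ← map_pow, show x ^ p = 1 from Subtype.ext (hUW hx).2.1, map_one]
      rfl
    | one => simp
    | mul x y hx hy ihx ihy =>
      have hc := hVE y hy x (hVE₁ hx)
      rw [mul_pow_eq_one h.odd (c := y * x * y⁻¹ * x⁻¹) (by group) (hZc _ hc x).symm
        (hZc _ hc y).symm hc.2.1, ihx, ihy, one_mul]
    | inv x _ ih => rw [inv_pow, ih, inv_one]
  by_cases hcase : V ≤ E₂
  swap
  · -- some image lies outside `E₂`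
    obtain ⟨v, hvV, hvE⟩ := SetLike.not_le_iff_exists.1 hcase
    have hvE₁ := hVE₁ hvV
    have hZpow : ∀ z ∈ Z, ∀ x : G, x * z = z * x := hZc
    obtain ⟨u, huU, huZ⟩ := Set.exists_of_ssubset (SetLike.coe_ssubset_coe.2 hZU')
    have huv : v * u * v⁻¹ * u⁻¹ ≠ 1 := fun e => huZ (mem_omZ_top (hUW huU).2.1
      (central_of h hE₂n hvE (hUW huU).2.2 (eq_comm_of e)))
    -- elements of `V ⊓ E₂` centralise `D`
    have hcl : ∀ w ∈ V, w ∈ E₂ → ∀ d ∈ E₁, d ∈ E₂ → w * d = d * w := by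
      intro w hwV hwE d hd₁ hd₂
      by_contra hne
      have hwU : w ∉ U := fun hh => hne ((hUW hh).2.2 d hd₂).symm
      have hUp : ∀ a ∈ U, a ^ p = 1 := fun a ha => (hUW ha).2.1
      have hUc : ∀ a ∈ U, ∀ b ∈ U, a * b = b * a := fun a ha b hb => hW₂ab a (hUW ha) b (hUW hb)
      obtain ⟨e1, e2⟩ := elem_sup hUp hUc (hVp w hwV)
        (fun a ha => (hUW ha).2.2 w hwE)
      have hb := elem_le h e1 e2
      have hZcard : Nat.card Z = p := by
        refine le_antisymm ?_ hZp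
        have h1 := card_step hG hZU'
        have h2 := card_step hG (lt_sup_zpowers hwU)
        refine Nat.le_of_mul_le_mul_right (c := p * p) ?_ (Nat.mul_pos hpp.pos hpp.pos)
        calc Nat.card Z * (p * p) = Nat.card Z * p * p := (mul_assoc _ _ _).symm
          _ ≤ Nat.card U * p := Nat.mul_le_mul_right p h1
          _ ≤ p ^ 3 := h2.trans hb
          _ = p * (p * p) := by ring
      obtain ⟨c, hc⟩ : ∃ c, c = v * u * v⁻¹ * u⁻¹ := ⟨_, rfl⟩
      have hcZ : c ∈ Z := hc ▸ hVE v hvV u (hUE₁ huU)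
      have hgen : ∀ z ∈ Z, ∃ i : ℤ, c ^ i = z := fun z hz => by
        have e : Subgroup.zpowers c = Z := by
          refine Subgroup.eq_of_le_of_card_ge (Subgroup.zpowers_le.2 hcZ) ?_
          have hlt : (⊥ : Subgroup G) < Subgroup.zpowers c := bot_lt_iff_ne_bot.2 fun e =>
            huv (hc ▸ Subgroup.zpowers_eq_bot.1 e)
          have := card_step hG hlt
          rw [Subgroup.card_bot, one_mul] at this
          omega
        exact Subgroup.mem_zpowers_iff.1 (e.symm ▸ hz)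
      have fix : ∀ x ∈ E₁, ∃ i : ℤ, v * (x * u ^ i) = x * u ^ i * v := fun x hx => by
        obtain ⟨i, hi⟩ := hgen _ (Z.inv_mem (hVE v hvV x hx))
        refine ⟨i, eq_comm_of ?_⟩
        have e := comm_zpow_right hc.symm (hZc c hcZ u).symm i
        rw [comm_mul_right _ _ _ (by rw [e]; exact hZc _ (Z.zpow_mem hcZ i) x), e, hi]
        group
      obtain ⟨i, hi⟩ := fix w (hVE₁ hwV)
      obtain ⟨j, hj⟩ := fix d hd₁
      have huc : ∀ k : ℤ, ∀ x ∈ E₂, x * u ^ k = u ^ k * x := fun k x hx =>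
        ((show Commute x u from (hUW huU).2.2 x hx)).zpow_right k
      set w' := w * u ^ i with hw'def
      set d' := d * u ^ j with hd'def
      have hw'V : w' ∈ V := V.mul_mem hwV (V.zpow_mem (hUV huU) i)
      have hw'E : w' ∈ E₂ := E₂.mul_mem hwE (E₂.zpow_mem (hW₂E (hUW huU)) i)
      have hd'₁ : d' ∈ E₁ := E₁.mul_mem hd₁ (E₁.zpow_mem (hUE₁ huU) j)
      have hd'₂ : d' ∈ E₂ := E₂.mul_mem hd₂ (E₂.zpow_mem (hW₂E (hUW huU)) j)
      have hne' : ¬ w' * d' = d' * w' := fun e => hne (by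
        have h1 : w' * d' = w * d * (u ^ i * u ^ j) := by
          rw [hw'def, hd'def, mul_assoc w, ← mul_assoc (u ^ i), ← huc i d hd₂]
          simp only [mul_assoc]
        have h2 : d' * w' = d * w * (u ^ i * u ^ j) := by
          rw [hw'def, hd'def, mul_assoc d, ← mul_assoc (u ^ j), ← huc j w hwE, mul_assoc w,
            ← zpow_add, ← zpow_add, add_comm j i]
          simp only [mul_assoc]
        rw [h1, h2] at e
        exact mul_right_cancel e)
      have hwdp : w' * d' ^ p = d' ^ p * w' := by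
        have hc' := hVE w' hw'V d' hd'₁
        refine eq_comm_of ?_
        rw [← conj_pow, show w' * d' * w'⁻¹ = (w' * d' * w'⁻¹ * d'⁻¹) * d' by group,
          (show Commute (w' * d' * w'⁻¹ * d'⁻¹) d' from (hZc _ hc' d').symm).mul_pow, hc'.2.1,
          one_mul, mul_inv_cancel]
      set R := Z ⊔ Subgroup.zpowers (d' ^ p) with hRdef
      set L1 := R ⊔ Subgroup.zpowers w' with hL1
      set L2 := L1 ⊔ Subgroup.zpowers u with hL2
      set L3 := L2 ⊔ Subgroup.zpowers d' with hL3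
      set L4 := L3 ⊔ Subgroup.zpowers v with hL4
      have cen : ∀ (y : G) (A : Subgroup G) (x : G), A ≤ Subgroup.centralizer {y} → x * y = y * x →
          A ⊔ Subgroup.zpowers x ≤ Subgroup.centralizer {y} := fun y A x hA hxy =>
        sup_le hA (Subgroup.zpowers_le.2 (Subgroup.mem_centralizer_singleton_iff.2 hxy))
      have cZ : ∀ y : G, Z ≤ Subgroup.centralizer {y} := fun y z hz =>
        Subgroup.mem_centralizer_singleton_iff.2 (hZc z hz y).symm
      have hR_d : R ≤ Subgroup.centralizer {d'} := cen _ _ _ (cZ _) (Commute.pow_self d' p)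
      have hdv : d' * v = v * d' := hj.symm
      have hwv : w' * v = v * w' := hi.symm
      have hL1v : L1 ≤ Subgroup.centralizer {v} :=
        cen _ _ _ (cen _ _ _ (cZ _) ((show Commute d' v from hdv).pow_left p)) hwv
      have hwu : u * w' = w' * u := ((hUW huU).2.2 w' hw'E).symm
      have hL2w : L2 ≤ Subgroup.centralizer {w'} :=
        cen _ _ _ (cen _ _ _ (cen _ _ _ (cZ _) hwdp.symm) rfl) hwu
      have hL3u : L3 ≤ Subgroup.centralizer {u} :=
        cen _ _ _ (cen _ _ _ (cen _ _ _ (cen _ _ _ (cZ _)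
          ((show Commute d' u from (hUW huU).2.2 d' hd'₂).pow_left p)) hwu.symm) rfl)
          ((hUW huU).2.2 d' hd'₂)
      have n1 : w' ∉ R := fun hh => hne' (Subgroup.mem_centralizer_singleton_iff.1 (hR_d hh))
      have n2 : u ∉ L1 := fun hh => huv (comm_eq
        (Subgroup.mem_centralizer_singleton_iff.1 (hL1v hh)).symm)
      have n3 : d' ∉ L2 := fun hh =>
        hne' (Subgroup.mem_centralizer_singleton_iff.1 (hL2w hh)).symm
      have n4 : v ∉ L3 := fun hh =>
        huv (comm_eq (Subgroup.mem_centralizer_singleton_iff.1 (hL3u hh)))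
      set S : Set G := (Z : Set G) ∪ {d', v, u, w'} with hSdef
      have hsub : ∀ y ∈ S, y ∈ E₁ ∧ (y ∈ V ∨ y = d') := by
        rintro y (hy | rfl | rfl | rfl | rfl)
        · exact ⟨hZE₁ hy, Or.inl (hUV (hZU hy))⟩
        · exact ⟨hd'₁, Or.inr rfl⟩
        · exact ⟨hvE₁, Or.inl hvV⟩
        · exact ⟨hUE₁ huU, Or.inl (hUV huU)⟩
        · exact ⟨hVE₁ hw'V, Or.inl hw'V⟩
      have hL4S : L4 ≤ Subgroup.closure S := by
        have m : ∀ y ∈ S, Subgroup.zpowers y ≤ Subgroup.closure S := fun y hy =>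
          Subgroup.zpowers_le.2 (Subgroup.subset_closure hy)
        refine sup_le (sup_le (sup_le (sup_le (sup_le
          (fun z hz => Subgroup.subset_closure (Or.inl hz)) ?_) ?_) ?_) ?_) ?_
        · exact Subgroup.zpowers_le.2
            ((Subgroup.closure S).pow_mem (Subgroup.subset_closure (Or.inr (by simp))) p)
        all_goals exact m _ (Or.inr (by simp))
      have hpair : ∀ a ∈ S, ∀ b ∈ S, a * b * a⁻¹ * b⁻¹ ∈ Z := fun a ha b hb => by
        rcases (hsub a ha).2 with haV | rfl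
        · exact hVE a haV b (hsub b hb).1
        · rcases (hsub b hb).2 with hbV | rfl
          · exact comm_inv_mem (hVE b hbV _ hd'₁)
          · rw [comm_eq rfl]; exact Z.one_mem
      have hcomm : ∀ a ∈ L4, ∀ b ∈ L4, a * b * a⁻¹ * b⁻¹ ∈ Z := fun a ha b hb =>
        comm_mem_closure (fun z hz x _ => hZc z hz x) hpair (hL4S ha) (hL4S hb)
      have hpw : ∀ a ∈ Subgroup.closure S, a ^ p ∈ R := by
        intro a ha
        induction ha using Subgroup.closure_induction with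
        | mem y hy =>
          rcases (hsub y hy).2 with hyV | rfl
          · rw [hVp y hyV]; exact R.one_mem
          · exact Subgroup.mem_sup_right (Subgroup.mem_zpowers _)
        | one => simp
        | mul x y hx hy ihx ihy =>
          have hc := comm_mem_closure (fun z hz x _ => hZc z hz x) hpair hy hx
          rw [mul_pow_eq_one h.odd (c := y * x * y⁻¹ * x⁻¹) (by group) (hZc _ hc x).symm
            (hZc _ hc y).symm hc.2.1]
          exact R.mul_mem ihx ihy
        | inv x _ ih => rw [inv_pow]; exact R.inv_mem ih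
      have hRL : R ≤ L4 :=
        le_sup_left.trans (le_sup_left.trans (le_sup_left.trans le_sup_left))
      have hidx := h.rank L4 R hRL (fun a ha => hpw a (hL4S ha))
        fun a ha b hb => Subgroup.mem_sup_left (hcomm a ha b hb)
      have e : Nat.card R * R.relIndex L4 = Nat.card L4 := by
        rw [← Nat.card_congr (Subgroup.subgroupOfEquivOfLe hRL).toEquiv]
        exact Subgroup.card_mul_index (R.subgroupOf L4)
      have big : Nat.card R * p ^ 4 ≤ Nat.card L4 := by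
        calc Nat.card R * p ^ 4 = Nat.card R * p * p * p * p := by ring
          _ ≤ Nat.card L1 * p * p * p := Nat.mul_le_mul_right p (Nat.mul_le_mul_right p
              (Nat.mul_le_mul_right p (card_step hG (lt_sup_zpowers n1))))
          _ ≤ Nat.card L2 * p * p := Nat.mul_le_mul_right p (Nat.mul_le_mul_right p
              (card_step hG (lt_sup_zpowers n2)))
          _ ≤ Nat.card L3 * p := Nat.mul_le_mul_right p (card_step hG (lt_sup_zpowers n3))
          _ ≤ Nat.card L4 := card_step hG (lt_sup_zpowers n4)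
      rw [← e] at big
      have := Nat.le_of_mul_le_mul_left big Nat.card_pos
      omega
    -- `d ↦ [v, d]` is invariant under `E₂`
    let f : G → G := fun d => v * d * v⁻¹ * d⁻¹
    have hfdef : ∀ d, f d = v * d * v⁻¹ * d⁻¹ := fun _ => rfl
    have hfmem : ∀ d ∈ E₁, f d ∈ Z := fun d hd => hVE v hvV d hd
    have hfinv : ∀ x ∈ E₂, ∀ d ∈ E₁, d ∈ E₂ → f (x * d * x⁻¹) = f d := by
      intro x hx d hd₁ hd₂
      obtain ⟨s, hs⟩ : ∃ s, s = v⁻¹ * (x⁻¹ * v * x) := ⟨_, rfl⟩
      have hsV : s ∈ V := hs ▸ V.mul_mem (V.inv_mem hvV)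
        (by simpa using hVn.conj_mem v hvV x⁻¹)
      have hsE : s ∈ E₂ := hs ▸ by
        simpa [mul_assoc] using E₂.mul_mem (hE₂n.conj_mem _ (E₂.inv_mem hx) v⁻¹) hx
      have hsd := hcl s hsV hsE d hd₁ hd₂
      calc f (x * d * x⁻¹) = x * ((v * s) * d * (v * s)⁻¹ * d⁻¹) * x⁻¹ := by
            rw [hfdef, hs]; group
        _ = x * f d * x⁻¹ := by
            rw [hfdef]
            congr 2
            calc v * s * d * (v * s)⁻¹ * d⁻¹ = v * (s * d) * s⁻¹ * v⁻¹ * d⁻¹ := by group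
              _ = v * d * v⁻¹ * d⁻¹ := by rw [hsd]; group
        _ = f d := by rw [hZc _ (hfmem d hd₁) x, mul_inv_cancel_right]
    obtain ⟨t, ht₂, ht₁⟩ : ∃ t ∈ E₂, t ∉ E₁ := SetLike.not_le_iff_exists.1 fun hle => h.ne
      (eq_of_relIndex_one hle (by
        rcases between (p := p) hle le_top (by rw [Subgroup.relIndex_top_right]; exact h.s₂.index)
          with e | e
        · rw [e]; exact Subgroup.relIndex_self _
        · exact absurd (Subgroup.index_top) (e ▸ h.s₁.index.trans_ne hpp.ne_one))).symm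
    have hdec : ∀ a ∈ E₂, ∃ d ∈ E₁, d ∈ E₂ ∧ ∃ i : ℤ, a = d * t ^ i := by
      intro a ha
      have hm : a ∈ E₁ ⊔ Subgroup.zpowers t := by
        rw [between_top hG h.s₁.index ht₁]; trivial
      obtain ⟨d, hd, z, hz, rfl⟩ := Subgroup.mem_sup_of_normal_left.1 hm
      obtain ⟨i, rfl⟩ := Subgroup.mem_zpowers_iff.1 hz
      exact ⟨d, hd, (E₂.mul_mem_cancel_right (E₂.zpow_mem ht₂ i)).1 ha, i, rfl⟩
    have hfmul : ∀ a b, b ∈ E₁ → f (a * b) = f a * f b := fun a b hb =>
      comm_mul_right _ _ _ (hZc _ (hfmem b hb) a)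
    have hfi : ∀ a ∈ E₁, f a⁻¹ = (f a)⁻¹ := fun a ha => by
      refine eq_inv_of_mul_eq_one_left ?_
      rw [← hfmul _ _ ha, inv_mul_cancel, hfdef]
      group
    have hcomm : ∀ a ∈ E₂, ∀ b ∈ E₂, v * (a * b * a⁻¹ * b⁻¹) = a * b * a⁻¹ * b⁻¹ * v := by
      intro a ha b hb
      obtain ⟨d, hd, hd', i, rfl⟩ := hdec a ha
      obtain ⟨e, he, he', j, rfl⟩ := hdec b hb
      have hei : t ^ i * e * (t ^ i)⁻¹ ∈ E₁ := hE₁n.conj_mem e he _
      have hdj : t ^ j * d⁻¹ * (t ^ j)⁻¹ ∈ E₁ := hE₁n.conj_mem _ (E₁.inv_mem hd) _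
      have key : f (d * (t ^ i * e * (t ^ i)⁻¹) * (t ^ j * d⁻¹ * (t ^ j)⁻¹) * e⁻¹) = 1 := by
        rw [hfmul _ _ (E₁.inv_mem he), hfmul _ _ hdj, hfmul _ _ hei,
          hfinv _ (E₂.zpow_mem ht₂ i) e he he',
          hfinv _ (E₂.zpow_mem ht₂ j) _ (E₁.inv_mem hd) (E₂.inv_mem hd'), hfi e he, hfi d hd]
        have := hZc _ (hfmem e he) (f d)
        rw [this]
        group
      have e' : d * t ^ i * (e * t ^ j) * (d * t ^ i)⁻¹ * (e * t ^ j)⁻¹ =
          d * (t ^ i * e * (t ^ i)⁻¹) * (t ^ j * d⁻¹ * (t ^ j)⁻¹) * e⁻¹ := by group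
      rw [e']
      exact eq_comm_of key
    -- hence `E₂` is abelian
    have hab : ∀ a ∈ E₂, ∀ b ∈ E₂, a * b = b * a := by
      let K : Subgroup E₂ := commutator E₂
      have hXA : InvA A₂ (K.map E₂.subtype ⊓ W₂) := fun α hα x hx =>
        ⟨invA_map_char K α hα x hx.1, hW₂A α hα x hx.2⟩
      have hKv : K.map E₂.subtype ≤ Subgroup.centralizer {v} := by
        rw [Subgroup.map_le_iff_le_comap]
        refine Subgroup.commutator_le.2 fun a _ b _ => ?_
        show ((⁅a, b⁆ : E₂) : G) ∈ Subgroup.centralizer {v}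
        refine Subgroup.mem_centralizer_singleton_iff.2 (Eq.symm ?_)
        simpa [commutatorElement_def] using hcomm a a.2 b b.2
      have hX : K.map E₂.subtype ⊓ W₂ = ⊥ := hsmall (fun x hx => mem_omZ_top hx.2.2.1
        (central_of h hE₂n hvE hx.2.2.2
          (Subgroup.mem_centralizer_singleton_iff.1 (hKv hx.1)).symm)) hXA
      have hKbot : K.map E₂.subtype = ⊥ := by
        by_contra hne
        have hKn : (K.map E₂.subtype).Normal :=
          normal_of_invB h.inn (invB_of_invA h.r₂ (Subgroup.map_subtype_le _) (invA_map_char K))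
        obtain ⟨z, hz, hz1, hzZ⟩ := exists_omZ hG hKn hne
        exact hz1 (Subgroup.mem_bot.1 (hX ▸ ⟨hz, hZW hzZ⟩))
      intro a ha b hb
      refine eq_comm_of (Subgroup.mem_bot.1 (hKbot ▸ ⟨⁅(⟨a, ha⟩ : E₂), ⟨b, hb⟩⁆, ?_, ?_⟩))
      · exact Subgroup.commutator_mem_commutator (Subgroup.mem_top _) (Subgroup.mem_top _)
      · simp [commutatorElement_def]
    -- `p`-th powers of `E₂` commute with `v`
    have hpv : ∀ y ∈ E₂, v * y ^ p = y ^ p * v := by
      intro y hy
      obtain ⟨s, hs⟩ : ∃ s, s = v * y * v⁻¹ * y⁻¹ := ⟨_, rfl⟩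
      have hsE : s ∈ E₂ := hs ▸ E₂.mul_mem (hE₂n.conj_mem y hy v) (E₂.inv_mem hy)
      have hsV : s ∈ V := hs ▸ by
        simpa [mul_assoc] using V.mul_mem hvV (hVn.conj_mem _ (V.inv_mem hvV) y)
      refine eq_comm_of ?_
      rw [← conj_pow, show v * y * v⁻¹ = s * y by rw [hs]; group,
        (show Commute s y from hab s hsE y hy).mul_pow, hVp s hsV, one_mul, mul_inv_cancel]
    let P : Subgroup G :=
      { carrier := {x | x ^ p = 1 ∧ ∃ y ∈ E₂, y ^ p = x}
        one_mem' := ⟨one_pow p, 1, E₂.one_mem, one_pow p⟩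
        mul_mem' := by
          rintro _ _ ⟨h1, y, hy, rfl⟩ ⟨h2, z, hz, rfl⟩
          refine ⟨?_, y * z, E₂.mul_mem hy hz, (show Commute y z from hab y hy z hz).mul_pow p⟩
          rw [((show Commute y z from hab y hy z hz).pow_pow p p).mul_pow, h1, h2, one_mul]
        inv_mem' := by
          rintro _ ⟨h1, y, hy, rfl⟩
          exact ⟨by rw [inv_pow, h1, inv_one], y⁻¹, E₂.inv_mem hy, inv_pow y p⟩ }
    have hP : P = ⊥ := hsmall (by
      rintro _ ⟨h1, y, hy, rfl⟩
      exact mem_omZ_top h1 (central_of h hE₂n hvE (fun b hb => hab b hb _ (E₂.pow_mem hy p))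
        (hpv y hy))) (by
      rintro α - x ⟨h1, y, hy, hyx⟩
      refine ⟨?_, (α ⟨y, hy⟩ : E₂), (α _).2, ?_⟩
      · rw [← Subgroup.coe_pow, ← map_pow, show x ^ p = 1 from Subtype.ext h1, map_one]
        rfl
      · rw [← Subgroup.coe_pow, ← map_pow]
        exact congrArg (fun w => ((α w : E₂) : G)) (Subtype.ext hyx))
    refine ht₁ (hW₁ ⟨ht₂, ?_, fun x hx => hab x hx t ht₂⟩)
    by_contra hne
    obtain ⟨k, hk⟩ := hG t
    classical
    have hex : ∃ k, t ^ p ^ k = 1 := ⟨k, hk⟩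
    have hlt : 1 < Nat.find hex := by
      refine lt_of_not_ge fun hh => ?_
      rcases Nat.le_one_iff_eq_zero_or_eq_one.1 hh with e | e <;>
        · have := Nat.find_spec hex
          rw [e] at this
          simp only [pow_zero, pow_one] at this
          exact hne (by simp [this])
    obtain ⟨m, hm⟩ : ∃ m, Nat.find hex = m + 2 := ⟨_, (Nat.sub_add_cancel hlt).symm⟩
    refine Nat.find_min hex (m := m + 1) (by omega) (Subgroup.mem_bot.1 (hP ▸ ⟨?_, t ^ p ^ m,
      E₂.pow_mem ht₂ _, ?_⟩))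
    · rw [← pow_mul, ← pow_succ]
      exact hm ▸ Nat.find_spec hex
    · rw [← pow_mul, ← pow_succ]
  -- now `V ≤ E₂`
  have hVab : ∀ a ∈ V, ∀ b ∈ V, a * b = b * a := by
    have hgen : ∀ α ∈ A₁, ∀ x : E₁, (x : G) ∈ U → ∀ b ∈ V,
        b * ((α x : E₁) : G) = ((α x : E₁) : G) * b := by
      intro α hα x hx b hb
      obtain ⟨b₀, hb₀⟩ := α.surjective ⟨b, hVE₁ hb⟩
      have hb₀V : (b₀ : G) ∈ V := by
        have := hVA α⁻¹ (A₁.inv_mem hα) ⟨b, hVE₁ hb⟩ hb
        rwa [← hb₀, MulAut.inv_apply_self] at this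
      have e : b₀ * x = x * b₀ := Subtype.ext ((hUW hx).2.2 _ (hcase hb₀V))
      have := congrArg (fun w => ((α w : E₁) : G)) e
      simpa [map_mul, hb₀] using this
    intro a ha b hb
    have hle : V ≤ Subgroup.centralizer {b} := by
      refine (Subgroup.closure_le _).2 ?_
      rintro _ ⟨α, hα, x, hx, rfl⟩
      exact Subgroup.mem_centralizer_singleton_iff.2 (hgen α hα x hx b hb).symm
    exact Subgroup.mem_centralizer_singleton_iff.1 (hle ha)
  have hVcard : Nat.card V ≤ p ^ 3 := elem_le h hVp hVab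
  have hUcard : Nat.card Z * p ≤ Nat.card U := card_step hG hZU'
  -- `Φ(E₂) ⊓ W₂`
  set F₂ := (frattini E₂).map E₂.subtype with hF₂def
  have hFA : InvA A₂ F₂ := invA_map_char _
  haveI hFn : F₂.Normal := normal_of_invB h.inn (invB_of_invA h.r₂ (Subgroup.map_subtype_le _) hFA)
  have hFne : F₂ ≠ ⊥ := fun e => by
    have hf : ∀ x : E₂, x ∈ frattini E₂ → (x : G) = 1 := fun x hx =>
      Subgroup.mem_bot.1 (e ▸ Subgroup.mem_map_of_mem _ hx)
    refine h.ne.symm ?_
    have hle : E₂ ≤ E₁ := fun y hy => hW₁ ⟨hy, ?_, fun x hx => ?_⟩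
    · rcases between (p := p) hle le_top (by
        rw [Subgroup.relIndex_top_right]; exact h.s₂.index) with e' | e'
      · exact e'.symm
      · exact absurd (Subgroup.index_top) (e' ▸ h.s₁.index.trans_ne hpp.ne_one)
    · simpa using hf _ (Cfsg.Agent.PGroup.pow_mem_frattini (hG.to_subgroup E₂) ⟨y, hy⟩)
    · refine eq_comm_of ?_
      simpa [commutatorElement_def] using hf _
        (Cfsg.Agent.PGroup.commutator_le_frattini (hG.to_subgroup E₂)
          (Subgroup.commutator_mem_commutator (Subgroup.mem_top (⟨x, hx⟩ : E₂))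
            (Subgroup.mem_top (⟨y, hy⟩ : E₂))))
  have hYcard : p * p ≤ Nat.card ↥(W₂ ⊓ F₂) := by
    obtain ⟨z, hz, hz1, hzZ⟩ := exists_omZ hG hFn hFne
    have hne : Z ⊓ (W₂ ⊓ F₂) ≠ ⊥ := fun e =>
      hz1 (Subgroup.mem_bot.1 (e ▸ ⟨hzZ, hZW hzZ, hz⟩))
    have hnot : ¬ W₂ ⊓ F₂ ≤ Z := fun hle => hne (by
      rw [inf_eq_right.2 hle]
      exact hsmall hle fun α hα x hx => ⟨hW₂A α hα x hx.1, hFA α hα x hx.2⟩)
    have h1 := card_step hG (bot_lt_iff_ne_bot.2 hne)
    have h2 := card_step hG (lt_of_le_of_ne inf_le_right fun e => hnot (e ▸ inf_le_left) :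
      Z ⊓ (W₂ ⊓ F₂) < W₂ ⊓ F₂)
    rw [Subgroup.card_bot, one_mul] at h1
    exact (Nat.mul_le_mul_right p h1).trans h2
  by_cases hVU : V ≤ U
  · -- `U` is `A₁`-invariant, so `W₂` is good
    have hUA : InvA A₁ U := fun α hα x hx => hVU (hVA α hα x (hUV hx))
    have hCU : ∀ y ∈ E₁, (∀ u ∈ U, y * u = u * y) → y ∈ E₂ := fun y _ hyu => by
      by_contra hy
      exact absurd (fun u hu => mem_omZ_top (hUW hu).2.1
        (central_of h hE₂n hy (hUW hu).2.2 (hyu u hu))) (not_le_of_gt hZU')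
    have hD : InvA A₁ (E₁ ⊓ E₂) := fun α hα x hx => ⟨(α x).2, hCU _ (α x).2 fun u hu => by
      obtain ⟨u₀, hu₀⟩ := α.surjective ⟨u, hUE₁ hu⟩
      have hu₀U : (u₀ : G) ∈ U := by
        have := hUA α⁻¹ (A₁.inv_mem hα) ⟨u, hUE₁ hu⟩ hu
        rwa [← hu₀, MulAut.inv_apply_self] at this
      have e : x * u₀ = u₀ * x := Subtype.ext ((hUW hu₀U).2.2 _ hx.2)
      have := congrArg (fun w => ((α w : E₁) : G)) e
      simpa [map_mul, hu₀] using this⟩
    have hΩ : InvA A₁ (omZ p (E₁ ⊓ E₂)) := by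
      rintro α hα x ⟨hxD, hxp, hxc⟩
      refine ⟨hD α hα x hxD, ?_, fun y hy => ?_⟩
      · rw [← Subgroup.coe_pow, ← map_pow, show x ^ p = 1 from Subtype.ext hxp, map_one]
        rfl
      · obtain ⟨y₀, hy₀⟩ := α.surjective ⟨y, hy.1⟩
        have hy₀D : (y₀ : G) ∈ E₁ ⊓ E₂ := by
          have := hD α⁻¹ (A₁.inv_mem hα) ⟨y, hy.1⟩ hy
          rwa [← hy₀, MulAut.inv_apply_self] at this
        have e : y₀ * x = x * y₀ := Subtype.ext (hxc _ hy₀D)
        have := congrArg (fun w => ((α w : E₁) : G)) e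
        simpa [map_mul, hy₀] using this
    have hW₁A : InvA A₁ W₂ := by
      rcases eq_or_lt_of_le hUW with e | hlt
      · rwa [← e]
      rcases eq_or_lt_of_le (show W₂ ≤ omZ p (E₁ ⊓ E₂) from fun x hx =>
          ⟨hZ₂ hx, hx.2.1, fun y hy => hx.2.2 y hy.2⟩) with e | hlt'
      · rwa [e]
      exfalso
      have h1 := card_step hG hlt
      have h2 := card_step hG hlt'
      have h3 := elem_le h (X := omZ p (E₁ ⊓ E₂)) (fun a ha => ha.2.1)
        fun a ha b hb => hb.2.2 a ha.1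
      have := calc p ^ 4 = p * p * p * p := by ring
        _ ≤ Nat.card Z * p * p * p :=
          Nat.mul_le_mul_right p (Nat.mul_le_mul_right p (Nat.mul_le_mul_right p hZp))
        _ ≤ Nat.card U * p * p := Nat.mul_le_mul_right p (Nat.mul_le_mul_right p hUcard)
        _ ≤ Nat.card W₂ * p := Nat.mul_le_mul_right p h1
        _ ≤ p ^ 3 := h2.trans h3
      omega
    have hWU : OTriv p A₁ W₂ U := by
      refine otriv_of_relIndex_le hG hE₁n h.s₁.cT_le hW₁ hW₂n hUn hUW hW₁A hUA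
        (relIndex_le_of_card hUW ?_)
      calc Nat.card W₂ ≤ p ^ 3 := hW₂card
        _ = p * (p * p) := by ring
        _ ≤ p * Nat.card U :=
          Nat.mul_le_mul_left p ((Nat.mul_le_mul_right p hZp).trans hUcard)
    have hot : OTriv p A₁ W₂ ⊥ := fun α hα ho => by
      refine trivOn_trans hG ho hUW bot_le inferInstance (hWU α hα ho) ?_
      refine trivOn_trans hG ho hZU bot_le inferInstance ?_ (n₁ α hα ho)
      exact lgen_trivOn hE₁n h.s₁.cT_le hUn hZn hZU hUA hZA₁ (fun g x hx => by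
        simpa [mul_assoc] using hUm x⁻¹ (U.inv_mem hx) g) α hα
    have hW₂bot := hI W₂ ⟨hW₂n, hW₁, hW₂E, hW₂B, hW₁A, hW₂A,
      moves_of_otriv h.s₁ hG hW₁ hW₂n hot,
      moves_of_frattini h.s₂ hG hW₂E hW₂n hW₂A (relIndex_le_of_card inf_le_left (by
        calc Nat.card W₂ ≤ p ^ 3 := hW₂card
          _ = p * (p * p) := by ring
          _ ≤ p * Nat.card ↥(W₂ ⊓ F₂) := Nat.mul_le_mul_left p hYcard))⟩
    exact hZne (le_bot_iff.1 (hW₂bot ▸ hZW))
  · -- `V` has order `p ^ 3` and is good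
    obtain ⟨v, hvV, hvU⟩ := SetLike.not_le_iff_exists.1 hVU
    have hlt : U < V := lt_of_le_of_ne hUV fun e => hvU (e.symm ▸ hvV)
    have h1 : Nat.card U * p ≤ Nat.card V := card_step hG hlt
    have hUle : Nat.card U ≤ p * p := Nat.le_of_mul_le_mul_right
      ((h1.trans hVcard).trans_eq (by ring)) hpp.pos
    have hZcard : Nat.card Z = p :=
      le_antisymm (Nat.le_of_mul_le_mul_right (hUcard.trans hUle) hpp.pos) hZp
    have hUc : Nat.card U = p * p := le_antisymm hUle ((Nat.mul_le_mul_right p hZp).trans hUcard)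
    have hVc : Nat.card V = p ^ 3 := le_antisymm hVcard (le_of_eq_of_le (by rw [hUc]; ring) h1)
    have hvW : v ∉ W₂ := fun hh => hvU ⟨hh, fun g _ => by
      have hle : E₂ ⊔ E₁ ≤ rel v Z hZn := sup_le (fun x hx => by
        show v * x * v⁻¹ * x⁻¹ ∈ Z
        rw [comm_eq (hh.2.2 x hx).symm]; exact Z.one_mem) fun x hx => hVE v hvV x hx
      refine hle ?_
      have htop : E₂ ⊔ E₁ = ⊤ := by
        obtain ⟨t, ht, ht'⟩ : ∃ t ∈ E₁, t ∉ E₂ := SetLike.not_le_iff_exists.1 fun hle' => by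
          rcases between (p := p) hle' le_top (by
            rw [Subgroup.relIndex_top_right]; exact h.s₁.index) with e | e
          · exact h.ne e.symm
          · exact absurd (Subgroup.index_top) (e ▸ h.s₂.index.trans_ne hpp.ne_one)
        refine top_le_iff.1 ((between_top hG h.s₂.index ht').ge.trans ?_)
        exact sup_le_sup_left (Subgroup.zpowers_le.2 ht) _
      rw [htop]; trivial⟩
    have hWU : W₂ = U := by
      refine (Subgroup.eq_of_le_of_card_ge hUW ?_).symm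
      obtain ⟨e1, e2⟩ := elem_sup (A := W₂) (fun a ha => ha.2.1) hW₂ab (hVp v hvV)
        (fun a ha => ha.2.2 v (hcase hvV))
      have h2 := (card_step hG (lt_sup_zpowers hvW)).trans (elem_le h e1 e2)
      rw [hUc]
      exact Nat.le_of_mul_le_mul_right (h2.trans_eq (by ring)) hpp.pos
    -- no element outside `U` has all commutators with `E₂` in `Z`
    have hL : ∀ x ∈ E₂, x ^ p = 1 → x ∉ U → ∃ y ∈ E₂, x * y * x⁻¹ * y⁻¹ ∉ Z := by
      intro x hx hxp hxU
      by_contra hh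
      push Not at hh
      obtain ⟨y₀, hy₀, hne⟩ : ∃ y ∈ E₂, ¬ x * y = y * x := by
        by_contra hc
        push Not at hc
        exact hxU (hWU ▸ ⟨hx, hxp, fun y hy => (hc y hy).symm⟩)
      set z₀ := x * y₀ * x⁻¹ * y₀⁻¹ with hz₀def
      have hz₀ : z₀ ∈ Z := hh y₀ hy₀
      have hz₀E : z₀ ∈ E₂ := (hZW hz₀).1
      have hgen : ∀ z ∈ Z, ∃ i : ℤ, z₀ ^ i = z := fun z hz => by
        have e : Subgroup.zpowers z₀ = Z := by
          refine Subgroup.eq_of_le_of_card_ge (Subgroup.zpowers_le.2 hz₀) ?_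
          have hlt : (⊥ : Subgroup G) < Subgroup.zpowers z₀ := bot_lt_iff_ne_bot.2 fun e =>
            hne (eq_comm_of (Subgroup.zpowers_eq_bot.1 e))
          have := card_step hG hlt
          rw [Subgroup.card_bot, one_mul] at this
          omega
        exact Subgroup.mem_zpowers_iff.1 (e.symm ▸ hz)
      obtain ⟨α, hα, hαz⟩ : ∃ α ∈ A₂, ((α ⟨z₀, hz₀E⟩ : E₂) : G) ∉ Z := by
        by_contra hc
        push Not at hc
        refine hZ2inv fun α hα z hz => ?_
        obtain ⟨i, hi⟩ := hgen _ hz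
        rw [show z = (⟨z₀, hz₀E⟩ : E₂) ^ i from Subtype.ext (by simpa using hi.symm), map_zpow,
          Subgroup.coe_zpow]
        exact Z.zpow_mem (hc α hα) i
      set x' : G := ((α ⟨x, hx⟩ : E₂) : G) with hx'def
      have hxx : x * x' = x' * x := by
        refine eq_comm_of ?_
        obtain ⟨y, hy⟩ := α.surjective ⟨x, hx⟩
        obtain ⟨i, hi⟩ := hgen _ (Z.inv_mem (hh y y.2))
        have h2 : x * x' * x⁻¹ * x'⁻¹ = ((α ⟨z₀, hz₀E⟩ : E₂) : G) ^ i := by
          have e : (⟨z₀, hz₀E⟩ : E₂) ^ i = y * ⟨x, hx⟩ * y⁻¹ * (⟨x, hx⟩ : E₂)⁻¹ :=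
            Subtype.ext (by simp only [Subgroup.coe_zpow, Subgroup.coe_mul, Subgroup.coe_inv]
                            rw [hi]; group)
          rw [← Subgroup.coe_zpow, ← map_zpow, e, map_mul, map_mul, map_mul, map_inv, map_inv, hy]
          simp [hx'def]
        have h3 := hh x' (α _).2
        by_contra hne1
        obtain ⟨k, hk⟩ := hgen _ h3
        refine hαz ?_
        -- a nontrivial power of an element of order `p` generates it
        have hd : ¬ (p : ℤ) ∣ i := by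
          rintro ⟨m, rfl⟩
          refine hne1 (h2.trans ?_)
          rw [zpow_mul, zpow_natCast, ← Subgroup.coe_pow, ← map_pow,
            show (⟨z₀, hz₀E⟩ : E₂) ^ p = 1 from Subtype.ext hz₀.2.1, map_one]
          simp
        by_contra hn
        exact hd (dvd_of_zpow_mem hn (by
          rw [← Subgroup.coe_pow, ← map_pow,
            show (⟨z₀, hz₀E⟩ : E₂) ^ p = 1 from Subtype.ext hz₀.2.1, map_one]
          exact Z.one_mem) (h2 ▸ h3))
      obtain ⟨e1, e2⟩ := elem_sup (A := U) (fun a ha => (hUW ha).2.1)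
        (fun a ha b hb => hW₂ab a (hUW ha) b (hUW hb)) hxp (fun a ha => (hUW ha).2.2 x hx)
      obtain ⟨f1, f2⟩ := elem_sup (w := x') e1 e2
        (by rw [hx'def, ← Subgroup.coe_pow, ← map_pow,
          show (⟨x, hx⟩ : E₂) ^ p = 1 from Subtype.ext hxp, map_one]; rfl)
        (fun a ha => by
          have hle : U ⊔ Subgroup.zpowers x ≤ Subgroup.centralizer {x'} := sup_le
            (fun b hb => Subgroup.mem_centralizer_singleton_iff.2
              ((hUW hb).2.2 x' (α ⟨x, hx⟩).2).symm)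
            (Subgroup.zpowers_le.2 (Subgroup.mem_centralizer_singleton_iff.2 hxx))
          exact (Subgroup.mem_centralizer_singleton_iff.1 (hle ha)).symm)
      have hx' : x' ∉ U ⊔ Subgroup.zpowers x := fun hm => hαz (by
        have hle : U ⊔ Subgroup.zpowers x ≤ comSub E₂ E₂ Z hZn := sup_le
          (fun b hb => ⟨hW₂E (hUW hb), fun g _ => hUm b hb g⟩)
          (Subgroup.zpowers_le.2 ⟨hx, hh⟩)
        have := (hle hm).2 (α ⟨y₀, hy₀⟩ : E₂) (α _).2
        have e : (⟨z₀, hz₀E⟩ : E₂) = ⟨x, hx⟩ * ⟨y₀, hy₀⟩ * (⟨x, hx⟩ : E₂)⁻¹ *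
            (⟨y₀, hy₀⟩ : E₂)⁻¹ := Subtype.ext (by simp [hz₀def])
        rw [e, map_mul, map_mul, map_mul, map_inv, map_inv]
        simpa [hx'def] using this)
      have g1 := card_step hG (lt_sup_zpowers hxU)
      have g2 := card_step hG (lt_sup_zpowers hx')
      have g3 := elem_le h f1 f2
      rw [hUc] at g1
      have := ((Nat.mul_le_mul_right p g1).trans g2).trans g3
      rw [show p * p * p * p = p ^ 4 by ring] at this
      omega
    -- `[V, E₂] ≤ U`
    have hVU₂ : ∀ a ∈ V, ∀ g : G, a * g * a⁻¹ * g⁻¹ ∈ U := fun a ha g =>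
      commutator_le_of_relIndex hG hUV
        (relIndex_le_of_card hUV (le_of_eq (by rw [hVc, hUc]; ring)))
        (Subgroup.commutator_mem_commutator ha (Subgroup.mem_top g))
    -- the set `W`
    let W : Subgroup G :=
      { carrier := {x | x ∈ E₂ ∧ x ^ p = 1 ∧ ∀ y ∈ E₂, x * y * x⁻¹ * y⁻¹ ∈ U}
        one_mem' := ⟨E₂.one_mem, one_pow p, fun y _ => by simp⟩
        mul_mem' := by
          rintro a b ⟨ha, ha1, ha2⟩ ⟨hb, hb1, hb2⟩
          refine ⟨E₂.mul_mem ha hb, ?_, fun y hy => ?_⟩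
          · have hc := hUW (hb2 a ha)
            rw [mul_pow_eq_one h.odd (c := b * a * b⁻¹ * a⁻¹) (by group) (hc.2.2 a ha).symm
              (hc.2.2 b hb).symm hc.2.1, ha1, hb1, one_mul]
          · have h := U.mul_mem (hUn.conj_mem _ (hb2 y hy) a) (ha2 y hy)
            simpa [mul_assoc] using h
        inv_mem' := by
          rintro a ⟨ha, ha1, ha2⟩
          refine ⟨E₂.inv_mem ha, by rw [inv_pow, ha1, inv_one], fun y hy => ?_⟩
          have h := hUn.conj_mem _ (U.inv_mem (ha2 y hy)) a⁻¹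
          simpa [mul_assoc] using h }
    have hWE : W ≤ E₂ := fun x hx => hx.1
    have hU₂A : InvA A₂ U := hWU ▸ hW₂A
    have hWA : InvA A₂ W := by
      rintro α hα x ⟨-, hx1, hx2⟩
      refine ⟨(α x).2, ?_, fun y hy => ?_⟩
      · rw [← Subgroup.coe_pow, ← map_pow, show x ^ p = 1 from Subtype.ext hx1, map_one]
        rfl
      · obtain ⟨y₀, hy₀⟩ := α.surjective ⟨y, hy⟩
        have h1 := hU₂A α hα (x * y₀ * x⁻¹ * y₀⁻¹) (by simpa using hx2 y₀ y₀.2)
        simpa [map_mul, map_inv, hy₀] using h1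
    have hVW : V ≤ W := fun a ha => ⟨hcase ha, hVp a ha, fun y _ => hVU₂ a ha y⟩
    haveI hWn : W.Normal := normal_of_invB h.inn (invB_of_invA h.r₂ hWE hWA)
    -- commuting elements of `W`
    have hK : ∀ a ∈ W, a ∉ U → ∀ b ∈ W, a * b = b * a → b ∈ U ⊔ Subgroup.zpowers a := by
      intro a ha haU b hb hab
      by_contra hn
      obtain ⟨e1, e2⟩ := elem_sup (A := U) (fun x hx => (hUW hx).2.1)
        (fun x hx y hy => hW₂ab x (hUW hx) y (hUW hy)) ha.2.1 (fun x hx => (hUW hx).2.2 a ha.1)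
      obtain ⟨f1, f2⟩ := elem_sup e1 e2 hb.2.1 (fun x hx => by
        have hle : U ⊔ Subgroup.zpowers a ≤ Subgroup.centralizer {b} := sup_le
          (fun y hy => Subgroup.mem_centralizer_singleton_iff.2 ((hUW hy).2.2 b hb.1).symm)
          (Subgroup.zpowers_le.2 (Subgroup.mem_centralizer_singleton_iff.2 hab))
        exact (Subgroup.mem_centralizer_singleton_iff.1 (hle hx)).symm)
      have g1 := card_step hG (lt_sup_zpowers haU)
      have g2 := card_step hG (lt_sup_zpowers hn)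
      have g3 := elem_le h f1 f2
      rw [hUc] at g1
      have := ((Nat.mul_le_mul_right p g1).trans g2).trans g3
      rw [show p * p * p * p = p ^ 4 by ring] at this
      omega
    have hUv : U ⊔ Subgroup.zpowers v ≤ V := sup_le hUV (Subgroup.zpowers_le.2 hvV)
    -- the commutators of `W` do not lie in one cyclic subgroup
    have hnc : ∀ c ∈ U, ∀ x ∈ W, x ∉ V →
        (∀ a ∈ W, ∀ b ∈ W, a * b * a⁻¹ * b⁻¹ ∈ Subgroup.zpowers c) → False := by
      intro c hcU x hx hxV hc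
      set X := Subgroup.closure {y | ∃ a ∈ W, ∃ b ∈ W, y = a * b * a⁻¹ * b⁻¹} with hXdef
      have hXc : X ≤ Subgroup.zpowers c :=
        (Subgroup.closure_le _).2 (by rintro _ ⟨a, ha, b, hb, rfl⟩; exact hc a ha b hb)
      have hXE : X ≤ E₂ := hXc.trans (Subgroup.zpowers_le.2 (hW₂E (hUW hcU)))
      have hXA : InvA A₂ X := by
        intro α hα y hy
        have hle : X ≤ (X.comap (E₂.subtype.comp α.toMonoidHom)).map E₂.subtype := by
          refine (Subgroup.closure_le _).2 ?_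
          rintro _ ⟨a, ha, b, hb, rfl⟩
          refine ⟨⟨a, ha.1⟩ * ⟨b, hb.1⟩ * (⟨a, ha.1⟩ : E₂)⁻¹ * (⟨b, hb.1⟩ : E₂)⁻¹,
            Subgroup.subset_closure ⟨_, hWA α hα ⟨a, ha.1⟩ ha, _, hWA α hα ⟨b, hb.1⟩ hb, ?_⟩,
            by simp⟩
          simp only [MonoidHom.coe_comp, Subgroup.coe_subtype, MulEquiv.coe_toMonoidHom,
            Function.comp_apply, map_mul, map_inv]
        obtain ⟨w, hw, hwy⟩ := hle hy
        obtain rfl : w = y := Subtype.ext hwy
        exact hw
      have hne : X ≠ ⊥ := fun e => hxV (hUv (hK v (hVW hvV) hvU x hx (eq_comm_of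
        (Subgroup.mem_bot.1 (e ▸ Subgroup.subset_closure ⟨v, hVW hvV, x, hx, rfl⟩)))))
      have hXn : X.Normal := normal_of_invB h.inn (invB_of_invA h.r₂ hXE hXA)
      obtain ⟨z, hz, hz1, hzZ⟩ := exists_omZ hG hXn hne
      obtain ⟨i, hi⟩ := Subgroup.mem_zpowers_iff.1 (hXc hz)
      have hcZ : c ∈ Z := by
        by_contra hn
        obtain ⟨m, rfl⟩ := dvd_of_zpow_mem (p := p) hn
          (by rw [(hUW hcU).2.1]; exact Z.one_mem) (hi ▸ hzZ)
        exact hz1 (by rw [← hi, zpow_mul, zpow_natCast, (hUW hcU).2.1, one_zpow])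
      exact hne (hsmall (hXc.trans (Subgroup.zpowers_le.2 hcZ)) hXA)
    -- generators with commutators in one cyclic subgroup
    have hgenc : ∀ x ∈ W, (∀ a ∈ W, ∃ b ∈ V, ∃ i : ℤ, a = b * x ^ i) →
        ∀ a ∈ W, ∀ b ∈ W, a * b * a⁻¹ * b⁻¹ ∈ Subgroup.zpowers (v * x * v⁻¹ * x⁻¹) := by
      intro x hx hdec a ha b hb
      set c := v * x * v⁻¹ * x⁻¹ with hcdef
      have hcU : c ∈ U := (hVW hvV).2.2 x hx.1
      set S : Set G := (U : Set G) ∪ {v, x} with hSdef
      have hWS : W ≤ Subgroup.closure S := by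
        intro a ha
        obtain ⟨b, hb, i, rfl⟩ := hdec a ha
        have hbv : b ∈ U ⊔ Subgroup.zpowers v := hK v (hVW hvV) hvU b (hVW hb) (hVab v hvV b hb)
        refine (Subgroup.closure S).mul_mem ?_
          ((Subgroup.closure S).zpow_mem (Subgroup.subset_closure (Or.inr (by simp))) i)
        exact (show U ⊔ Subgroup.zpowers v ≤ Subgroup.closure S from
          sup_le (fun y hy => Subgroup.subset_closure (Or.inl hy))
            (Subgroup.zpowers_le.2 (Subgroup.subset_closure (Or.inr (by simp))))) hbv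
      have hSE : ∀ y ∈ S, y ∈ E₂ := by
        rintro y (hy | rfl | rfl)
        exacts [hW₂E (hUW hy), hcase hvV, hx.1]
      refine comm_mem_closure (fun z hz y hy => (hUW (Subgroup.zpowers_le.2 hcU hz)).2.2 y
        (hSE y hy)) ?_ (hWS ha) (hWS hb)
      intro y hy z hz
      rcases hy with hy | hy
      · rw [comm_eq ((hUW hy).2.2 z (hSE z hz)).symm]; exact Subgroup.one_mem _
      rcases hz with hz | hz
      · rw [comm_eq ((hUW hz).2.2 y (hSE y (Or.inr hy)))]; exact Subgroup.one_mem _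
      rcases hy with rfl | rfl <;> rcases hz with rfl | rfl
      · rw [comm_eq rfl]; exact Subgroup.one_mem _
      · exact Subgroup.mem_zpowers _
      · exact comm_inv_mem (Subgroup.mem_zpowers _)
      · rw [comm_eq rfl]; exact Subgroup.one_mem _
    have hWV : W ≤ V := by
      intro x hx
      by_contra hxV
      by_cases hWE₁ : W ≤ E₁
      · -- all commutators of `v` lie in `Z`
        have hne : ¬ v * x * v⁻¹ * x⁻¹ = 1 := fun e =>
          hxV (hUv (hK v (hVW hvV) hvU x hx (eq_comm_of e)))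
        have hcZ : v * x * v⁻¹ * x⁻¹ ∈ Z := hVE v hvV x (hWE₁ hx)
        refine hnc _ ((hVW hvV).2.2 x hx.1) x hx hxV (hgenc x hx fun a ha => ?_)
        have e : Subgroup.zpowers (v * x * v⁻¹ * x⁻¹) = Z := by
          refine Subgroup.eq_of_le_of_card_ge (Subgroup.zpowers_le.2 hcZ) ?_
          have := card_step hG (bot_lt_iff_ne_bot.2 fun e => hne (Subgroup.zpowers_eq_bot.1 e))
          rw [Subgroup.card_bot, one_mul] at this
          omega
        obtain ⟨i, hi⟩ := Subgroup.mem_zpowers_iff.1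
          (e.symm ▸ hVE v hvV a (hWE₁ ha) : v * a * v⁻¹ * a⁻¹ ∈ _)
        refine ⟨a * x ^ (-i), hUv (hK v (hVW hvV) hvU _
          (W.mul_mem ha (W.zpow_mem hx _)) (eq_comm_of ?_)), i, by group⟩
        have e1 := comm_zpow_right rfl (hZc _ hcZ x).symm (-i) (v := v)
        rw [comm_mul_right _ _ _ (by rw [e1]; exact hZc _ (Z.zpow_mem hcZ _) a), e1, ← hi]
        group
      obtain ⟨y, hy, hyE⟩ := SetLike.not_le_iff_exists.1 hWE₁
      obtain ⟨c, hc⟩ : ∃ c, c = v * y * v⁻¹ * y⁻¹ := ⟨_, rfl⟩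
      have hcU : c ∈ U := hc ▸ (hVW hvV).2.2 y hy.1
      have hcZ : c ∉ Z := fun hcZ => by
        obtain ⟨y', hy', hny⟩ := hL v (hcase hvV) (hVp v hvV) hvU
        have hle : E₁ ⊔ Subgroup.zpowers y ≤ rel v Z hZn :=
          sup_le (fun g hg => hVE v hvV g hg) (Subgroup.zpowers_le.2 (show v * y * v⁻¹ * y⁻¹ ∈ Z by rw [← hc]; exact hcZ))
        rw [between_top hG h.s₁.index hyE] at hle
        exact hny (hle (Subgroup.mem_top y'))
      have hUgen : U = Z ⊔ Subgroup.zpowers c := by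
        refine (Subgroup.eq_of_le_of_card_ge (sup_le hZU (Subgroup.zpowers_le.2 hcU)) ?_).symm
        rw [hUc]
        exact (Nat.mul_le_mul_right p hZp).trans (card_step hG (lt_sup_zpowers hcZ))
      have hdec₁ : ∀ a ∈ W, ∃ d ∈ W, d ∈ E₁ ∧ ∃ i : ℤ, a = d * y ^ i := fun a ha => by
        have hm : a ∈ E₁ ⊔ Subgroup.zpowers y := by
          rw [between_top hG h.s₁.index hyE]; trivial
        obtain ⟨d, hd, z, hz, rfl⟩ := Subgroup.mem_sup_of_normal_left.1 hm
        obtain ⟨i, rfl⟩ := Subgroup.mem_zpowers_iff.1 hz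
        exact ⟨d, (W.mul_mem_cancel_right (W.zpow_mem hy i)).1 ha, hd, i, rfl⟩
      by_cases hall : ∀ d ∈ W, d ∈ E₁ → d ∈ V
      · refine hnc _ hcU y hy (fun hh => hyE (hVE₁ hh)) (hc ▸ hgenc y hy fun a ha => ?_)
        obtain ⟨d, hdW, hd, i, rfl⟩ := hdec₁ a ha
        exact ⟨d, hall d hdW hd, i, rfl⟩
      push Not at hall
      obtain ⟨e, heW, he₁, heV⟩ := hall
      have hey : e * y * e⁻¹ * y⁻¹ ∈ Z ⊔ Subgroup.zpowers c := hUgen ▸ heW.2.2 y hy.1
      obtain ⟨z, hz, w, hw, hzw⟩ := Subgroup.mem_sup_of_normal_left.1 hey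
      obtain ⟨i, rfl⟩ := Subgroup.mem_zpowers_iff.1 hw
      set e' := e * v ^ (-i) with he'def
      have he'W : e' ∈ W := W.mul_mem heW (W.zpow_mem (hVW hvV) _)
      have he'₁ : e' ∈ E₁ := E₁.mul_mem he₁ (E₁.zpow_mem (hVE₁ hvV) _)
      have he'V : e' ∉ V := fun hh => heV (by
        have := V.mul_mem hh (V.zpow_mem hvV i)
        simpa [he'def] using this)
      have he'y : e' * y * e'⁻¹ * y⁻¹ ∈ Z := by
        -- `[v ^ (-i), y] = c ^ (-i)`
        have e1 : y * v * y⁻¹ * v⁻¹ = c⁻¹ := by rw [hc]; group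
        have e2 := comm_zpow_right e1
          ((show Commute c v from ((hUW hcU).2.2 v (hcase hvV)).symm).inv_left) (-i)
        have e3 : v ^ (-i) * y * (v ^ (-i))⁻¹ * y⁻¹ = c ^ (-i) := by
          rw [show v ^ (-i) * y * (v ^ (-i))⁻¹ * y⁻¹ =
            (y * v ^ (-i) * y⁻¹ * (v ^ (-i))⁻¹)⁻¹ by group, e2, inv_zpow, inv_inv]
        have hce : e * c ^ (-i) = c ^ (-i) * e :=
          (show Commute e c from (hUW hcU).2.2 e heW.1).zpow_right _
        have e4 : e' * y * e'⁻¹ * y⁻¹ = c ^ (-i) * (z * c ^ i) := by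
          calc e' * y * e'⁻¹ * y⁻¹
              = e * (v ^ (-i) * y * (v ^ (-i))⁻¹ * y⁻¹) * e⁻¹ * (e * y * e⁻¹ * y⁻¹) := by
                rw [he'def]; group
            _ = c ^ (-i) * (z * c ^ i) := by rw [e3, hce, hzw, mul_inv_cancel_right]
        rw [e4, ← mul_assoc, hZc z hz (c ^ (-i)), mul_assoc, zpow_neg, inv_mul_cancel, mul_one]
        exact hz
      have hne : e' * v * e'⁻¹ * v⁻¹ ≠ 1 := fun h0 =>
        he'V (hUv (hK v (hVW hvV) hvU e' he'W (eq_comm_of h0).symm))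
      have hcv : e' * v * e'⁻¹ * v⁻¹ ∈ Z := comm_inv_mem (hVE v hvV e' he'₁)
      have e5 : Subgroup.zpowers (e' * v * e'⁻¹ * v⁻¹) = Z := by
        refine Subgroup.eq_of_le_of_card_ge (Subgroup.zpowers_le.2 hcv) ?_
        have := card_step hG (bot_lt_iff_ne_bot.2 fun e0 => hne (Subgroup.zpowers_eq_bot.1 e0))
        rw [Subgroup.card_bot, one_mul] at this
        omega
      obtain ⟨j, hj⟩ := Subgroup.mem_zpowers_iff.1
        (e5.symm ▸ he'y : e' * y * e'⁻¹ * y⁻¹ ∈ _)
      have e1 := comm_zpow_right rfl (hZc _ hcv v).symm (-j) (v := e')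
      have hcom : e' * (y * v ^ (-j)) = y * v ^ (-j) * e' := eq_comm_of (by
        rw [comm_mul_right _ _ _ (by rw [e1]; exact hZc _ (Z.zpow_mem hcv _) y), e1, ← hj]
        group)
      have hmem := hK e' he'W (fun hh => he'V (hUV hh)) _
        (W.mul_mem hy (W.zpow_mem (hVW hvV) _)) hcom
      have hle : U ⊔ Subgroup.zpowers e' ≤ E₁ := sup_le hUE₁ (Subgroup.zpowers_le.2 he'₁)
      exact hyE ((E₁.mul_mem_cancel_right (E₁.zpow_mem (hVE₁ hvV) _)).1 (hle hmem))
    have hVA₂ : InvA A₂ V := fun α hα x hx => hWV (hWA α hα x (hVW hx))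
    -- both sides move `E / V`
    have hm₁ : Moves p A₁ V := by
      intro hot
      apply hVU
      set N := V ⊓ omZ p E₁ with hNdef
      have hNA : InvA A₁ N := fun α hα x hx => ⟨hVA α hα x hx.1, invA_omZ A₁ α hα x hx.2⟩
      have hNE : N ≤ E₁ := inf_le_left.trans hVE₁
      have hNn : N.Normal := normal_of_invB h.inn (invB_of_invA h.r₁ hNE hNA)
      have hVN : OTriv p A₁ V N := by
        intro α hα ho x hx
        have hαV : ((α x : E₁) : G) ∈ V := hVA α (lgen_le h.s₁.cT_le hα) x hx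
        refine ⟨V.mul_mem (V.inv_mem hx) hαV,
          E₁.mul_mem (E₁.inv_mem x.2) (α x).2,
          hVp _ (V.mul_mem (V.inv_mem hx) hαV), fun e he => ?_⟩
        have hs := hot α hα ho ⟨e, he⟩ he
        have hfix := lgen_fix h n₁ hα (x := x * ⟨e, he⟩ * x⁻¹ * (⟨e, he⟩ : E₁)⁻¹)
          (by simpa using hVE x hx e he)
        simp only [map_mul, map_inv, Subgroup.coe_mul, Subgroup.coe_inv] at hfix
        set a : G := ((α x : E₁) : G) with hadef
        set e' : G := ((α ⟨e, he⟩ : E₁) : G) with he'def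
        set s := e⁻¹ * e' with hsdef
        have hsa : a * s = s * a := hVab a hαV s hs
        have e1 : a * e' * a⁻¹ * e'⁻¹ = a * e * a⁻¹ * e⁻¹ := by
          calc a * e' * a⁻¹ * e'⁻¹ = a * e * s * a⁻¹ * e'⁻¹ := by rw [hsdef]; group
            _ = a * e * (s * a⁻¹) * e'⁻¹ := by group
            _ = a * e * (a⁻¹ * s) * e'⁻¹ := by
                rw [((show Commute a s from hsa).inv_left).eq]
            _ = a * e * a⁻¹ * e⁻¹ := by rw [hsdef]; group
        rw [e1] at hfix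
        refine Eq.symm (eq_comm_of ?_)
        calc (x : G)⁻¹ * a * e * ((x : G)⁻¹ * a)⁻¹ * e⁻¹
            = (x : G)⁻¹ * (a * e * a⁻¹ * e⁻¹) * (e * x * e⁻¹) := by group
          _ = 1 := by rw [hfix]; group
      have hotV : OTriv p A₁ V ⊥ := fun α hα ho => by
        refine trivOn_trans hG ho (inf_le_left : N ≤ V) bot_le inferInstance (hVN α hα ho) ?_
        have hZN : Z ≤ N := le_inf (hZU.trans hUV) (omZ_le₁ h)
        refine trivOn_trans hG ho hZN bot_le inferInstance ?_ (n₁ α hα ho)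
        refine otriv_of_relIndex_le hG hE₁n h.s₁.cT_le hNE hNn hZn hZN hNA hZA₁
          (relIndex_le_of_card hZN ?_) α hα ho
        rw [hZcard]
        have hlt' : N < V := lt_of_le_of_ne inf_le_left fun e => by
          obtain ⟨u, hu, huZ⟩ := Set.exists_of_ssubset (SetLike.coe_ssubset_coe.2 hZU')
          obtain ⟨t, ht, ht'⟩ : ∃ t ∈ E₁, t ∉ E₂ := SetLike.not_le_iff_exists.1 fun hle' => by
            rcases between (p := p) hle' le_top (by
              rw [Subgroup.relIndex_top_right]; exact h.s₁.index) with e' | e'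
            · exact h.ne e'.symm
            · exact absurd (Subgroup.index_top) (e' ▸ h.s₂.index.trans_ne hpp.ne_one)
          exact huZ (mem_omZ_top (hUW hu).2.1 (central_of h hE₂n ht' (hUW hu).2.2
            ((e.symm ▸ hUV hu : u ∈ N).2.2.2 t ht)))
        have := (card_step hG hlt').trans_eq hVc
        exact Nat.le_of_mul_le_mul_right (this.trans_eq (by ring)) hpp.pos
      -- so every element of `Lgen A₁` keeps `U`
      let H : Subgroup (MulAut E₁) :=
        { carrier := {a | ∀ y : E₁, (y : G) ∈ U ↔ ((a y : E₁) : G) ∈ U}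
          one_mem' := fun _ => Iff.rfl
          mul_mem' := fun {a b} ha hb y => (hb y).trans (ha (b y))
          inv_mem' := fun {a} ha y => by
            have := (ha (a⁻¹ y)).symm
            rwa [MulAut.apply_inv_self] at this }
      have hT : cT E₁ ≤ H := fun γ hγ y => by
        obtain ⟨g, hg⟩ := (mem_cT hE₁n).1 hγ
        rw [hg]
        exact ⟨fun hy => hUn.conj_mem _ hy g, fun hy => by
          simpa [mul_assoc] using hUn.conj_mem _ hy g⁻¹⟩
      have hco : ∀ α ∈ Lgen A₁, (orderOf α).Coprime p → α ∈ H := fun α hα ho y => by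
        have hfixV : ∀ y : E₁, (y : G) ∈ V → α y = y := fun y hy =>
          Subtype.ext (inv_mul_eq_one.1 (Subgroup.mem_bot.1 (hotV α hα ho y hy))).symm
        constructor
        · intro hy; rw [hfixV y (hUV hy)]; exact hy
        · intro hy
          have h1 : α (α y) = α y := hfixV _ (hUV hy)
          rwa [α.injective h1] at hy
      have hUA : InvA A₁ U := invA_of_invB h.s₁ hG hUE₁ hUB fun l hl x hx =>
        ((h.s₁.lgen_induction hG hT hco hl) x).1 hx
      exact (Subgroup.closure_le _).2 (by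
        rintro _ ⟨α, hα, x, hx, rfl⟩; exact hUA α hα x hx)
    have hVbot := hI V ⟨hVn, hVE₁, hcase, invB_of_invA h.r₁ hVE₁ hVA, hVA, hVA₂, hm₁,
      moves_of_frattini h.s₂ hG hcase hVn hVA₂ (relIndex_le_of_card inf_le_left (by
        calc Nat.card V = p * (p * p) := by rw [hVc]; ring
          _ ≤ p * Nat.card ↥(W₂ ⊓ F₂) := Nat.mul_le_mul_left p hYcard
          _ ≤ p * Nat.card ↥(V ⊓ F₂) := Nat.mul_le_mul_left p
              (Subgroup.card_le_of_le (inf_le_inf_right _ (hWU ▸ hUV)))))⟩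
    exact hvU (by rw [hVbot, Subgroup.mem_bot] at hvV; exact hvV ▸ U.one_mem)

end Cfsg.Agent.CharPair
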