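import Cfsg.Agent.CharPair.CentreBoth
import Cfsg.Agent.CharPair.CentreOne

/-!
# A central element outside the intersection (S5189)
-/

set_option autoImplicit false

open Cfsg.Agent.FusRankThree

namespace Cfsg.Agent.CharPair

universe u

variable {G : Type u} [Group G] [Finite G] {p : ℕ} [Fact p.Prime] {E₁ E₂ : Subgroup G}
  {A₁ : Subgroup (MulAut E₁)} {A₂ : Subgroup (MulAut E₂)} {B : Subgroup (MulAut G)}

theorem omZ_top_le {E : Subgroup G} {A : Subgroup (MulAut E)} (s : Side p E A B)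
    (hG : IsPGroup p G) : omZ p (⊤ : Subgroup G) ≤ E := by
  intro z hz
  refine s.centric hG (Subgroup.mem_centralizer_iff.2 fun x _ => ?_)
  exact hz.2.2 x trivial

theorem omZ_top_invB : InvB B (omZ p (⊤ : Subgroup G)) := by
  intro β _ z hz
  refine ⟨trivial, ?_, fun x _ => ?_⟩
  · rw [← map_pow, hz.2.1, map_one]
  · obtain ⟨y, rfl⟩ := β.surjective x
    rw [← map_mul, ← map_mul, hz.2.2 y trivial]

theorem omZ_top_normal : (omZ p (⊤ : Subgroup G)).Normal :=
  ⟨fun z hz g => by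
    rw [hz.2.2 g trivial, mul_inv_cancel_right]
    exact hz⟩

theorem omZ_top_invA {E : Subgroup G} {A : Subgroup (MulAut E)} (s : Side p E A B)
    (hG : IsPGroup p G) (n : OTriv p A (omZ p (⊤ : Subgroup G)) ⊥) :
    InvA A (omZ p (⊤ : Subgroup G)) := by
  refine invA_of_invB s hG (omZ_top_le s hG) omZ_top_invB ?_
  have key : Lgen A ≤
      { carrier := {l : MulAut E | ∀ x : E, (x : G) ∈ omZ p (⊤ : Subgroup G) →
          ((l x : E) : G) = (x : G)}
        one_mem' := fun x _ => rfl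
        mul_mem' := by
          intro a b ha hb x hx
          rw [MulAut.mul_apply, ha (b x) (by rw [hb x hx]; exact hx), hb x hx]
        inv_mem' := by
          intro a ha x hx
          have := congrArg (fun y => ((a⁻¹ y : E) : G)) (Subtype.ext (ha x hx) : a x = x)
          rw [MulAut.inv_apply_self] at this
          exact this.symm : Subgroup (MulAut E) } := by
    refine s.lgen_induction hG ?_ ?_
    · intro γ hγ x hx
      obtain ⟨g, hg⟩ := (mem_cT s.normal).1 hγ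
      rw [hg x, hx.2.2 g trivial, mul_inv_cancel_right]
    · intro α hα hc x hx
      exact (inv_mul_eq_one.1 (Subgroup.mem_bot.1 (n α hα hc x hx))).symm
  intro l hl x hx
  rw [key hl x hx]
  exact hx

theorem exists_central_outside (h : Pair p E₁ E₂ A₁ A₂ B) (hI : Irr p A₁ A₂ B) :
    (∃ z ∈ E₂, z ∉ E₁ ∧ ∀ x ∈ E₂, z * x = x * z) ∨
      ∃ z ∈ E₁, z ∉ E₂ ∧ ∀ x ∈ E₁, z * x = x * z := by
  classical
  by_cases hZ₁ : omZ p E₁ ≤ E₁ ⊓ E₂
  swap
  · obtain ⟨z, hz, hzn⟩ := SetLike.not_le_iff_exists.1 hZ₁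
    exact Or.inr ⟨z, hz.1, fun h' => hzn ⟨hz.1, h'⟩, fun x hx => (hz.2.2 x hx).symm⟩
  by_cases hZ₂ : omZ p E₂ ≤ E₁ ⊓ E₂
  swap
  · obtain ⟨z, hz, hzn⟩ := SetLike.not_le_iff_exists.1 hZ₂
    exact Or.inl ⟨z, hz.1, fun h' => hzn ⟨h', hz.1⟩, fun x hx => (hz.2.2 x hx).symm⟩
  exfalso
  by_cases n₁ : OTriv p A₁ (omZ p (⊤ : Subgroup G)) ⊥
  · by_cases n₂ : OTriv p A₂ (omZ p (⊤ : Subgroup G)) ⊥
    · have hbot : omZ p (⊤ : Subgroup G) = ⊥ := hI _
        { normal := omZ_top_normal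
          le₁ := omZ_top_le h.s₁ h.pgrp
          le₂ := omZ_top_le h.s₂ h.pgrp
          invB := omZ_top_invB
          inv₁ := omZ_top_invA h.s₁ h.pgrp n₁
          inv₂ := omZ_top_invA h.s₂ h.pgrp n₂
          moves₁ := moves_of_otriv h.s₁ h.pgrp (omZ_top_le h.s₁ h.pgrp) omZ_top_normal n₁
          moves₂ := moves_of_otriv h.s₂ h.pgrp (omZ_top_le h.s₂ h.pgrp) omZ_top_normal n₂ }
      have : Nontrivial G := by
        by_contra hn
        rw [not_nontrivial_iff_subsingleton] at hn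
        exact h.ne (SetLike.ext fun x => by
          rw [Subsingleton.elim x 1]; exact ⟨fun _ => one_mem _, fun _ => one_mem _⟩)
      have hp1 : Nontrivial (Subgroup.center G) := h.pgrp.center_nontrivial
      obtain ⟨z, hz⟩ := exists_prime_orderOf_dvd_card' p (G := Subgroup.center G) (by
        obtain ⟨n, hn, hc⟩ := (h.pgrp.to_subgroup (Subgroup.center G)).nontrivial_iff_card.1 hp1
        rw [hc]; exact dvd_pow_self p (by omega))
      have hzm : (z : G) ∈ omZ p (⊤ : Subgroup G) :=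
        ⟨trivial, by rw [← hz, ← Subgroup.orderOf_coe, pow_orderOf_eq_one],
          fun x _ => Subgroup.mem_center_iff.1 z.2 x⟩
      rw [hbot, Subgroup.mem_bot] at hzm
      have h1 : z = 1 := Subtype.ext hzm
      rw [h1, orderOf_one] at hz
      exact (Fact.out : p.Prime).ne_one hz.symm
    · exact centre_one_false h hI hZ₁ hZ₂ n₁ n₂
  · by_cases n₂ : OTriv p A₂ (omZ p (⊤ : Subgroup G)) ⊥
    · exact centre_one_false h.symm (fun X hX => hI X hX.symm) (inf_comm E₁ E₂ ▸ hZ₂)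
        (inf_comm E₁ E₂ ▸ hZ₁) n₂ n₁
    · exact centre_both_false h hI hZ₁ hZ₂ n₁ n₂

end Cfsg.Agent.CharPair
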