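import Cfsg.Agent.CharPair.Tools
import Cfsg.Agent.PGroup.Basic

/-!
# both automizers move the centre (S5189)

Paper proof. `Zᵢ = Ω1Z(Eᵢ) ⊋ Z = Ω1Z(G)`; `Y = Z₁Z₂` is elementary of order `p³`, so `|Z| = p`,
`|Zᵢ| = p²` and `Y` is a maximal elementary subgroup. `V = {w ∈ E₁ : w^p = 1, [w,E₁] ≤ Z₁}` meets
`E₂` in `Y` and is `A₁`-invariant. If `V ≰ E₂` its commutators fill exactly `Z`, so `Z` is
`A₁`-invariant: contradiction. So `Y` is invariant, hence so is `D = C_{E₁}(Y)`; `Lgen A₁` is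
trivial on `E₁/D` and on `Y/Z₁`, so it fixes `Z = ⟨[u₂,a]⟩`: contradiction.
-/

set_option autoImplicit false

open Cfsg.Agent.FusRankThree
open scoped commutatorElement

namespace Cfsg.Agent.CharPair

universe u

variable {G : Type u} [Group G]

namespace CentreBothAux

/-- A strict inclusion in a `p`-group multiplies the order by at least `p`. -/
theorem mul_card_le [Finite G] {p : ℕ} [Fact p.Prime] (hG : IsPGroup p G) {H K : Subgroup G}
    (h : H < K) : p * Nat.card H ≤ Nat.card K := by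
  have hp : p.Prime := Fact.out
  obtain ⟨i, hi⟩ := IsPGroup.iff_card.1 (hG.to_subgroup H)
  obtain ⟨j, hj⟩ := IsPGroup.iff_card.1 (hG.to_subgroup K)
  have hlt : i < j := by
    by_contra hle
    have := pow_le_pow_right₀ hp.one_le (not_lt.1 hle)
    rw [← hi, ← hj] at this
    exact h.ne (Subgroup.eq_of_le_of_card_ge h.le this)
  rw [hi, hj, ← pow_succ']
  exact pow_le_pow_right₀ hp.one_le hlt

/-- `Ω₁Z(E)` is invariant under every automorphism of `E`. -/
theorem invA_omZ {p : ℕ} {E : Subgroup G} (A : Subgroup (MulAut E)) : InvA A (omZ p E) := by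
  intro α _ x hx
  refine ⟨(α x).2, ?_, fun y hy => ?_⟩
  · have h1 : x ^ p = 1 := Subtype.ext hx.2.1
    simpa using congrArg (fun t : E => (t : G)) (show α x ^ p = 1 by rw [← map_pow, h1, map_one])
  · obtain ⟨w, hw⟩ := α.surjective ⟨y, hy⟩
    have h1 : w * x = x * w := Subtype.ext (hx.2.2 w w.2)
    have h2 := congrArg α h1
    rw [map_mul, map_mul, hw] at h2
    exact congrArg (fun t : E => (t : G)) h2

theorem omZ_le {p : ℕ} {E : Subgroup G} : omZ p E ≤ E := fun _ h => h.1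

theorem normal_omZ {p : ℕ} {E : Subgroup G} (hn : E.Normal) : (omZ p E).Normal := by
  refine ⟨fun z hz g => ⟨hn.conj_mem z hz.1 g, by rw [conj_pow, hz.2.1, mul_one, mul_inv_cancel],
    fun y hy => ?_⟩⟩
  have h1 := hz.2.2 (g⁻¹ * y * g) (by simpa [mul_assoc] using hn.conj_mem y hy g⁻¹)
  calc y * (g * z * g⁻¹) = g * (g⁻¹ * y * g * z) * g⁻¹ := by group
    _ = g * z * g⁻¹ * y := by rw [h1]; group

theorem omZ_top_comm {p : ℕ} {z : G} (hz : z ∈ omZ p (⊤ : Subgroup G)) (g : G) : g * z = z * g :=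
  hz.2.2 g (Subgroup.mem_top g)

end CentreBothAux

open CentreBothAux

variable [Finite G] {p : ℕ} [Fact p.Prime] {E₁ E₂ : Subgroup G}
  {A₁ : Subgroup (MulAut E₁)} {A₂ : Subgroup (MulAut E₂)} {B : Subgroup (MulAut G)}

/-- If `Lgen A` moves the centre, the centre is properly contained in `Ω₁Z(E)`. -/
theorem omZ_lt_of_moved {E : Subgroup G} {A : Subgroup (MulAut E)} (s : Side p E A B)
    (hG : IsPGroup p G) (m : ¬ OTriv p A (omZ p (⊤ : Subgroup G)) ⊥) :
    omZ p (⊤ : Subgroup G) < omZ p E := by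
  have hle : omZ p (⊤ : Subgroup G) ≤ omZ p E := fun z hz =>
    ⟨s.centric hG (Subgroup.mem_centralizer_iff.2 fun g _ => omZ_top_comm hz g), hz.2.1,
      fun x _ => omZ_top_comm hz x⟩
  refine lt_of_le_of_ne hle fun e => m fun l hl _ => ?_
  refine lgen_trivOn s.normal s.cT_le (normal_omZ inferInstance) inferInstance bot_le
    (e ▸ invA_omZ A) (fun α _ x hx => ?_) (fun g z hz => ?_) l hl
  · rw [Subgroup.mem_bot] at hx ⊢
    rw [show x = 1 from Subtype.ext hx, map_one, OneMemClass.coe_one]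
  · rw [Subgroup.mem_bot, omZ_top_comm hz g, mul_inv_cancel_right, inv_mul_cancel]

theorem centre_both_false (h : Pair p E₁ E₂ A₁ A₂ B) (hI : Irr p A₁ A₂ B)
    (hZ₁ : omZ p E₁ ≤ E₁ ⊓ E₂) (hZ₂ : omZ p E₂ ≤ E₁ ⊓ E₂)
    (m₁ : ¬ OTriv p A₁ (omZ p (⊤ : Subgroup G)) ⊥)
    (m₂ : ¬ OTriv p A₂ (omZ p (⊤ : Subgroup G)) ⊥) : False := by
  classical
  have hp : p.Prime := Fact.out
  have hG := h.pgrp
  have hn₁ := h.s₁.normal
  have hn₂ := h.s₂.normal
  set Z := omZ p (⊤ : Subgroup G) with hZ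
  have hZn : Z.Normal := normal_omZ inferInstance
  have hlt₁ : Z < omZ p E₁ := omZ_lt_of_moved h.s₁ hG m₁
  have hlt₂ : Z < omZ p E₂ := omZ_lt_of_moved h.s₂ hG m₂
  have hZc : ∀ z ∈ Z, ∀ g : G, Commute g z := fun z hz g => omZ_top_comm hz g
  have hcard_top : ∀ g : G, ∃ a ∈ E₁, ∃ b ∈ E₂, g = a * b := by
    intro g
    have hsup : E₁ ⊔ E₂ = ⊤ := by
      have hlt : E₁ < E₁ ⊔ E₂ := by
        refine lt_of_le_of_ne le_sup_left fun e => h.ne ?_
        refine (Subgroup.eq_of_le_of_card_ge (e ▸ le_sup_right : E₂ ≤ E₁) ?_).symm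
        have a1 := E₁.card_mul_index
        have a2 := E₂.card_mul_index
        rw [h.s₁.index] at a1
        rw [h.s₂.index, ← a1] at a2
        exact (Nat.eq_of_mul_eq_mul_right hp.pos a2).ge
      refine Subgroup.eq_top_of_card_eq _ (le_antisymm (Subgroup.card_le_card_group _) ?_)
      have a1 := E₁.card_mul_index
      rw [h.s₁.index, mul_comm] at a1
      exact a1 ▸ mul_card_le hG hlt
    obtain ⟨a, ha, b, hb, e⟩ :=
      Subgroup.mem_sup_of_normal_right.1 (show g ∈ E₁ ⊔ E₂ from hsup ▸ Subgroup.mem_top g)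
    exact ⟨a, ha, b, hb, e.symm⟩
  have hint : omZ p E₁ ⊓ omZ p E₂ ≤ Z := by
    rintro z ⟨h1, h2⟩
    refine ⟨Subgroup.mem_top z, h1.2.1, fun g _ => ?_⟩
    obtain ⟨a, ha, b, hb, rfl⟩ := hcard_top g
    exact ((show Commute a z from h1.2.2 a ha).mul_left (h2.2.2 b hb)).eq
  -- the join
  have hn1Z : (omZ p E₁).Normal := normal_omZ hn₁
  have hn2Z : (omZ p E₂).Normal := normal_omZ hn₂
  set Y := omZ p E₁ ⊔ omZ p E₂ with hY
  have hmemY : ∀ {y : G}, y ∈ Y ↔ ∃ a ∈ omZ p E₁, ∃ b ∈ omZ p E₂, a * b = y := by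
    intro y; exact Subgroup.mem_sup_of_normal_right
  have hY₁ : Y ≤ E₁ := sup_le omZ_le (hZ₂.trans inf_le_left)
  have hY₂ : Y ≤ E₂ := sup_le (hZ₁.trans inf_le_right) omZ_le
  have hYel : (∀ y ∈ Y, y ^ p = 1) ∧ ∀ x ∈ Y, ∀ y ∈ Y, Commute x y := by
    constructor
    · intro y hy
      obtain ⟨a, ha, b, hb, rfl⟩ := hmemY.1 hy
      rw [(show Commute a b from hb.2.2 a (hY₂ (Subgroup.mem_sup_left ha))).mul_pow, ha.2.1,
        hb.2.1, one_mul]
    · intro x hx y hy
      obtain ⟨a, ha, b, hb, rfl⟩ := hmemY.1 hy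
      exact (show Commute x a from ha.2.2 x (hY₁ hx)).mul_right (hb.2.2 x (hY₂ hx))
  have hrank : ∀ H : Subgroup G, (∀ a ∈ H, a ^ p = 1) → (∀ a ∈ H, ∀ b ∈ H, Commute a b) →
      Nat.card H ≤ p ^ 3 := by
    intro H h1 h2
    rw [← Subgroup.relIndex_bot_left]
    refine h.rank H ⊥ bot_le (fun a ha => Subgroup.mem_bot.2 (h1 a ha)) fun a ha b hb =>
      Subgroup.mem_bot.2 ?_
    rw [(h2 a ha b hb).eq, mul_inv_cancel_right, mul_inv_cancel]
  have hlY₁ : omZ p E₁ < Y :=
    lt_of_le_of_ne le_sup_left fun e =>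
      hlt₂.not_ge ((le_inf (e ▸ le_sup_right) le_rfl).trans hint)
  have hlY₂ : omZ p E₂ < Y :=
    lt_of_le_of_ne le_sup_right fun e =>
      hlt₁.not_ge ((le_inf le_rfl (e ▸ le_sup_left)).trans hint)
  have hZne : Z ≠ ⊥ := fun e => m₁ fun α _ _ x hx => by
    rw [e, Subgroup.mem_bot] at hx
    rw [Subgroup.mem_bot, show x = 1 from Subtype.ext hx, map_one, OneMemClass.coe_one,
      inv_one, one_mul]
  have hZp : p ≤ Nat.card Z := by
    simpa using mul_card_le hG (bot_lt_iff_ne_bot.2 hZne)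
  have hYle := hrank Y hYel.1 hYel.2
  have b1 := mul_card_le hG hlt₁
  have b2 := mul_card_le hG hlt₂
  have b3 := mul_card_le hG hlY₁
  have b4 := mul_card_le hG hlY₂
  have hYcard : Nat.card Y = p ^ 3 := by
    refine le_antisymm hYle ?_
    calc p ^ 3 = p * (p * p) := by ring
      _ ≤ p * (p * Nat.card Z) := by gcongr
      _ ≤ _ := le_trans (by gcongr) b3
  have hZcard : Nat.card Z = p := by
    refine le_antisymm ?_ hZp
    have := (Nat.mul_le_mul_left p b1).trans (b3.trans hYle)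
    rw [show p ^ 3 = p * (p * p) by ring] at this
    exact Nat.le_of_mul_le_mul_left (Nat.le_of_mul_le_mul_left this hp.pos) hp.pos
  have hZ2card : Nat.card (omZ p E₂) = p * p := by
    refine le_antisymm ?_ (hZcard ▸ b2)
    have := b4.trans hYle
    rw [show p ^ 3 = p * (p * p) by ring] at this
    exact Nat.le_of_mul_le_mul_left this hp.pos
  have hmax : ∀ w : G, w ^ p = 1 → (∀ y ∈ Y, Commute w y) → w ∈ Y := by
    intro w hw hwY
    have hW : Y ⊔ Subgroup.zpowers w = Y := by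
      refine (Subgroup.eq_of_le_of_card_ge le_sup_left ?_).symm
      have hcl : Y ⊔ Subgroup.zpowers w ≤ Subgroup.centralizer (Subgroup.zpowers w ⊔ Y : Set G) := by
        refine sup_le (fun y hy => ?_) (Subgroup.zpowers_le.2 ?_)
        · refine Subgroup.mem_centralizer_iff.2 ?_
          rintro t (ht | ht)
          · obtain ⟨k, rfl⟩ := Subgroup.mem_zpowers_iff.1 ht
            exact ((hwY y hy).zpow_left k).eq
          · exact (hYel.2 t ht y hy).eq
        · refine Subgroup.mem_centralizer_iff.2 ?_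
          rintro t (ht | ht)
          · obtain ⟨k, rfl⟩ := Subgroup.mem_zpowers_iff.1 ht
            exact ((Commute.refl w).zpow_left k).eq
          · exact (hwY t ht).symm.eq
      have hab : ∀ a ∈ Y ⊔ Subgroup.zpowers w, ∀ b ∈ Y ⊔ Subgroup.zpowers w, Commute a b := by
        intro a ha b hb
        have hle : Y ⊔ Subgroup.zpowers w ≤ Subgroup.centralizer ((Y ⊔ Subgroup.zpowers w : Subgroup G) : Set G) := by
          refine Subgroup.le_centralizer_iff.1 (sup_le ?_ ?_)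
          · refine fun t ht => Subgroup.mem_centralizer_iff.2 fun s hs => ?_
            exact (Subgroup.mem_centralizer_iff.1 (hcl hs) t (Or.inr ht)).symm
          · refine fun t ht => Subgroup.mem_centralizer_iff.2 fun s hs => ?_
            exact (Subgroup.mem_centralizer_iff.1 (hcl hs) t (Or.inl ht)).symm
        exact (Subgroup.mem_centralizer_iff.1 (hle hb) a ha)
      rw [hYcard]
      refine hrank _ (fun a ha => ?_) hab
      have hYn : Y.Normal := Subgroup.sup_normal _ _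
      obtain ⟨y, hy, t, ht, rfl⟩ := Subgroup.mem_sup_of_normal_left.1 ha
      obtain ⟨k, rfl⟩ := Subgroup.mem_zpowers_iff.1 ht
      rw [((hwY y hy).symm.zpow_right k).mul_pow, hYel.1 y hy, ← zpow_natCast, ← zpow_mul,
        mul_comm k, zpow_mul, zpow_natCast, hw, one_zpow, one_mul]
    exact hW ▸ Subgroup.mem_sup_right (Subgroup.mem_zpowers w)
  -- `[Z₂, G] ≤ Z`
  have hcomm₂ : ∀ u ∈ omZ p E₂, ∀ g : G, ⁅u, g⁆ ∈ Z := by
    obtain ⟨K, -, hNK, hKM, hK, hKc⟩ := PGroup.exists_normal_relIndex_eq_prime hG hlt₂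
    have hKeq : K = omZ p E₂ := by
      refine Subgroup.eq_of_le_of_card_ge hKM ?_
      have a1 := Subgroup.card_mul_index (Z.subgroupOf K)
      rw [Nat.card_congr (Subgroup.subgroupOfEquivOfLe hNK).toEquiv, hZcard] at a1
      rw [Subgroup.relIndex] at hK
      rw [hK] at a1
      rw [hZ2card, a1]
    intro u hu g
    exact hKc (Subgroup.commutator_mem_commutator (hKeq ▸ hu) (Subgroup.mem_top g))
  -- the fixed commutator
  obtain ⟨u, hu, huZ⟩ := SetLike.exists_of_lt hlt₂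
  have hu₁ : u ∈ E₁ := (hZ₂ hu).1
  have hnc : ∀ a ∈ E₁, Commute a u → a ∈ E₂ := by
    intro a ha hau
    by_contra ha2
    apply huZ
    refine ⟨Subgroup.mem_top u, hu.2.1, fun g _ => ?_⟩
    have hsup : E₂ ⊔ Subgroup.zpowers a = ⊤ := by
      refine Subgroup.eq_top_of_card_eq _ (le_antisymm (Subgroup.card_le_card_group _) ?_)
      have hlt : E₂ < E₂ ⊔ Subgroup.zpowers a := lt_of_le_of_ne le_sup_left fun e =>
        ha2 (e ▸ Subgroup.mem_sup_right (Subgroup.mem_zpowers a))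
      have a1 := E₂.card_mul_index
      rw [h.s₂.index, mul_comm] at a1
      exact a1 ▸ mul_card_le hG hlt
    obtain ⟨x, hx, t, ht, e⟩ := Subgroup.mem_sup_of_normal_left.1
      (show g ∈ E₂ ⊔ Subgroup.zpowers a from hsup ▸ Subgroup.mem_top g)
    obtain ⟨k, rfl⟩ := Subgroup.mem_zpowers_iff.1 ht
    exact e ▸ ((show Commute x u from hu.2.2 x hx).mul_left (hau.zpow_left k)).eq
  have hgen : ∀ a ∈ E₁, a ∉ E₂ → ∀ z ∈ Z, ∃ k : ℕ, z = ⁅u, a⁆ ^ k := by
    intro a ha ha2 z hz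
    have hne : ⁅u, a⁆ ≠ 1 := fun e =>
      ha2 (hnc a ha (commutatorElement_eq_one_iff_mul_comm.1 e).symm)
    have hm := hcomm₂ u hu a
    have hord : orderOf ⁅u, a⁆ = p := orderOf_eq_prime hm.2.1 hne
    have heq : Subgroup.zpowers ⁅u, a⁆ = Z := Subgroup.eq_of_le_of_card_ge
      (Subgroup.zpowers_le.2 hm) (by rw [hZcard, Nat.card_zpowers, hord])
    obtain ⟨k, hk⟩ := mem_powers_iff_mem_zpowers.2 (heq ▸ hz : z ∈ Subgroup.zpowers ⁅u, a⁆)
    exact ⟨k, hk.symm⟩
  -- invariance of the centre gives the contradiction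
  have hfinal : ∀ {l : MulAut E₁} (a : E₁), (a : G) ∉ E₂ →
      ⁅((l ⟨u, hu₁⟩ : E₁) : G), ((l a : E₁) : G)⁆ = ⁅u, (a : G)⁆ → TrivOn l Z ⊥ := by
    intro l a ha he x hx
    obtain ⟨k, hk⟩ := hgen a a.2 ha x hx
    have hx' : x = ⁅(⟨u, hu₁⟩ : E₁), a⁆ ^ k := Subtype.ext (by
      simpa [commutatorElement_def] using hk)
    rw [Subgroup.mem_bot, inv_mul_eq_one]
    rw [hk, hx', map_pow, map_commutatorElement]
    simp only [SubgroupClass.coe_pow]
    rw [show ((⁅l ⟨u, hu₁⟩, l a⁆ : E₁) : G) = ⁅u, (a : G)⁆ from he]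
  -- the invariant subgroup `V`
  set z₁ := omZ p E₁ with hz₁
  have hV : ∀ w : G, (w ∈ E₁ ∧ w ^ p = 1 ∧ ∀ x ∈ E₁, ⁅w, x⁆ ∈ z₁) → w ∈ E₂ → w ∈ Y := by
    rintro w ⟨hw1, hw2, -⟩ hwE
    refine hmax w hw2 fun y hy => ?_
    obtain ⟨a, ha, b, hb, rfl⟩ := hmemY.1 hy
    exact (show Commute w a from ha.2.2 w hw1).mul_right (hb.2.2 w hwE)
  have hYV : ∀ y ∈ Y, y ∈ E₁ ∧ y ^ p = 1 ∧ ∀ x ∈ E₁, ⁅y, x⁆ ∈ z₁ := by
    intro y hy
    refine ⟨hY₁ hy, hYel.1 y hy, fun x hx => ?_⟩
    obtain ⟨a, ha, b, hb, rfl⟩ := hmemY.1 hy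
    rw [show ⁅a * b, x⁆ = a * ⁅b, x⁆ * a⁻¹ * ⁅a, x⁆ by simp only [commutatorElement_def]; group,
      commutatorElement_eq_one_iff_mul_comm.2 (ha.2.2 x hx).symm, mul_one,
      (hZc _ (hcomm₂ b hb x) a).eq, mul_inv_cancel_right]
    exact hlt₁.le (hcomm₂ b hb x)
  have himg : ∀ (α : MulAut E₁), α ∈ A₁ → ∀ w : E₁,
      ((w : G) ∈ E₁ ∧ (w : G) ^ p = 1 ∧ ∀ x ∈ E₁, ⁅(w : G), x⁆ ∈ z₁) →
      ((α w : E₁) : G) ∈ E₁ ∧ ((α w : E₁) : G) ^ p = 1 ∧
        ∀ x ∈ E₁, ⁅((α w : E₁) : G), x⁆ ∈ z₁ := by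
    rintro α hα w ⟨-, hw2, hw3⟩
    refine ⟨(α w).2, ?_, fun x hx => ?_⟩
    · have h1 : w ^ p = 1 := Subtype.ext hw2
      simpa using congrArg (fun t : E₁ => (t : G)) (show α w ^ p = 1 by rw [← map_pow, h1, map_one])
    · obtain ⟨t, ht⟩ := α.surjective ⟨x, hx⟩
      have h1 := invA_omZ A₁ α hα ⁅w, t⁆ (hw3 t t.2)
      rwa [map_commutatorElement, ht] at h1
  have hYinv : InvA A₁ Y := by
    intro α hα y hy
    by_contra hout
    have hw := himg α hα y (hYV y hy)
    set v : G := ((α y : E₁) : G) with hv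
    have hvE : v ∉ E₂ := fun hc => hout (hV v hw hc)
    have hvu : ∀ b ∈ Y, ⁅b, v⁆ ∈ Z := by
      intro b hb
      obtain ⟨c, hc, d, hd, rfl⟩ := hmemY.1 hb
      rw [show ⁅c * d, v⁆ = c * ⁅d, v⁆ * c⁻¹ * ⁅c, v⁆ by simp only [commutatorElement_def]; group,
        commutatorElement_eq_one_iff_mul_comm.2 (hc.2.2 v hw.1).symm, mul_one,
        (hZc _ (hcomm₂ d hd v) c).eq, mul_inv_cancel_right]
      exact hcomm₂ d hd v
    -- `V = Y⟨v⟩`, so all its commutators are central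
    have hVc : ∀ r s : G, (r ∈ E₁ ∧ r ^ p = 1 ∧ ∀ x ∈ E₁, ⁅r, x⁆ ∈ z₁) →
        (s ∈ E₁ ∧ s ^ p = 1 ∧ ∀ x ∈ E₁, ⁅s, x⁆ ∈ z₁) → ⁅r, s⁆ ∈ Z := by
      have hdec : ∀ r : G, (r ∈ E₁ ∧ r ^ p = 1 ∧ ∀ x ∈ E₁, ⁅r, x⁆ ∈ z₁) →
          ∃ b ∈ Y, ∃ i : ℕ, r = b * v ^ i := by
        intro r hr
        have hnp : ∃ i : ℕ, r * (v ^ i)⁻¹ ∈ E₂ := by
          have hc : Nat.card (G ⧸ E₂) = p := by rw [← Subgroup.index_eq_card]; exact h.s₂.index
          have hne : QuotientGroup.mk' E₂ v ≠ 1 := fun e =>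
            hvE ((QuotientGroup.eq_one_iff v).1 e)
          obtain ⟨i, hi⟩ := mem_powers_iff_mem_zpowers.2 (mem_zpowers_of_prime_card hc hne
            (g' := QuotientGroup.mk' E₂ r))
          refine ⟨i, ?_⟩
          rw [← QuotientGroup.eq_one_iff, ← QuotientGroup.mk'_apply, map_mul, map_inv, map_pow]
          exact mul_inv_eq_one.2 hi.symm
        obtain ⟨i, hi⟩ := hnp
        refine ⟨r * (v ^ i)⁻¹, hV _ ⟨mul_mem hr.1 (inv_mem (pow_mem hw.1 i)), ?_, ?_⟩ hi, i,
          by group⟩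
        · have hvi : ((v ^ i)⁻¹) ^ p = 1 := by
            rw [inv_pow, ← pow_mul, mul_comm, pow_mul, hw.2.1, one_pow, inv_one]
          have hc := hr.2.2 (v ^ i)⁻¹ (inv_mem (pow_mem hw.1 i))
          set s := (v ^ i)⁻¹
          set c := ⁅r, s⁆ with hcdef
          have hcr : Commute r c := hc.2.2 r hr.1
          have hcs : Commute s c := hc.2.2 s (inv_mem (pow_mem hw.1 i))
          have hcp : c ^ p = 1 := hc.2.1
          have key : ∀ n : ℕ, s * r ^ n = r ^ n * s * (c⁻¹) ^ n := by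
            intro n
            induction n with
            | zero => simp
            | succ n ih =>
              have e1 : s * r = r * s * c⁻¹ := by
                have e2 : r * s * c⁻¹ = c⁻¹ * (r * s) := ((hcr.mul_left hcs).inv_right).eq
                rw [e2, hcdef, commutatorElement_def]; group
              calc s * r ^ (n + 1) = s * r ^ n * r := by rw [pow_succ]; group
                _ = r ^ n * s * ((c⁻¹) ^ n * r) := by rw [ih]; group
                _ = r ^ n * (s * r) * (c⁻¹) ^ n := by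
                  rw [← ((hcr.inv_right).pow_right n).eq]; group
                _ = _ := by rw [e1, pow_succ, pow_succ']; group
          have key2 : ∀ n : ℕ, (r * s) ^ n = r ^ n * s ^ n * (c⁻¹) ^ (n.choose 2) := by
            intro n
            induction n with
            | zero => simp
            | succ n ih =>
              have e3 : (c⁻¹) ^ (n.choose 2) * (r * s) = r * s * (c⁻¹) ^ (n.choose 2) :=
                (((hcr.mul_left hcs).inv_right).pow_right _).eq.symm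
              have e4 : s ^ n * r = r * s ^ n * (c⁻¹) ^ n := by
                clear ih e3
                induction n with
                | zero => simp
                | succ n ih =>
                  have e1 := key 1
                  simp only [pow_one] at e1
                  have e5 : c⁻¹ * s ^ n = s ^ n * c⁻¹ :=
                    ((hcs.inv_right).pow_left n).eq.symm
                  calc s ^ (n + 1) * r = s * (s ^ n * r) := by rw [pow_succ']; group
                    _ = s * r * s ^ n * (c⁻¹) ^ n := by rw [ih]; group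
                    _ = r * s * (c⁻¹ * s ^ n) * (c⁻¹) ^ n := by rw [e1]; group
                    _ = _ := by rw [e5, pow_succ' s, pow_succ' (c⁻¹)]; group
              have e6 : (c⁻¹) ^ n * s = s * (c⁻¹) ^ n := ((hcs.inv_right).pow_right n).eq.symm
              calc (r * s) ^ (n + 1)
                  = r ^ n * s ^ n * ((c⁻¹) ^ (n.choose 2) * (r * s)) := by
                    rw [pow_succ, ih]; group
                _ = r ^ n * (s ^ n * r) * s * (c⁻¹) ^ (n.choose 2) := by rw [e3]; group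
                _ = r ^ n * r * s ^ n * ((c⁻¹) ^ n * s) * (c⁻¹) ^ (n.choose 2) := by
                    rw [e4]; group
                _ = r ^ (n + 1) * s ^ (n + 1) * ((c⁻¹) ^ n * (c⁻¹) ^ (n.choose 2)) := by
                    rw [e6, pow_succ, pow_succ]; group
                _ = _ := by
                    rw [← pow_add, Nat.choose_succ_succ, Nat.choose_one_right]
          rw [key2, hr.2.1, hvi, one_mul, one_mul]
          obtain ⟨k, hk⟩ : p ∣ p.choose 2 := hp.dvd_choose_self (by norm_num) (by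
            have := hp.two_le
            rcases h.odd with ⟨j, rfl⟩; omega)
          rw [hk, pow_mul, inv_pow, hcp, inv_one, one_pow]
        · intro x hx
          have hx' : ∀ k : ℕ, ⁅(v ^ k)⁻¹, x⁆ ∈ z₁ := by
            intro k
            induction k with
            | zero => simp
            | succ k ih =>
              rw [show ⁅(v ^ (k + 1))⁻¹, x⁆ = (v ^ k)⁻¹ * ⁅v⁻¹, x⁆ * (v ^ k) * ⁅(v ^ k)⁻¹, x⁆ by
                rw [pow_succ']; simp only [commutatorElement_def]; group]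
              refine mul_mem ?_ ih
              have h1 : ⁅v⁻¹, x⁆ ∈ z₁ := by
                have h2 := inv_mem (hw.2.2 x hx)
                rw [show ⁅v⁻¹, x⁆ = v⁻¹ * ⁅v, x⁆⁻¹ * v by simp only [commutatorElement_def]; group]
                rw [(show Commute v⁻¹ ⁅v, x⁆⁻¹ from h2.2.2 _ (inv_mem hw.1)).eq,
                  inv_mul_cancel_right]
                exact h2
              rwa [(show Commute (v ^ k)⁻¹ ⁅v⁻¹, x⁆ from h1.2.2 _ (inv_mem (pow_mem hw.1 k))).eq,
                inv_mul_cancel_right]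
          rw [show ⁅r * (v ^ i)⁻¹, x⁆ = r * ⁅(v ^ i)⁻¹, x⁆ * r⁻¹ * ⁅r, x⁆ by
            simp only [commutatorElement_def]; group,
            (show Commute r ⁅(v ^ i)⁻¹, x⁆ from (hx' i).2.2 r hr.1).eq, mul_inv_cancel_right]
          exact mul_mem (hx' i) (hr.2.2 x hx)
      intro r s hr hs
      obtain ⟨b, hb, i, rfl⟩ := hdec r hr
      obtain ⟨d, hd, j, rfl⟩ := hdec s hs
      have hq : ∀ y ∈ Y, Commute (QuotientGroup.mk' Z y) (QuotientGroup.mk' Z v) := fun y hy =>
        commutatorElement_eq_one_iff_mul_comm.1 (by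
          rw [← map_commutatorElement]; exact (QuotientGroup.eq_one_iff _).2 (hvu y hy))
      rw [← QuotientGroup.eq_one_iff, ← QuotientGroup.mk'_apply, map_commutatorElement,
        commutatorElement_eq_one_iff_mul_comm, map_mul, map_mul, map_pow, map_pow]
      exact ((((hYel.2 b hb d hd).map _).mul_right ((hq b hb).pow_right j)).mul_left
        (((hq d hd).symm.pow_left i).mul_right ((Commute.refl _).pow_pow i j))).eq
    refine m₁ fun l hl _ => ?_
    refine lgen_trivOn hn₁ h.s₁.cT_le hZn inferInstance bot_le ?_ (fun β _ x hx => ?_)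
      (fun g z hz => ?_) l hl
    · intro β hβ x hx
      obtain ⟨k, hk⟩ := hgen v hw.1 hvE x hx
      have hx' : x = ⁅(⟨u, hu₁⟩ : E₁), α y⁆ ^ k := Subtype.ext (by
        simpa [commutatorElement_def, hv] using hk)
      rw [hx', map_pow, map_commutatorElement, SubgroupClass.coe_pow]
      refine pow_mem (hVc _ _ ?_ ?_) k
      · exact himg β hβ ⟨u, hu₁⟩ (hYV u (Subgroup.mem_sup_right hu))
      · exact himg β hβ _ hw
    · rw [Subgroup.mem_bot] at hx ⊢
      rw [show x = 1 from Subtype.ext hx, map_one, OneMemClass.coe_one]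
    · rw [Subgroup.mem_bot, omZ_top_comm hz g, mul_inv_cancel_right, inv_mul_cancel]
  -- `D` is invariant
  set D := E₁ ⊓ E₂ with hD
  have hDinv : InvA A₁ D := by
    intro α hα x hx
    refine ⟨(α x).2, hnc _ (α x).2 ?_⟩
    obtain ⟨t, ht⟩ := α.surjective ⟨u, hu₁⟩
    have hts : (t : G) ∈ Y := by
      have h1 := hYinv α⁻¹ (inv_mem hα) ⟨u, hu₁⟩ (Subgroup.mem_sup_right hu)
      rwa [← ht, MulAut.inv_apply_self] at h1
    obtain ⟨c, hc, d, hd, hcd⟩ := hmemY.1 hts
    have h1 : x * t = t * x := Subtype.ext (by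
      show (x : G) * t = t * x
      rw [← hcd]
      exact ((show Commute (x : G) c from hc.2.2 _ x.2).mul_right (hd.2.2 _ hx.2)).eq)
    have h2 := congrArg α h1
    rw [map_mul, map_mul, ht] at h2
    exact congrArg (fun q : E₁ => (q : G)) h2
  refine m₁ fun l hl _ => ?_
  obtain ⟨a, ha, ha2⟩ : ∃ a ∈ E₁, a ∉ E₂ := by
    by_contra hc
    push Not at hc
    refine h.ne (Subgroup.eq_of_le_of_card_ge hc ?_)
    have a1 := E₁.card_mul_index
    have a2 := E₂.card_mul_index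
    rw [h.s₁.index] at a1
    rw [h.s₂.index, ← a1] at a2
    exact (Nat.eq_of_mul_eq_mul_right hp.pos a2).le
  have hDn : D.Normal := Subgroup.normal_inf_normal _ _
  have hD1 := lgen_trivOn hn₁ h.s₁.cT_le hn₁ hDn inf_le_left (fun α _ x _ => (α x).2) hDinv
    (fun g x hx => Subgroup.mem_inf.2 ⟨mul_mem (inv_mem hx) (hn₁.conj_mem x hx g), by
      have hcy : IsCyclic (G ⧸ E₂) := isCyclic_of_prime_card
        (p := p) (by rw [← Subgroup.index_eq_card]; exact h.s₂.index)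
      have hq : QuotientGroup.mk' E₂ g * QuotientGroup.mk' E₂ x =
          QuotientGroup.mk' E₂ x * QuotientGroup.mk' E₂ g := hcy.commGroup.mul_comm _ _
      rw [← QuotientGroup.eq_one_iff, ← QuotientGroup.mk'_apply, map_mul, map_mul, map_mul,
        map_inv, map_inv, hq, mul_inv_cancel_right, inv_mul_cancel]⟩) l hl
  have hYn : Y.Normal := Subgroup.sup_normal _ _
  have hY1 := lgen_trivOn hn₁ h.s₁.cT_le hYn hn1Z le_sup_left hYinv (invA_omZ A₁)
    (fun g x hx => by
      obtain ⟨c, hc, d, hd, rfl⟩ := hmemY.1 hx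
      rw [show (c * d)⁻¹ * (g * (c * d) * g⁻¹) =
        d⁻¹ * (c⁻¹ * (g * c * g⁻¹)) * d * (d⁻¹ * ⁅d, g⁆⁻¹ * d) by
          simp only [commutatorElement_def]; group]
      have h1 : d⁻¹ * (c⁻¹ * (g * c * g⁻¹)) * d ∈ z₁ := by
        simpa using hn1Z.conj_mem _ (mul_mem (inv_mem hc) (hn1Z.conj_mem c hc g)) d⁻¹
      refine mul_mem h1 ?_
      simpa using hn1Z.conj_mem _ (inv_mem (hlt₁.le (hcomm₂ d hd g))) d⁻¹) l hl
  refine hfinal ⟨a, ha⟩ ha2 ?_
  have e1 := hY1 ⟨u, hu₁⟩ (Subgroup.mem_sup_right hu)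
  have e2 := hD1 ⟨a, ha⟩ ha
  set lu : G := ((l ⟨u, hu₁⟩ : E₁) : G) with hlu
  set la : G := ((l ⟨a, ha⟩ : E₁) : G) with hla
  change u⁻¹ * lu ∈ z₁ at e1
  change a⁻¹ * la ∈ D at e2
  show ⁅lu, la⁆ = ⁅u, a⁆
  have hcz : ∀ x ∈ E₁, Commute x (u⁻¹ * lu) := fun x hx => e1.2.2 x hx
  have hdu : Commute (a⁻¹ * la) u := hu.2.2 _ e2.2
  calc ⁅lu, la⁆ = ⁅u * (u⁻¹ * lu), la⁆ := by group
    _ = ⁅u, la⁆ := by
      rw [show ⁅u * (u⁻¹ * lu), la⁆ = u * ⁅u⁻¹ * lu, la⁆ * u⁻¹ * ⁅u, la⁆ by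
        simp only [commutatorElement_def]; group,
        commutatorElement_eq_one_iff_mul_comm.2 (hcz la (l ⟨a, ha⟩).2).symm.eq, mul_one,
        mul_inv_cancel, one_mul]
    _ = ⁅u, a * (a⁻¹ * la)⁆ := by rw [mul_inv_cancel_left]
    _ = ⁅u, a⁆ := by
      rw [show ⁅u, a * (a⁻¹ * la)⁆ = ⁅u, a⁆ * (a * ⁅u, a⁻¹ * la⁆ * a⁻¹) by
        simp only [commutatorElement_def]; group,
        commutatorElement_eq_one_iff_mul_comm.2 hdu.symm.eq, mul_one, mul_inv_cancel, mul_one]

end Cfsg.Agent.CharPair
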