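import Cfsg.Agent.FusRankThree.Defs

/-!
# Two invariant maximal subgroups with automizers: common definitions (S5189)

The setting is purely group theoretical: `E` is a subgroup of index `p` of a finite `p`-group `G`,
`A` is a group of automorphisms of `E` having the automorphisms induced by `G` as a Sylow
`p`-subgroup, and `B` is a group of automorphisms of `G`.
-/

set_option autoImplicit false

open Cfsg.Agent.FusRankThree

namespace Cfsg.Agent.CharPair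

universe u

variable {G : Type u} [Group G]

/-- The automorphisms of `E` induced by its normaliser. -/
def cT (E : Subgroup G) : Subgroup (MulAut E) := E.normalizerMonoidHom.range

/-- The subgroup generated by the `A`-conjugates of `cT E`. -/
def Lgen {E : Subgroup G} (A : Subgroup (MulAut E)) : Subgroup (MulAut E) :=
  Subgroup.closure {γ | ∃ α ∈ A, ∃ c ∈ cT E, γ = α * c * α⁻¹}

/-- `X` is carried into itself by `A`. -/
def InvA {E : Subgroup G} (A : Subgroup (MulAut E)) (X : Subgroup G) : Prop :=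
  ∀ α ∈ A, ∀ x : E, (x : G) ∈ X → ((α x : E) : G) ∈ X

/-- `X` is carried into itself by `B`. -/
def InvB (B : Subgroup (MulAut G)) (X : Subgroup G) : Prop :=
  ∀ β ∈ B, ∀ x ∈ X, β x ∈ X

/-- `α` fixes every element of `X ⊓ E` modulo `M`. -/
def TrivOn {E : Subgroup G} (α : MulAut E) (X M : Subgroup G) : Prop :=
  ∀ x : E, (x : G) ∈ X → (x : G)⁻¹ * ((α x : E) : G) ∈ M

/-- The elements of order prime to `p` of `Lgen A` fix `X ⊓ E` modulo `M`. -/
def OTriv (p : ℕ) {E : Subgroup G} (A : Subgroup (MulAut E)) (X M : Subgroup G) : Prop :=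
  ∀ α ∈ Lgen A, (orderOf α).Coprime p → TrivOn α X M

/-- Some element of order prime to `p` of `Lgen A` acts nontrivially on `E` modulo `M`. -/
def Moves (p : ℕ) {E : Subgroup G} (A : Subgroup (MulAut E)) (M : Subgroup G) : Prop :=
  ¬ OTriv p A E M

/-- A subgroup of index `p` with an automizer. -/
structure Side (p : ℕ) (E : Subgroup G) (A : Subgroup (MulAut E)) (B : Subgroup (MulAut G)) :
    Prop where
  normal : E.Normal
  index : E.index = p
  cT_le : cT E ≤ A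
  syl : ∀ P ≤ A, IsPGroup p P → cT E ≤ P → P ≤ cT E
  ext : ∀ α ∈ A, (∀ c ∈ cT E, α * c * α⁻¹ ∈ cT E) →
    ∃ β ∈ B, ∀ x : E, β (x : G) = ((α x : E) : G)
  moves : Moves p A ⊥

/-- The restrictions of the elements of `B` lie in the automizer. -/
def Restricts {E : Subgroup G} (A : Subgroup (MulAut E)) (B : Subgroup (MulAut G)) : Prop :=
  ∀ β ∈ B, ∃ α ∈ A, ∀ x : E, ((α x : E) : G) = β (x : G)

/-- Two subgroups of index `p`, both invariant under `B`. -/
structure Pair (p : ℕ) (E₁ E₂ : Subgroup G) (A₁ : Subgroup (MulAut E₁))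
    (A₂ : Subgroup (MulAut E₂)) (B : Subgroup (MulAut G)) : Prop where
  pgrp : IsPGroup p G
  odd : Odd p
  rank : RankThree p G
  ne : E₁ ≠ E₂
  s₁ : Side p E₁ A₁ B
  s₂ : Side p E₂ A₂ B
  r₁ : Restricts A₁ B
  r₂ : Restricts A₂ B
  inn : (MulAut.conj : G →* MulAut G).range ≤ B
  bsyl : ∀ P ≤ B, IsPGroup p P → P ≤ (MulAut.conj : G →* MulAut G).range

theorem Pair.symm {p : ℕ} {E₁ E₂ : Subgroup G} {A₁ : Subgroup (MulAut E₁)}
    {A₂ : Subgroup (MulAut E₂)} {B : Subgroup (MulAut G)} (h : Pair p E₁ E₂ A₁ A₂ B) :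
    Pair p E₂ E₁ A₂ A₁ B :=
  ⟨h.pgrp, h.odd, h.rank, h.ne.symm, h.s₂, h.s₁, h.r₂, h.r₁, h.inn, h.bsyl⟩

/-- A normal subgroup below both `E₁` and `E₂`, invariant under everything, such that both
automizers still move the quotients. -/
structure Good (p : ℕ) {E₁ E₂ : Subgroup G} (A₁ : Subgroup (MulAut E₁))
    (A₂ : Subgroup (MulAut E₂)) (B : Subgroup (MulAut G)) (X : Subgroup G) : Prop where
  normal : X.Normal
  le₁ : X ≤ E₁
  le₂ : X ≤ E₂
  invB : InvB B X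
  inv₁ : InvA A₁ X
  inv₂ : InvA A₂ X
  moves₁ : Moves p A₁ X
  moves₂ : Moves p A₂ X

theorem Good.symm {p : ℕ} {E₁ E₂ : Subgroup G} {A₁ : Subgroup (MulAut E₁)}
    {A₂ : Subgroup (MulAut E₂)} {B : Subgroup (MulAut G)} {X : Subgroup G}
    (h : Good p A₁ A₂ B X) : Good p A₂ A₁ B X :=
  ⟨h.normal, h.le₂, h.le₁, h.invB, h.inv₂, h.inv₁, h.moves₂, h.moves₁⟩

/-- No nontrivial good subgroup. -/
def Irr (p : ℕ) {E₁ E₂ : Subgroup G} (A₁ : Subgroup (MulAut E₁)) (A₂ : Subgroup (MulAut E₂))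
    (B : Subgroup (MulAut G)) : Prop :=
  ∀ X : Subgroup G, Good p A₁ A₂ B X → X = ⊥

/-- `τ` centralises `G / E`, inverts `E / C`, and restricts to an element of `Lgen A`. -/
structure Tau (p : ℕ) (E : Subgroup G) (A : Subgroup (MulAut E)) (B : Subgroup (MulAut G))
    (C : Subgroup G) (τ : MulAut G) : Prop where
  mem : τ ∈ B
  cop : (orderOf τ).Coprime p
  lgen : ∃ α ∈ Lgen A, ∀ x : E, ((α x : E) : G) = τ (x : G)
  quot : ∀ g : G, g⁻¹ * τ g ∈ E
  neg : ∀ x ∈ E, x * τ x ∈ C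

/-- `E / C` is a plane without invariant line, inverted by `τ`. -/
structure Plane (p : ℕ) (E : Subgroup G) (A : Subgroup (MulAut E)) (B : Subgroup (MulAut G))
    (C : Subgroup G) (τ : MulAut G) : Prop where
  normal : C.Normal
  le : C ≤ E
  index : C.relIndex E = p ^ 2
  inv : InvA A C
  invB : InvB B C
  irred : ∀ X : Subgroup G, C ≤ X → X ≤ E → InvA A X → X = C ∨ X = E
  tau : Tau p E A B C τ

/-- Modulo `K` the group is `p^(1+2)` and both `E₁`, `E₂` are planes. -/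
structure HeisOver (p : ℕ) {E₁ E₂ : Subgroup G} (A₁ : Subgroup (MulAut E₁))
    (A₂ : Subgroup (MulAut E₂)) (B : Subgroup (MulAut G)) (K : Subgroup G) : Prop where
  index : K.index = p ^ 3
  noncomm : ∃ a b : G, a * b * a⁻¹ * b⁻¹ ∉ K
  plane₁ : ∃ τ, Plane p E₁ A₁ B K τ
  plane₂ : ∃ τ, Plane p E₂ A₂ B K τ

/-- Modulo `K` the group is a Sylow subgroup of `Sp(4,p)`: `E₁` is extraspecial of exponent `p`
with centre `C`, and `E₂` is elementary abelian and irreducible. -/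
structure SpOver (p : ℕ) {E₁ E₂ : Subgroup G} (A₁ : Subgroup (MulAut E₁))
    (A₂ : Subgroup (MulAut E₂)) (B : Subgroup (MulAut G)) (K : Subgroup G) : Prop where
  index : K.index = p ^ 4
  plane : ∃ C τ, Plane p E₁ A₁ B C τ ∧ K ≤ C ∧ C ≤ E₂ ∧ K.relIndex C = p ∧
    (∀ g : G, ∀ c ∈ C, g * c * g⁻¹ * c⁻¹ ∈ K) ∧ (∀ c ∈ C, c⁻¹ * τ c ∈ K) ∧
    ∃ a ∈ E₁, ∃ b ∈ E₁ ⊓ E₂, a * b * a⁻¹ * b⁻¹ ∉ K
  exp₁ : ∀ x ∈ E₁, x ^ p ∈ K
  elem₂ : (∀ x ∈ E₂, x ^ p ∈ K) ∧ ∀ x ∈ E₂, ∀ y ∈ E₂, x * y * x⁻¹ * y⁻¹ ∈ K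
  irred₂ : ∀ X : Subgroup G, K ≤ X → X ≤ E₂ → InvA A₂ X → X = K ∨ X = E₂

/-- The automorphisms of the image of `E` in `G ⧸ K` induced by elements of `A`. -/
def qA (K : Subgroup G) [K.Normal] {E : Subgroup G} (A : Subgroup (MulAut E)) :
    Subgroup (MulAut (E.map (QuotientGroup.mk' K))) where
  carrier := {γ | ∃ α ∈ A, ∀ x : E,
    ((γ ⟨QuotientGroup.mk' K x, Subgroup.mem_map_of_mem _ x.2⟩ : _) : G ⧸ K) =
      QuotientGroup.mk' K ((α x : E) : G)}
  one_mem' := ⟨1, A.one_mem, fun _ => rfl⟩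
  mul_mem' := by
    rintro γ δ ⟨α, hα, h⟩ ⟨β, hβ, k⟩
    refine ⟨α * β, A.mul_mem hα hβ, fun x => ?_⟩
    rw [MulAut.mul_apply, MulAut.mul_apply, ← h (β x)]
    exact congrArg (fun y => ((γ y : _) : G ⧸ K)) (Subtype.ext (k x))
  inv_mem' := by
    rintro γ ⟨α, hα, h⟩
    refine ⟨α⁻¹, A.inv_mem hα, fun x => ?_⟩
    have h1 : γ ⟨QuotientGroup.mk' K ((α⁻¹ x : E) : G), Subgroup.mem_map_of_mem _ (α⁻¹ x).2⟩ =
        ⟨QuotientGroup.mk' K x, Subgroup.mem_map_of_mem _ x.2⟩ := Subtype.ext (by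
      rw [h (α⁻¹ x), MulAut.apply_inv_self])
    rw [← h1, MulAut.inv_apply_self]

/-- The automorphisms of `G ⧸ K` induced by elements of `B`. -/
def qB (K : Subgroup G) [K.Normal] (B : Subgroup (MulAut G)) : Subgroup (MulAut (G ⧸ K)) where
  carrier := {γ | ∃ β ∈ B, ∀ g : G, γ (QuotientGroup.mk' K g) = QuotientGroup.mk' K (β g)}
  one_mem' := ⟨1, B.one_mem, fun _ => rfl⟩
  mul_mem' := by
    rintro γ δ ⟨α, hα, h⟩ ⟨β, hβ, k⟩
    refine ⟨α * β, B.mul_mem hα hβ, fun x => ?_⟩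
    rw [MulAut.mul_apply, MulAut.mul_apply, k x, h (β x)]
  inv_mem' := by
    rintro γ ⟨α, hα, h⟩
    refine ⟨α⁻¹, B.inv_mem hα, fun x => ?_⟩
    have h1 := h (α⁻¹ x)
    rw [MulAut.apply_inv_self] at h1
    rw [← h1, MulAut.inv_apply_self]

end Cfsg.Agent.CharPair
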