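import Cfsg.Agent.CharPair.Tools
import Cfsg.Agent.PFifth.Sign
import Cfsg.Agent.PGroup.Frattini

/-!
# extraspecial top with fixed kernel (S5189)

Paper proof. For either side the involution `τ` fixes `K` and inverts `a ∈ E₁`, `b ∈ E₁ ⊓ E₂`
outside `K`; they commute with `K` and have order `p`; rank then makes `K` abelian, so central.
A fixed element of `E₂` outside `E₁` commutes with `b` by the signs, so `E₂` is abelian, likewise
`E₁`; `E₁ ⊓ E₂` is the centre, of index `p²`; `K ≠ ⊥` as a group of order `p³` which is not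
abelian has rank two.
-/

set_option autoImplicit false

open Cfsg.Agent.FusRankThree

namespace Cfsg.Agent.CharPair

universe u

variable {G : Type u} [Group G] [Finite G] {p : ℕ} [Fact p.Prime] {E₁ E₂ : Subgroup G}
  {A₁ : Subgroup (MulAut E₁)} {A₂ : Subgroup (MulAut E₂)} {B : Subgroup (MulAut G)}

namespace DirectHeisAux

omit [Finite G] in
theorem le_of_relIndex {M X H : Subgroup G} (hMH : M.relIndex H = p) (hMX : M ≤ X)
    (hXH : X ≤ H) {x : G} (hx : x ∈ X) (hxM : x ∉ M) : H ≤ X := by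
  have h1 := Subgroup.relIndex_mul_relIndex M X H hMX hXH
  rw [hMH] at h1
  have h2 : M.relIndex X ≠ 1 := fun h => hxM (Subgroup.relIndex_eq_one.1 h hx)
  rcases (Fact.out : p.Prime).eq_one_or_self_of_dvd _ ⟨_, h1.symm⟩ with h3 | h3
  · exact absurd h3 h2
  · rw [h3] at h1
    exact Subgroup.relIndex_eq_one.1 (by nlinarith [(Fact.out : p.Prime).pos])

omit [Finite G] [Fact p.Prime] in
theorem commute_of_closure {M : Subgroup G} {s : Set G} (hM : M ≤ Subgroup.closure s)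
    (h : ∀ a ∈ s, ∀ b ∈ s, Commute a b) : ∀ x ∈ M, ∀ y ∈ M, Commute x y := fun x hx y hy =>
  haveI := Subgroup.isMulCommutative_closure fun a ha b hb => (h a ha b hb).eq
  congrArg Subtype.val (mul_comm' (⟨x, hM hx⟩ : Subgroup.closure s) ⟨y, hM hy⟩)

/-- One side: the kernel is abelian, and generators are inverted by `τ`. -/
theorem side (h : Pair p E₁ E₂ A₁ A₂ B) {K : Subgroup G} (hK : Good p A₁ A₂ B K)
    {τ : MulAut G} (hP : Plane p E₁ A₁ B K τ) (o₁ : OTriv p A₁ K ⊥) :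
    ∃ a b : G, a ∈ E₁ ∧ a ∉ E₂ ∧ b ∈ E₁ ⊓ E₂ ∧ b ∉ K ∧ τ * τ = 1 ∧
      (∀ k ∈ K, τ k = k) ∧ τ b = b⁻¹ ∧
      τ a = a⁻¹ ∧ a ^ p = 1 ∧ b ^ p = 1 ∧ (∀ x ∈ E₁, x ^ p ∈ K) ∧
      (∀ k ∈ K, Commute a k) ∧ (∀ k ∈ K, Commute b k) ∧
      (∀ M : Subgroup G, K ≤ M → a ∈ M → b ∈ M → E₁ ≤ M) ∧
      K.relIndex (E₁ ⊓ E₂) = p ∧ (E₁ ⊓ E₂).relIndex E₂ = p ∧
      ∀ x ∈ E₁, x * τ x ∈ K := by
  have hpp : p.Prime := Fact.out
  have := hK.normal
  have := h.s₁.normal
  have := h.s₂.normal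
  have ho : Odd (Nat.card G) := PFifth.SignAux.frame_odd h.pgrp fun e => absurd (e ▸ h.odd) (by decide)
  obtain ⟨α, hαL, hα⟩ := hP.tau.lgen
  have hαn : ∀ n : ℕ, ∀ x : E₁, (((α ^ n) x : E₁) : G) = (τ ^ n) (x : G) := fun n => by
    induction n with
    | zero => simp
    | succ n ih => intro x; rw [pow_succ', pow_succ', MulAut.mul_apply, MulAut.mul_apply, hα, ih]
  have hαc : (orderOf α).Coprime p :=
    Nat.Coprime.coprime_dvd_left (orderOf_dvd_of_pow_eq_one (MulEquiv.ext fun x =>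
      Subtype.ext (by rw [hαn, pow_orderOf_eq_one]; rfl))) hP.tau.cop
  have hτK : ∀ k ∈ K, τ k = k := fun k hk => by
    have h1 := o₁ α hαL hαc ⟨k, hK.le₁ hk⟩ hk
    rw [Subgroup.mem_bot, inv_mul_eq_one, hα] at h1
    exact h1.symm
  have hτ : τ * τ = 1 := hP.tau_sq h.pgrp h.s₁.normal hτK
  have hcentK : ∀ x : G, τ x = x⁻¹ → ∀ k ∈ K, Commute x k := fun x hx k hk => by
    have h1 := commute_of_fixed hP.normal hτK x k hk
    rw [hx] at h1
    have h2 : Commute (x⁻¹ * x⁻¹) k := h1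
    obtain ⟨m, hm⟩ := PFifth.SignAux.exists_half ho x
    have h3 : Commute (x * x) k := by simpa using h2.inv_left
    rw [← hm, ← (Commute.refl x).mul_pow]
    exact h3.pow_left m
  have hτI : ∀ k ∈ K, τ k ∈ K := fun k hk => by rwa [hτK k hk]
  have h21 : E₂.relIndex E₁ = p := by
    refine (hpp.eq_one_or_self_of_dvd _ (h.s₂.index ▸
      Subgroup.relIndex_dvd_index_of_normal E₂ E₁)).resolve_left fun h1 => ?_
    have h2 := Subgroup.relIndex_mul_index (Subgroup.relIndex_eq_one.1 h1)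
    rw [h.s₂.index, h.s₁.index] at h2
    have h3 : E₁.relIndex E₂ = 1 := by nlinarith [hpp.pos]
    exact h.ne (le_antisymm (Subgroup.relIndex_eq_one.1 h1) (Subgroup.relIndex_eq_one.1 h3))
  have hI1 : (E₁ ⊓ E₂).relIndex E₁ = p := by rw [Subgroup.inf_relIndex_left, h21]
  have hKI : K ≤ E₁ ⊓ E₂ := le_inf hK.le₁ hK.le₂
  have hKp : K.relIndex (E₁ ⊓ E₂) = p := by
    have h1 := Subgroup.relIndex_mul_relIndex K _ E₁ hKI inf_le_left
    rw [hP.index, hI1, pow_two] at h1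
    exact Nat.eq_of_mul_eq_mul_right hpp.pos h1
  obtain ⟨a₀, ha₀, ha₀'⟩ : ∃ a ∈ E₁, a ∉ E₂ := by
    by_contra hc
    push Not at hc
    rw [Subgroup.relIndex_eq_one.2 hc] at h21
    exact hpp.one_lt.ne h21
  obtain ⟨b₀, hb₀, hb₀'⟩ : ∃ b ∈ E₁ ⊓ E₂, b ∉ K := by
    by_contra hc
    push Not at hc
    rw [Subgroup.relIndex_eq_one.2 hc] at hKp
    exact hpp.one_lt.ne hKp
  obtain ⟨a, haK, haτ⟩ := PFifth.exists_inverted_mem ho hτ hτI (hP.tau.neg a₀ ha₀)
  obtain ⟨b, hbK, hbτ⟩ := PFifth.exists_inverted_mem ho hτ hτI (hP.tau.neg b₀ hb₀.1)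
  have ha : a ∈ E₁ := by simpa using E₁.mul_mem ha₀ (hK.le₁ haK)
  have ha' : a ∉ E₂ := fun h' => ha₀' (by
    simpa [mul_assoc] using E₂.mul_mem h' (E₂.inv_mem (hK.le₂ haK)))
  have hb : b ∈ E₁ ⊓ E₂ := by simpa using (E₁ ⊓ E₂).mul_mem hb₀ (hKI hbK)
  have hb' : b ∉ K := fun h' => hb₀' (by
    simpa [mul_assoc] using K.mul_mem h' (K.inv_mem hbK))
  have hcl : ∀ M : Subgroup G, K ≤ M → a ∈ M → b ∈ M → E₁ ≤ M := by
    intro M hM ham hbm
    have h1 : E₁ ⊓ E₂ ≤ M :=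
      (le_of_relIndex hKp (le_inf hM hKI) inf_le_right (x := b) ⟨hbm, hb⟩ hb').trans inf_le_left
    exact (le_of_relIndex hI1 (le_inf h1 inf_le_left) inf_le_right (x := a) ⟨ham, ha⟩
      fun h' => ha' h'.2).trans inf_le_left
  -- `E₁ / K` is abelian of exponent `p`
  have habel : ∀ x ∈ E₁, ∀ y ∈ E₁, x * y * x⁻¹ * y⁻¹ ∈ K := by
    intro x hx y hy
    set q := QuotientGroup.mk' K
    have hq : ∀ z ∈ E₁, q (τ z) = (q z)⁻¹ := fun z hz => by
      refine (inv_eq_of_mul_eq_one_right ?_).symm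
      rw [← map_mul]
      exact (QuotientGroup.eq_one_iff _).2 (hP.tau.neg z hz)
    have h1 := hq (x * y) (E₁.mul_mem hx hy)
    rw [map_mul τ, map_mul q, hq x hx, hq y hy, map_mul q, mul_inv_rev] at h1
    have h2 : q x * q y = q y * q x := by
      have := congrArg (fun w => w⁻¹) h1
      simpa [mul_inv_rev] using this.symm
    refine (QuotientGroup.eq_one_iff _).1 ?_
    show q (x * y * x⁻¹ * y⁻¹) = 1
    rw [map_mul, map_mul, map_mul, map_inv, map_inv, h2, mul_inv_cancel_right, mul_inv_cancel]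
  have hI_pow : ∀ x ∈ E₁ ⊓ E₂, x ^ p ∈ K := fun x hx => by
    have := Subgroup.pow_index_mem (H := K.subgroupOf (E₁ ⊓ E₂)) ⟨x, hx⟩
    rw [← Subgroup.relIndex, hKp] at this
    exact this
  have hexp : ∀ x ∈ E₁, x ^ p ∈ K := by
    set q := QuotientGroup.mk' K
    have hqc : ∀ x ∈ E₁, ∀ y ∈ E₁, Commute (q x) (q y) := fun x hx y hy => by
      rw [commute_iff_eq, ← commutatorElement_eq_one_iff_mul_comm, ← map_commutatorElement,
        commutatorElement_def, QuotientGroup.mk'_apply, QuotientGroup.eq_one_iff]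
      exact habel x hx y hy
    let X : Subgroup G :=
      { carrier := {x | x ∈ E₁ ∧ q x ^ p = 1}
        one_mem' := ⟨E₁.one_mem, by rw [map_one, one_pow]⟩
        mul_mem' := fun {x y} hx hy => ⟨E₁.mul_mem hx.1 hy.1, by
          rw [map_mul, (hqc x hx.1 y hy.1).mul_pow, hx.2, hy.2, one_mul]⟩
        inv_mem' := fun {x} hx => ⟨E₁.inv_mem hx.1, by rw [map_inv, inv_pow, hx.2, inv_one]⟩ }
    have hXq : ∀ x, q x ^ p = 1 ↔ x ^ p ∈ K := fun x => by
      rw [← map_pow, QuotientGroup.mk'_apply, QuotientGroup.eq_one_iff]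
    rcases hP.irred X (fun k hk => ⟨hK.le₁ hk, (hXq k).2 (K.pow_mem hk p)⟩) (fun x hx => hx.1)
      (fun β hβ x hx => ⟨SetLike.coe_mem _, (hXq _).2 (by
        have h1 := hK.inv₁ β hβ (x ^ p) (by simpa using (hXq _).1 hx.2)
        simpa using h1)⟩) with hX | hX
    · exact absurd (hX.le (show b ∈ X from ⟨hb.1, (hXq b).2 (hI_pow b hb)⟩)) hb'
    · exact fun x hx => (hXq x).1 (hX.ge hx).2
  have hpow : ∀ x : G, τ x = x⁻¹ → x ∈ E₁ → x ^ p = 1 := fun x hx hxE =>
    PFifth.eq_one_of_fixed_inverted ho (hτK _ (hexp x hxE)) (by rw [map_pow, hx, inv_pow])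
  have h12 : (E₁ ⊓ E₂).relIndex E₂ = p := by
    rw [Subgroup.inf_relIndex_right]
    refine (hpp.eq_one_or_self_of_dvd _ (h.s₁.index ▸
      Subgroup.relIndex_dvd_index_of_normal E₁ E₂)).resolve_left fun h1 => ?_
    have h2 := Subgroup.relIndex_mul_index (Subgroup.relIndex_eq_one.1 h1)
    rw [h.s₂.index, h.s₁.index] at h2
    have h3 : E₂.relIndex E₁ = 1 := by nlinarith [hpp.pos]
    exact hpp.one_lt.ne' (h21.symm.trans h3)
  exact ⟨a, b, ha, ha', hb, hb', hτ, hτK, hbτ, haτ, hpow a haτ ha, hpow b hbτ hb.1, hexp,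
    hcentK a haτ, hcentK b hbτ, hcl, hKp, h12, hP.tau.neg⟩

/-- An element of `E₁ ⊓ E₂` inverted by `τ₁` is central in `E₂`. -/
theorem central_other (h : Pair p E₁ E₂ A₁ A₂ B) {K : Subgroup G} (hK : Good p A₁ A₂ B K)
    {τ : MulAut G} (hP : Plane p E₁ A₁ B K τ) (o₁ : OTriv p A₁ K ⊥)
    (hab : ∀ x ∈ E₂, ∀ y ∈ E₂, x * y * x⁻¹ * y⁻¹ ∈ K) :
    ∃ a b : G, a ∈ E₁ ∧ b ∈ E₁ ⊓ E₂ ∧ b ∉ K ∧ a ^ p = 1 ∧ b ^ p = 1 ∧
      (∀ x ∈ E₁, x ^ p ∈ K) ∧ (∀ k ∈ K, Commute a k) ∧ (∀ k ∈ K, Commute b k) ∧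
      (∀ M : Subgroup G, K ≤ M → a ∈ M → b ∈ M → E₁ ≤ M) ∧
      K.relIndex (E₁ ⊓ E₂) = p ∧ ∀ x ∈ E₂, Commute b x := by
  obtain ⟨a, b, ha, -, hb, hbK, hτ, hτK, hbτ, -, hap, hbp, hexp, haC, hbC, hcl, hKp, h12, -⟩ :=
    side h hK hP o₁
  have hpp : p.Prime := Fact.out
  have := h.s₁.normal
  have := h.s₂.normal
  have ho : Odd (Nat.card G) := PFifth.SignAux.frame_odd h.pgrp fun e => absurd (e ▸ h.odd) (by decide)
  obtain ⟨s₀, hs₀, hs₀'⟩ : ∃ x ∈ E₂, x ∉ E₁ ⊓ E₂ := by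
    by_contra hc
    push Not at hc
    rw [Subgroup.relIndex_eq_one.2 hc] at h12
    exact hpp.one_lt.ne h12
  have hτE₂ : ∀ x ∈ E₂, τ x ∈ E₂ := fun x hx => by
    obtain ⟨β, -, hβ⟩ := h.r₂ τ hP.tau.mem
    exact hβ ⟨x, hx⟩ ▸ SetLike.coe_mem _
  obtain ⟨s, hsN, hsτ⟩ := PFifth.exists_fixed_mem ho hτ (N := E₁ ⊓ E₂)
    (fun n hn => ⟨by simpa using E₁.mul_mem hn.1 (hP.tau.quot n), hτE₂ n hn.2⟩)
    (g := s₀) ⟨hP.tau.quot s₀, E₂.mul_mem (E₂.inv_mem hs₀) (hτE₂ _ hs₀)⟩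
  have hs : s ∈ E₂ := by simpa using E₂.mul_mem hs₀ hsN.2
  have hs' : s ∉ E₁ ⊓ E₂ := fun h' => hs₀' (by
    simpa [mul_assoc] using (E₁ ⊓ E₂).mul_mem h' ((E₁ ⊓ E₂).inv_mem hsN))
  have hsb : Commute s b := by
    have hf : s * b * s⁻¹ * b⁻¹ ∈ K := hab s hs b hb.2
    generalize hfdef : s * b * s⁻¹ * b⁻¹ = f at hf
    have h1 : s * b * s⁻¹ = f * b := by rw [← hfdef]; group
    have h2 : τ f = f⁻¹ := by
      conv_lhs => rw [← hfdef]
      simp only [map_mul, map_inv, hsτ, hbτ, inv_inv]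
      calc s * b⁻¹ * s⁻¹ * b = (s * b * s⁻¹)⁻¹ * b := by group
        _ = (f * b)⁻¹ * b := by rw [h1]
        _ = (b * f)⁻¹ * b := by rw [(hbC f hf).eq]
        _ = f⁻¹ := by group
    have h3 := PFifth.eq_one_of_fixed_inverted ho (hτK f hf) h2
    rw [h3, one_mul] at h1
    exact mul_inv_eq_iff_eq_mul.1 h1
  refine ⟨a, b, ha, hb, hbK, hap, hbp, hexp, haC, hbC, hcl, hKp, fun x hx => ?_⟩
  let Cb := Subgroup.centralizer ({b} : Set G)
  have hI : E₁ ⊓ E₂ ≤ Cb ⊓ E₂ :=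
    le_inf ((le_of_relIndex hKp (le_inf (fun k hk => Subgroup.mem_centralizer_singleton_iff.2
      (hbC k hk).eq.symm) (le_inf hK.le₁ hK.le₂) : K ≤ Cb ⊓ (E₁ ⊓ E₂)) inf_le_right (x := b)
      ⟨Subgroup.mem_centralizer_singleton_iff.2 rfl, hb⟩ hbK).trans inf_le_left) inf_le_right
  have h2 := le_of_relIndex h12 hI inf_le_right (x := s)
    ⟨Subgroup.mem_centralizer_singleton_iff.2 hsb.eq, hs⟩ hs' hx
  exact (Subgroup.mem_centralizer_singleton_iff.1 h2.1).symm

/-- The first subgroup is abelian. -/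
theorem abelian_side (h : Pair p E₁ E₂ A₁ A₂ B) {K : Subgroup G} (hK : Good p A₁ A₂ B K)
    {a b : G} (hb : b ∈ E₁ ⊓ E₂) (hbK : b ∉ K) (ha : a ∈ E₁) (hap : a ^ p = 1) (hbp : b ^ p = 1)
    (haC : ∀ k ∈ K, Commute a k) (hbC : ∀ k ∈ K, Commute b k)
    (hcl : ∀ M : Subgroup G, K ≤ M → a ∈ M → b ∈ M → E₁ ≤ M) (hab : Commute a b)
    (hKE : K.relIndex E₁ = p ^ 2) : ∀ x ∈ E₁, ∀ y ∈ E₁, Commute x y := by
  have hpp : p.Prime := Fact.out
  have := hK.normal
  let Φ : Subgroup G := (frattini K).map K.subtype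
  have hΦK : Φ ≤ K := Subgroup.map_subtype_le _
  have hKpg : IsPGroup p K := h.pgrp.to_subgroup K
  have hΦn : Φ.Normal := inferInstance
  let q := QuotientGroup.mk' Φ
  have hgen : E₁ ≤ Subgroup.closure ((K : Set G) ∪ {a, b}) := hcl _
    (fun k hk => Subgroup.subset_closure (Or.inl hk)) (Subgroup.subset_closure (by simp))
    (Subgroup.subset_closure (by simp))
  have hqK : ∀ k ∈ K, ∀ l ∈ K, Commute (q k) (q l) := fun k hk l hl => by
    rw [commute_iff_eq, ← commutatorElement_eq_one_iff_mul_comm, ← map_commutatorElement,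
      QuotientGroup.mk'_apply, QuotientGroup.eq_one_iff]
    exact ⟨_, PGroup.commutatorElement_mem_frattini hKpg ⟨k, hk⟩ ⟨l, hl⟩,
      map_commutatorElement _ _ _⟩
  have hqc : ∀ x ∈ E₁.map q, ∀ y ∈ E₁.map q, Commute x y := by
    refine commute_of_closure (s := q '' ((K : Set G) ∪ {a, b}))
      ((Subgroup.map_mono hgen).trans (MonoidHom.map_closure q _).le) ?_
    rintro _ ⟨s, hs, rfl⟩ _ ⟨t, ht, rfl⟩
    rcases hs with hs | rfl | rfl <;> rcases ht with ht | rfl | rfl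
    all_goals first
      | exact Commute.refl _
      | exact hqK _ hs _ ht
      | exact (haC _ ht).map q
      | exact ((haC _ hs).map q).symm
      | exact (hbC _ ht).map q
      | exact ((hbC _ hs).map q).symm
      | exact hab.map q
      | exact (hab.map q).symm
  let W : Subgroup G :=
    { carrier := {x | x ∈ E₁ ∧ q x ^ p = 1}
      one_mem' := ⟨E₁.one_mem, by rw [map_one, one_pow]⟩
      mul_mem' := fun {x y} hx hy => ⟨E₁.mul_mem hx.1 hy.1, by
        rw [map_mul, (hqc _ (Subgroup.mem_map_of_mem q hx.1) _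
          (Subgroup.mem_map_of_mem q hy.1)).mul_pow, hx.2, hy.2, one_mul]⟩
      inv_mem' := fun {x} hx => ⟨E₁.inv_mem hx.1, by rw [map_inv, inv_pow, hx.2, inv_one]⟩ }
  have hWq : ∀ x, q x ^ p = 1 ↔ x ^ p ∈ Φ := fun x => by
    rw [← map_pow, QuotientGroup.mk'_apply, QuotientGroup.eq_one_iff]
  have hW : E₁ ≤ W := hcl W (fun k hk => ⟨hK.le₁ hk, (hWq k).2
      ⟨_, PGroup.pow_mem_frattini hKpg ⟨k, hk⟩, map_pow _ _ _⟩⟩)
    ⟨ha, by rw [← map_pow, hap, map_one]⟩ ⟨hb.1, by rw [← map_pow, hbp, map_one]⟩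
  have hR : Φ.relIndex E₁ ≤ p ^ 3 := h.rank E₁ Φ (hΦK.trans hK.le₁)
    (fun x hx => (hWq x).1 (hW hx).2) fun x hx y hy => by
      have h1 := hqc _ (Subgroup.mem_map_of_mem q hx) _ (Subgroup.mem_map_of_mem q hy)
      rw [commute_iff_eq, ← commutatorElement_eq_one_iff_mul_comm, ← map_commutatorElement,
        commutatorElement_def, QuotientGroup.mk'_apply, QuotientGroup.eq_one_iff] at h1
      exact h1
  rw [← Subgroup.relIndex_mul_relIndex Φ K E₁ hΦK hK.le₁, hKE] at hR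
  have hidx : (frattini K).index ≤ p := by
    have h1 : Φ.relIndex K = (frattini K).index := by
      show (Φ.subgroupOf K).index = _
      congr 1
      exact Subgroup.comap_map_eq_self_of_injective K.subtype_injective _
    rw [← h1]
    exact Nat.le_of_mul_le_mul_right (hR.trans (by rw [pow_succ' p 2])) (pow_pos hpp.pos 2)
  -- the kernel is cyclic
  have hKc : ∀ k ∈ K, ∀ l ∈ K, Commute k l := by
    by_cases ht : frattini K = ⊤
    · have h0 : (⊥ : Subgroup K) = ⊤ := PGroup.eq_top_of_sup_frattini (by rw [ht, sup_top_eq])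
      intro k hk l _
      have h1 : (⟨k, hk⟩ : K) ∈ (⊥ : Subgroup K) := h0 ▸ Subgroup.mem_top _
      rw [show k = 1 from congrArg Subtype.val (Subgroup.mem_bot.1 h1)]
      exact Commute.one_left l
    obtain ⟨c, hc⟩ : ∃ c : K, c ∉ frattini K := by
      by_contra hcon
      push Not at hcon
      exact ht (eq_top_iff.2 fun x _ => hcon x)
    have hsup : Subgroup.zpowers c ⊔ frattini K = ⊤ := by
      obtain ⟨n, hn⟩ := hKpg.index (frattini K)
      rw [hn] at hidx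
      have hn1 : n ≤ 1 := (Nat.pow_le_pow_iff_right hpp.one_lt).1 (by rwa [pow_one])
      have hn0 : n ≠ 0 := fun h0 => ht (Subgroup.index_eq_one.1 (by rw [hn, h0, pow_zero]))
      rw [show n = 1 by omega, pow_one] at hn
      have hrel : (frattini K).relIndex ⊤ = p := by rw [Subgroup.relIndex_top_right, hn]
      exact top_le_iff.1 (le_of_relIndex hrel le_sup_right le_top (x := c)
        (Subgroup.mem_sup_left (Subgroup.mem_zpowers c)) hc)
    have hz := PGroup.eq_top_of_sup_frattini hsup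
    intro k hk l hl
    obtain ⟨i, hi⟩ := Subgroup.mem_zpowers_iff.1 (hz.ge (Subgroup.mem_top (⟨k, hk⟩ : K)))
    obtain ⟨j, hj⟩ := Subgroup.mem_zpowers_iff.1 (hz.ge (Subgroup.mem_top (⟨l, hl⟩ : K)))
    rw [show k = ((c ^ i : K) : G) from (congrArg Subtype.val hi).symm,
      show l = ((c ^ j : K) : G) from (congrArg Subtype.val hj).symm, Subgroup.coe_zpow,
      Subgroup.coe_zpow]
    exact Commute.zpow_zpow_self _ _ _
  refine commute_of_closure hgen ?_
  intro s hs t ht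
  rcases hs with hs | rfl | rfl <;> rcases ht with ht | rfl | rfl
  all_goals first
    | exact Commute.refl _
    | exact hKc _ hs _ ht
    | exact haC _ ht
    | exact (haC _ hs).symm
    | exact hbC _ ht
    | exact (hbC _ hs).symm
    | exact hab
    | exact hab.symm

end DirectHeisAux

open DirectHeisAux in
theorem direct_heis (h : Pair p E₁ E₂ A₁ A₂ B) {K : Subgroup G} (hK : Good p A₁ A₂ B K)
    (hH : HeisOver p A₁ A₂ B K) (o₁ : OTriv p A₁ K ⊥) (o₂ : OTriv p A₂ K ⊥)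
    (hnot2 : ¬ Cfsg.SectionalPRankLE p 2 G) :
    K ≠ ⊥ ∧ K ≤ Subgroup.center G ∧ (Subgroup.center G).index = p ^ 2 := by
  have hpp : p.Prime := Fact.out
  have := hK.normal
  obtain ⟨τ₁, hP₁⟩ := hH.plane₁
  obtain ⟨τ₂, hP₂⟩ := hH.plane₂
  have hab : ∀ {E : Subgroup G} {A : Subgroup (MulAut E)} {τ : MulAut G}, Plane p E A B K τ →
      ∀ x ∈ E, ∀ y ∈ E, x * y * x⁻¹ * y⁻¹ ∈ K := by
    intro E A τ hP x hx y hy
    set q := QuotientGroup.mk' K
    have hq : ∀ z ∈ E, q (τ z) = (q z)⁻¹ := fun z hz => by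
      refine (inv_eq_of_mul_eq_one_right ?_).symm
      rw [← map_mul]
      exact (QuotientGroup.eq_one_iff _).2 (hP.tau.neg z hz)
    have h1 := hq (x * y) (E.mul_mem hx hy)
    rw [map_mul τ, map_mul q, hq x hx, hq y hy, map_mul q, mul_inv_rev] at h1
    have h2 : q x * q y = q y * q x := by
      have := congrArg (fun w => w⁻¹) h1
      simpa [mul_inv_rev] using this.symm
    refine (QuotientGroup.eq_one_iff _).1 ?_
    show q (x * y * x⁻¹ * y⁻¹) = 1
    rw [map_mul, map_mul, map_mul, map_inv, map_inv, h2, mul_inv_cancel_right, mul_inv_cancel]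
  obtain ⟨a, b, ha, hb, hbK, hap, hbp, -, haC, hbC, hcl, hKp, hbz⟩ :=
    central_other h hK hP₁ o₁ (hab hP₂)
  obtain ⟨t, b', ht, hb', hbK', htp, hbp', -, htC, hbC', hcl', hKp', hbz'⟩ :=
    central_other h.symm hK.symm hP₂ o₂ (hab hP₁)
  have hKI : K ≤ E₁ ⊓ E₂ := le_inf hK.le₁ hK.le₂
  have hI : E₁ ⊓ E₂ ≤ Subgroup.closure ((K : Set G) ∪ {b'}) ⊓ (E₁ ⊓ E₂) :=
    le_of_relIndex hKp (le_inf (fun k hk => Subgroup.subset_closure (Or.inl hk)) hKI) inf_le_right
      (x := b') ⟨Subgroup.subset_closure (by simp), hb'.2, hb'.1⟩ hbK'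
  have hI' : E₁ ⊓ E₂ ≤ Subgroup.closure ((K : Set G) ∪ {b}) ⊓ (E₁ ⊓ E₂) :=
    le_of_relIndex hKp (le_inf (fun k hk => Subgroup.subset_closure (Or.inl hk)) hKI) inf_le_right
      (x := b) ⟨Subgroup.subset_closure (by simp), hb⟩ hbK
  have hab' : Commute a b := by
    have h1 : Subgroup.closure ((K : Set G) ∪ {b'}) ≤ Subgroup.centralizer {a} := by
      rw [Subgroup.closure_le]
      rintro s (hs | rfl)
      · exact Subgroup.mem_centralizer_singleton_iff.2 (haC s hs).symm.eq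
      · exact Subgroup.mem_centralizer_singleton_iff.2 (hbz' a ha).eq
    exact (Subgroup.mem_centralizer_singleton_iff.1 (h1 (hI hb).1) : b * a = a * b).symm
  have htb' : Commute t b' := by
    have h1 : Subgroup.closure ((K : Set G) ∪ {b}) ≤ Subgroup.centralizer {t} := by
      rw [Subgroup.closure_le]
      rintro s (hs | rfl)
      · exact Subgroup.mem_centralizer_singleton_iff.2 (htC s hs).symm.eq
      · exact Subgroup.mem_centralizer_singleton_iff.2 (hbz t ht).eq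
    exact (Subgroup.mem_centralizer_singleton_iff.1 (h1 (hI' ⟨hb'.2, hb'.1⟩).1) :
      b' * t = t * b').symm
  have hA₁ := abelian_side h hK hb hbK ha hap hbp haC hbC hcl hab' hP₁.index
  have hA₂ := abelian_side h.symm hK.symm hb' hbK' ht htp hbp' htC hbC' hcl' htb' hP₂.index
  have hsup : E₁ ⊔ E₂ = ⊤ := by
    have h1 : E₁.relIndex ⊤ = p := by rw [Subgroup.relIndex_top_right, h.s₁.index]
    obtain ⟨x, hx, hx'⟩ : ∃ x ∈ E₂, x ∉ E₁ := by
      by_contra hc
      push Not at hc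
      have h2 := Subgroup.relIndex_mul_index (hc : E₂ ≤ E₁)
      rw [h.s₁.index, h.s₂.index] at h2
      have h3 : E₂.relIndex E₁ = 1 := by nlinarith [hpp.pos]
      exact h.ne (le_antisymm (Subgroup.relIndex_eq_one.1 h3) hc)
    exact top_le_iff.1 (le_of_relIndex h1 le_sup_left le_top (x := x) (Subgroup.mem_sup_right hx) hx')
  have hcen : E₁ ⊓ E₂ ≤ Subgroup.center G := by
    intro d hd
    rw [Subgroup.mem_center_iff]
    intro g
    have h1 : E₁ ⊔ E₂ ≤ Subgroup.centralizer {d} := sup_le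
      (fun x hx => Subgroup.mem_centralizer_singleton_iff.2 (hA₁ x hx d hd.1).eq)
      (fun x hx => Subgroup.mem_centralizer_singleton_iff.2 (hA₂ x hx d hd.2).eq)
    exact Subgroup.mem_centralizer_singleton_iff.1 (h1 (hsup.ge (Subgroup.mem_top g)))
  obtain ⟨u, v, huv⟩ := hH.noncomm
  have hne : u * v ≠ v * u := fun e => huv (by rw [e, mul_inv_cancel_right, mul_inv_cancel]; exact K.one_mem)
  refine ⟨?_, hKI.trans hcen, ?_⟩
  · rintro rfl
    apply hnot2
    intro H N _ A hA hAp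
    have hc : Nat.card G = p ^ 3 := by rw [← Subgroup.index_bot, hH.index]
    by_contra hgt
    rw [not_le] at hgt
    obtain ⟨n, hn⟩ := (((h.pgrp.to_subgroup H).to_quotient N).to_subgroup A).exists_card_eq
    rw [hn] at hgt
    have h3 : 3 ≤ n := (Nat.pow_lt_pow_iff_right hpp.one_lt).1 hgt
    have hA3 : p ^ 3 ≤ Nat.card A := hn ▸ Nat.pow_le_pow_right hpp.pos h3
    have hAle : Nat.card A ≤ Nat.card (H ⧸ N) := Nat.card_le_card_of_injective _ Subtype.val_injective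
    have hq : Nat.card (H ⧸ N) ≤ Nat.card H :=
      Nat.card_le_card_of_surjective _ (QuotientGroup.mk'_surjective N)
    have hHG : Nat.card H ≤ Nat.card G := Nat.card_le_card_of_injective _ Subtype.val_injective
    have hHt : H = ⊤ := Subgroup.eq_top_of_card_eq H (by omega)
    have hinj : Function.Injective (QuotientGroup.mk' N) :=
      ((Nat.bijective_iff_surjective_and_card _).2 ⟨QuotientGroup.mk'_surjective N, by omega⟩).injective
    have hAt : A = ⊤ := Subgroup.eq_top_of_card_eq A (by omega)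
    refine hne (congrArg Subtype.val (hinj (a₁ := (⟨u, hHt ▸ trivial⟩ * ⟨v, hHt ▸ trivial⟩ : H))
      (a₂ := ⟨v, hHt ▸ trivial⟩ * ⟨u, hHt ▸ trivial⟩) ?_))
    rw [map_mul, map_mul]
    have := congrArg Subtype.val (mul_comm'
      (⟨QuotientGroup.mk' N ⟨u, hHt ▸ trivial⟩, hAt ▸ trivial⟩ : A)
      ⟨QuotientGroup.mk' N ⟨v, hHt ▸ trivial⟩, hAt ▸ trivial⟩)
    exact this
  · have hidx : (E₁ ⊓ E₂).index = p ^ 2 := by
      have h1 := Subgroup.relIndex_mul_index hKI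
      rw [hKp, hH.index] at h1
      exact Nat.eq_of_mul_eq_mul_left hpp.pos (h1.trans (pow_succ' p 2))
    obtain ⟨i, hi, hi'⟩ := (Nat.dvd_prime_pow hpp).1 (hidx ▸ Subgroup.index_dvd_of_le hcen)
    rcases Nat.lt_or_ge i 2 with hlt | hge
    · exfalso
      have : IsCyclic (G ⧸ Subgroup.center G) := by
        interval_cases i
        · rw [pow_zero, Subgroup.index_eq_card] at hi'
          have : Subsingleton (G ⧸ Subgroup.center G) := (Nat.card_eq_one_iff_unique.1 hi').1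
          infer_instance
        · rw [pow_one, Subgroup.index_eq_card] at hi'
          exact isCyclic_of_prime_card hi'
      exact hne (commutative_of_cyclic_center_quotient (QuotientGroup.mk' (Subgroup.center G))
        (QuotientGroup.ker_mk' _).le u v)
    · rw [hi', show i = 2 by omega]

end Cfsg.Agent.CharPair
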