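import Cfsg.Agent.CharPair.Base
import Cfsg.Agent.PFifth.Sign
import Cfsg.Agent.PGroup.Frattini

/-!
# symplectic top with fixed kernel (S5189)

Paper proof. `τ` fixes `C` and squares to one; `a, b ∈ E₁` inverted by `τ` commute with `C`, and
`e = [a,b] ∈ C` commutes with `K` and `b`. By irreducibility `E₂ = C_{E₂}(K) K`, so some `z`
outside `E₁` commutes with `K` and is fixed by `τ`; `[z,b] = 1` by the sign, `[z,e] = 1` by
conjugating with `a`. So `E₂/Φ(K)` is abelian; the elements of `E₂` with `p`-th power in `Φ(K)`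
form an invariant subgroup containing `b`, hence all of `E₂`; so `E₂/Φ(K)` is an elementary
section of order at least `p⁴` unless `K = ⊥`.
-/

set_option autoImplicit false

open Cfsg.Agent.FusRankThree

namespace Cfsg.Agent.CharPair

universe u

variable {G : Type u} [Group G] [Finite G] {p : ℕ} [Fact p.Prime] {E₁ E₂ : Subgroup G}
  {A₁ : Subgroup (MulAut E₁)} {A₂ : Subgroup (MulAut E₂)} {B : Subgroup (MulAut G)}

namespace DirectSpAux

omit [Finite G] [Fact p.Prime] in
theorem eq_one_of_pow_cop (hG : IsPGroup p G) {n : ℕ} (hn : n.Coprime p) {x : G}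
    (h : x ^ n = 1) : x = 1 := by
  obtain ⟨k, hk⟩ := hG x
  exact orderOf_eq_one_iff.1 (Nat.eq_one_of_dvd_coprimes (hn.pow_right k)
    (orderOf_dvd_of_pow_eq_one h) (orderOf_dvd_of_pow_eq_one hk))

omit [Finite G] [Fact p.Prime] in
theorem pow_shift {τ : MulAut G} {x k : G} (hk : τ k = k) (hx : τ x = x * k) :
    ∀ n : ℕ, (τ ^ n) x = x * k ^ n := fun n => by
  induction n with
  | zero => simp
  | succ n ih => rw [pow_succ', MulAut.mul_apply, ih, map_mul, map_pow, hk, hx, mul_assoc, ← pow_succ']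

omit [Finite G] [Fact p.Prime] in
theorem fixed_of_shift (hG : IsPGroup p G) {τ : MulAut G} (hτ : (orderOf τ).Coprime p) {x : G}
    (h : τ (x⁻¹ * τ x) = x⁻¹ * τ x) : τ x = x := by
  have h1 := pow_shift h (mul_inv_cancel_left x (τ x)).symm (orderOf τ)
  rw [pow_orderOf_eq_one, MulAut.one_apply, left_eq_mul] at h1
  exact (inv_mul_eq_one.1 (eq_one_of_pow_cop hG hτ h1)).symm

omit [Finite G] in
theorem eq_of_relIndex_prime {M X H : Subgroup G} (hMH : M.relIndex H = p) (hMX : M ≤ X)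
    (hXH : X ≤ H) {x : G} (hx : x ∈ X) (hxM : x ∉ M) : H ≤ X := by
  have h1 := Subgroup.relIndex_mul_relIndex M X H hMX hXH
  rw [hMH] at h1
  have h2 : M.relIndex X ≠ 1 := fun h => hxM (Subgroup.relIndex_eq_one.1 h hx)
  rcases (Fact.out : p.Prime).eq_one_or_self_of_dvd _ ⟨_, h1.symm⟩ with h3 | h3
  · exact absurd h3 h2
  · rw [h3] at h1
    exact Subgroup.relIndex_eq_one.1 (by nlinarith [(Fact.out : p.Prime).pos])

omit [Finite G] [Fact p.Prime] in
theorem commute_mem {M : Subgroup G} {S : Set G} {x : G} (hM : M ≤ Subgroup.closure S)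
    (h : ∀ s ∈ S, Commute s x) {y : G} (hy : y ∈ M) : Commute y x := by
  refine Subgroup.closure_induction (k := S) (p := fun z _ => Commute z x) h (Commute.one_left x)
    (fun _ _ _ _ h1 h2 => h1.mul_left h2) (fun _ _ h1 => h1.inv_left) (hM hy)

end DirectSpAux

open DirectSpAux in
theorem direct_sp (h : Pair p E₁ E₂ A₁ A₂ B) {K : Subgroup G} (hK : Good p A₁ A₂ B K)
    (hS : SpOver p A₁ A₂ B K) (o₁ : OTriv p A₁ K ⊥) (o₂ : OTriv p A₂ K ⊥) : K = ⊥ := by
  obtain ⟨C, τ, hP, hKC, hCE₂, hCK, hcen, hτC, a₀, ha₀, b₀, hb₀, hab₀⟩ := hS.plane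
  have hpp : p.Prime := Fact.out
  have hp2 : p ≠ 2 := fun e => absurd (e ▸ h.odd) (by decide)
  have ho : Odd (Nat.card G) := PFifth.SignAux.frame_odd h.pgrp hp2
  have := hP.normal
  have := hK.normal
  have := h.s₁.normal
  -- `τ` fixes `C` and has square one
  obtain ⟨α, hαL, hα⟩ := hP.tau.lgen
  have hαc : (orderOf α).Coprime p := by
    have h1 : ∀ n : ℕ, ∀ x : E₁, (((α ^ n) x : E₁) : G) = (τ ^ n) (x : G) := fun n => by
      induction n with
      | zero => simp
      | succ n ih => intro x; rw [pow_succ', pow_succ', MulAut.mul_apply, MulAut.mul_apply, hα, ih]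
    refine Nat.Coprime.coprime_dvd_left (orderOf_dvd_of_pow_eq_one (MulEquiv.ext fun x =>
      Subtype.ext ?_)) hP.tau.cop
    rw [h1, pow_orderOf_eq_one]
    rfl
  have hτK : ∀ k ∈ K, τ k = k := fun k hk => by
    have h1 := o₁ α hαL hαc ⟨k, hK.le₁ hk⟩ hk
    rw [Subgroup.mem_bot, inv_mul_eq_one, hα] at h1
    exact h1.symm
  have hfix : ∀ c ∈ C, τ c = c := fun c hc =>
    fixed_of_shift h.pgrp hP.tau.cop (hτK _ (hτC c hc))
  have hE₁ : ∀ x ∈ E₁, τ (τ x) = x := fun x hx => by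
    have h1 := hP.tau.neg x hx
    have h2 := hfix _ h1
    rw [map_mul] at h2
    have h3 : (x⁻¹ * τ (τ x)) = x⁻¹ * ((τ x)⁻¹ * (x * τ x)) := by rw [← h2]; group
    have h4 : x⁻¹ * τ (τ x) ∈ C := by
      rw [h3]
      have h5 := (inferInstance : C.Normal).conj_mem _ h1 (x⁻¹ * (τ x)⁻¹ )
      have h6 := C.mul_mem h5 (C.inv_mem (hP.normal.conj_mem _ h1 x⁻¹))
      simpa [mul_assoc] using h6
    have hc2 : (orderOf (τ * τ)).Coprime p := Nat.Coprime.coprime_dvd_left
      (by rw [← pow_two]; exact orderOf_pow_dvd 2) hP.tau.cop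
    exact fixed_of_shift h.pgrp hc2 (τ := τ * τ)
      (by rw [MulAut.mul_apply, MulAut.mul_apply, hfix _ h4, hfix _ h4])
  have hτ : τ * τ = 1 := by
    have hc2 : (orderOf (τ * τ)).Coprime p := Nat.Coprime.coprime_dvd_left
      (by rw [← pow_two]; exact orderOf_pow_dvd 2) hP.tau.cop
    refine MulEquiv.ext fun g => ?_
    refine fixed_of_shift h.pgrp hc2 ?_
    have h1 := hP.tau.quot g
    have h2 := E₁.mul_mem h1 (hP.tau.quot (τ g))
    rw [mul_assoc, mul_inv_cancel_left] at h2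
    exact hE₁ _ h2
  have hcentC : ∀ x : G, τ x = x⁻¹ → ∀ c ∈ C, Commute x c := fun x hx c hc => by
    have h1 := hfix _ (hP.normal.conj_mem c hc x)
    rw [map_mul, map_mul, map_inv, hfix c hc, hx, inv_inv] at h1
    have h3 : (x * x) * c = c * (x * x) := by
      calc (x * x) * c = x * (x * c * x⁻¹) * x := by group
        _ = x * (x⁻¹ * c * x) * x := by rw [h1]
        _ = c * (x * x) := by group
    obtain ⟨k, hk⟩ := PFifth.SignAux.exists_half ho x
    rw [← hk, ← (Commute.refl x).mul_pow]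
    exact (show Commute (x * x) c from h3).pow_left k
  -- the elements `a`, `b`, `e`
  have hτC' : ∀ c ∈ C, τ c ∈ C := fun c hc => by rwa [hfix c hc]
  obtain ⟨a, haC, haτ⟩ := PFifth.exists_inverted_mem ho hτ hτC' (hP.tau.neg a₀ ha₀)
  obtain ⟨b, hbC, hbτ⟩ := PFifth.exists_inverted_mem ho hτ hτC' (hP.tau.neg b₀ hb₀.1)
  have ha : a ∈ E₁ := by simpa using E₁.mul_mem ha₀ (hP.le haC)
  have hb : b ∈ E₁ := by simpa using E₁.mul_mem hb₀.1 (hP.le hbC)
  have hb' : b ∈ E₂ := by simpa using E₂.mul_mem hb₀.2 (hCE₂ hbC)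
  have hab : a * b * a⁻¹ * b⁻¹ ∉ K := by
    intro hK'
    have hq : ∀ g : G, ∀ c ∈ C, Commute (QuotientGroup.mk' K g) (QuotientGroup.mk' K c) :=
      fun g c hc => by
        rw [commute_iff_eq, ← commutatorElement_eq_one_iff_mul_comm, ← map_commutatorElement,
          commutatorElement_def, QuotientGroup.mk'_apply, QuotientGroup.eq_one_iff]
        exact hcen g c hc
    refine hab₀ ((QuotientGroup.eq_one_iff _).1 ?_)
    have h1 : Commute (QuotientGroup.mk' K a) (QuotientGroup.mk' K b) := by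
      rw [commute_iff_eq, ← commutatorElement_eq_one_iff_mul_comm, ← map_commutatorElement,
        commutatorElement_def, QuotientGroup.mk'_apply, QuotientGroup.eq_one_iff]
      exact hK'
    have h2 := h1.mul_left ((hq b _ (C.inv_mem haC)).symm)
    rw [← map_mul, show a * (a₀⁻¹ * a)⁻¹ = a₀ by group] at h2
    have h3 := h2.mul_right (hq a₀ _ (C.inv_mem hbC))
    rw [← map_mul, show b * (b₀⁻¹ * b)⁻¹ = b₀ by group, commute_iff_eq,
      ← commutatorElement_eq_one_iff_mul_comm, ← map_commutatorElement] at h3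
    exact h3
  have haE₂ : a ∉ E₂ := fun ha' => hab (hS.elem₂.2 a ha' b hb')
  set e := a * b * a⁻¹ * b⁻¹ with he
  have heC : e ∈ C := by
    have h1 := hP.tau.neg (a * b) (E₁.mul_mem ha hb)
    rwa [map_mul, haτ, hbτ, show a * b * (a⁻¹ * b⁻¹) = e by rw [he]; group] at h1
  have haK : ∀ k ∈ K, Commute a k := fun k hk => hcentC a haτ k (hKC hk)
  have hbK : ∀ k ∈ K, Commute b k := fun k hk => hcentC b hbτ k (hKC hk)
  have heK : ∀ k ∈ K, Commute e k := fun k hk =>
    (((haK k hk).mul_left (hbK k hk)).mul_left (haK k hk).inv_left).mul_left (hbK k hk).inv_left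
  have heb : Commute b e := hcentC b hbτ e heC
  have hbnC : b ∉ C := fun hb'' => hab (hcen a b hb'')
  have hbp : b ^ p = 1 := PFifth.eq_one_of_fixed_inverted ho (hτK _ (hS.exp₁ b hb))
    (by rw [map_pow, hbτ, inv_pow])
  -- `C = K⟨e⟩`, `E₁ ⊓ E₂ = C⟨b⟩`
  set I := E₁ ⊓ E₂ with hI
  have hIne : I.relIndex E₁ ≠ 1 := fun h1 => haE₂ (Subgroup.relIndex_eq_one.1 h1 ha).2
  have hCI : C ≤ I := le_inf hP.le hCE₂
  have hCI' : C.relIndex I = p := by
    have h1 := Subgroup.relIndex_mul_relIndex C I E₁ hCI inf_le_left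
    rw [hP.index] at h1
    have h2 : C.relIndex I ≠ 1 := fun h2 => hbnC (Subgroup.relIndex_eq_one.1 h2 ⟨hb, hb'⟩)
    exact ((hpp.mul_eq_prime_sq_iff h2 hIne).1 h1).1
  have hIgen : I ≤ Subgroup.closure ((K : Set G) ∪ {b, e}) := by
    have hsub : ∀ s ∈ (K : Set G) ∪ {b, e}, s ∈ Subgroup.closure ((K : Set G) ∪ {b, e}) :=
      fun s hs => Subgroup.subset_closure hs
    have hle : Subgroup.closure ((K : Set G) ∪ {b, e}) ≤ I := by
      rw [Subgroup.closure_le]
      rintro s (hs | rfl | rfl)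
      · exact ⟨hK.le₁ hs, hK.le₂ hs⟩
      · exact ⟨hb, hb'⟩
      · exact hCI heC
    have h1 : C ≤ Subgroup.closure ((K : Set G) ∪ {b, e}) := by
      refine le_trans ?_ (inf_le_left : Subgroup.closure ((K : Set G) ∪ {b, e}) ⊓ C ≤ _)
      exact eq_of_relIndex_prime hCK (le_inf (fun k hk => hsub k (Or.inl hk)) hKC) inf_le_right
        (x := e) ⟨hsub e (by simp), heC⟩ hab
    exact eq_of_relIndex_prime hCI' h1 hle (x := b) (hsub b (by simp)) hbnC
  -- an element `z` of `E₂` outside `E₁`, centralising `K` and fixed by `τ`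
  let D : Subgroup G := E₂ ⊓ Subgroup.centralizer (K : Set G)
  have hmemD : ∀ x, x ∈ D ↔ x ∈ E₂ ∧ ∀ k ∈ K, Commute x k := fun x => by
    simp only [D, Subgroup.mem_inf, Subgroup.mem_centralizer_iff, SetLike.mem_coe]
    exact and_congr_right fun _ => ⟨fun h1 k hk => (h1 k hk).symm, fun h1 k hk => (h1 k hk).symm⟩
  have hDK : E₂ ≤ D ⊔ K := by
    rcases hS.irred₂ (D ⊔ K) le_sup_right (sup_le inf_le_left hK.le₂) (fun β hβ x hx => by
      obtain ⟨d, hd, k, hk, hdk⟩ := Subgroup.mem_sup_of_normal_right.1 hx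
      have hdE := ((hmemD d).1 hd).1
      have hx' : x = ⟨d, hdE⟩ * ⟨k, hK.le₂ hk⟩ := Subtype.ext hdk.symm
      rw [hx', map_mul, Subgroup.coe_mul]
      refine Subgroup.mul_mem_sup ((hmemD _).2 ⟨SetLike.coe_mem _, fun k' hk' => ?_⟩)
        (hK.inv₂ β hβ _ hk)
      have h1 : Commute (⟨d, hdE⟩ : E₂) (β⁻¹ ⟨k', hK.le₂ hk'⟩) := Subtype.ext
        ((((hmemD d).1 hd).2 _ (hK.inv₂ β⁻¹ (A₂.inv_mem hβ) _ hk')).eq)
      have h2 := congrArg Subtype.val (h1.map β).eq
      rw [MulAut.apply_inv_self] at h2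
      exact h2) with h1 | h1
    · exact absurd (hKC (h1.le (Subgroup.mem_sup_left ((hmemD b).2 ⟨hb', hbK⟩)))) hbnC
    · exact h1.ge
  obtain ⟨z₀, hz₀, hz₀'⟩ : ∃ z₀ ∈ D, z₀ ∉ E₁ := by
    by_contra hc
    push Not at hc
    have h1 : E₂ ≤ E₁ := hDK.trans (sup_le hc hK.le₁)
    have h2 := Subgroup.relIndex_mul_index h1
    rw [h.s₁.index, h.s₂.index] at h2
    have h3 : E₂.relIndex E₁ = 1 := by nlinarith [hpp.pos]
    exact haE₂ (Subgroup.relIndex_eq_one.1 h3 ha)
  have hτD : ∀ x ∈ D, τ x ∈ D := fun x hx => by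
    rw [hmemD] at hx ⊢
    obtain ⟨β, -, hβ⟩ := h.r₂ τ hP.tau.mem
    refine ⟨hβ ⟨x, hx.1⟩ ▸ SetLike.coe_mem _, fun k hk => ?_⟩
    have h1 := (hx.2 k hk).map τ
    rwa [hτK k hk] at h1
  obtain ⟨z, hzN, hzτ⟩ := PFifth.exists_fixed_mem ho hτ (N := E₁ ⊓ D)
    (fun n hn => ⟨by simpa using E₁.mul_mem hn.1 (hP.tau.quot n), hτD n hn.2⟩)
    (g := z₀) ⟨hP.tau.quot z₀, D.mul_mem (D.inv_mem hz₀) (hτD _ hz₀)⟩
  have hzD : z ∈ E₂ ∧ ∀ k ∈ K, Commute z k :=
    (hmemD z).1 (by simpa using D.mul_mem hz₀ hzN.2)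
  have hzE₁ : z ∉ E₁ := fun hz => hz₀' (by
    simpa using E₁.mul_mem hz (E₁.inv_mem hzN.1))
  -- `z` commutes with `b` and `e`
  have hzb : Commute z b := by
    have hf : z * b * z⁻¹ * b⁻¹ ∈ K := hS.elem₂.2 z hzD.1 b hb'
    generalize hfdef : z * b * z⁻¹ * b⁻¹ = f at hf
    have h1 : z * b * z⁻¹ = f * b := by rw [← hfdef]; group
    have h2 : τ f = f⁻¹ := by
      conv_lhs => rw [← hfdef]
      simp only [map_mul, map_inv, hzτ, hbτ, inv_inv]
      calc z * b⁻¹ * z⁻¹ * b = (z * b * z⁻¹)⁻¹ * b := by group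
        _ = (f * b)⁻¹ * b := by rw [h1]
        _ = (b * f)⁻¹ * b := by rw [(hbK f hf).eq]
        _ = f⁻¹ := by group
    have h3 := PFifth.eq_one_of_fixed_inverted ho (hτK f hf) h2
    rw [h3, one_mul] at h1
    exact mul_inv_eq_iff_eq_mul.1 h1
  have hze : Commute z e := by
    have hzE₂ := hzD.1
    have hw : a * z * a⁻¹ * z⁻¹ ∈ I :=
      ⟨by
        have h1 := E₁.mul_mem ha (h.s₁.normal.conj_mem _ (E₁.inv_mem ha) z)
        simpa [mul_assoc] using h1,
       E₂.mul_mem (h.s₂.normal.conj_mem _ hzE₂ a) (E₂.inv_mem hzE₂)⟩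
    have hweb : Commute (a * z * a⁻¹ * z⁻¹) (e * b) := commute_mem hIgen (by
      rintro s (hs | hs | hs)
      · exact ((heK s hs).mul_left (hbK s hs)).symm
      · rw [hs]; exact heb.mul_right (Commute.refl b)
      · rw [Set.mem_singleton_iff.1 hs]; exact (Commute.refl e).mul_right heb.symm) hw
    have h1 : Commute (a * z * a⁻¹) (a * b * a⁻¹) := (Commute.conj_iff a).2 hzb
    rw [show a * b * a⁻¹ = e * b by rw [he]; group] at h1
    have h2 := hweb.inv_left.mul_left h1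
    rw [show (a * z * a⁻¹ * z⁻¹)⁻¹ * (a * z * a⁻¹) = z by group] at h2
    have h3 := h2.mul_right hzb.inv_right
    rwa [mul_inv_cancel_right] at h3
  -- the section `E₂ / Φ(K)`
  have hS₂ : E₂ ≤ Subgroup.closure ((K : Set G) ∪ {b, e, z}) := by
    have hle : Subgroup.closure ((K : Set G) ∪ {b, e, z}) ≤ E₂ := by
      rw [Subgroup.closure_le]
      rintro s (hs | rfl | rfl | rfl)
      · exact hK.le₂ hs
      · exact hb'
      · exact hCE₂ heC
      · exact hzD.1
    have hIz : I.relIndex E₂ = p := by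
      rw [hI, Subgroup.inf_relIndex_right]
      refine ((hpp.eq_one_or_self_of_dvd _ ?_).resolve_left fun h1 =>
        hzE₁ (Subgroup.relIndex_eq_one.1 h1 hzD.1))
      rw [← h.s₁.index]
      exact Subgroup.relIndex_dvd_index_of_normal E₁ E₂
    exact eq_of_relIndex_prime hIz (hIgen.trans (Subgroup.closure_mono
      (Set.union_subset_union_right _ (by intro s; simp; tauto)))) hle
      (x := z) (Subgroup.subset_closure (by simp)) fun h1 => hzE₁ h1.1
  have hKp : IsPGroup p K := h.pgrp.to_subgroup K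
  let R : Subgroup G := (frattini K).map K.subtype
  have hRK : R ≤ K := Subgroup.map_subtype_le _
  have hRn : R.Normal := inferInstance
  let q := QuotientGroup.mk' R
  have hqK : ∀ k ∈ K, ∀ l ∈ K, Commute (q k) (q l) := fun k hk l hl => by
    rw [commute_iff_eq, ← commutatorElement_eq_one_iff_mul_comm, ← map_commutatorElement,
      QuotientGroup.mk'_apply, QuotientGroup.eq_one_iff]
    exact ⟨_, PGroup.commutatorElement_mem_frattini hKp ⟨k, hk⟩ ⟨l, hl⟩, map_commutatorElement _ _ _⟩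
  have hqc : ∀ x ∈ E₂, ∀ y ∈ E₂, Commute (q x) (q y) := by
    intro x hx y hy
    have hgen : ∀ s ∈ (K : Set G) ∪ {b, e, z}, ∀ t ∈ (K : Set G) ∪ {b, e, z},
        Commute (q s) (q t) := by
      rintro s (hs | rfl | rfl | rfl) t (ht | rfl | rfl | rfl)
      all_goals first
        | exact Commute.refl _
        | exact hqK _ hs _ ht
        | exact ((hbK _ (by assumption)).map q)
        | exact ((hbK _ (by assumption)).map q).symm
        | exact ((heK _ (by assumption)).map q)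
        | exact ((heK _ (by assumption)).map q).symm
        | exact ((hzD.2 _ (by assumption)).map q)
        | exact ((hzD.2 _ (by assumption)).map q).symm
        | exact heb.map q
        | exact (heb.map q).symm
        | exact hzb.map q
        | exact (hzb.map q).symm
        | exact hze.map q
        | exact (hze.map q).symm
    have hq : ∀ x ∈ E₂, q x ∈ Subgroup.closure (q '' ((K : Set G) ∪ {b, e, z})) := fun x hx => by
      rw [← MonoidHom.map_closure]
      exact Subgroup.mem_map_of_mem q (hS₂ hx)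
    refine commute_mem le_rfl ?_ (hq x hx)
    rintro _ ⟨s, hs, rfl⟩
    refine (commute_mem le_rfl ?_ (hq y hy)).symm
    rintro _ ⟨t, ht, rfl⟩
    exact hgen t ht s hs
  let W : Subgroup G :=
    { carrier := {x | x ∈ E₂ ∧ q x ^ p = 1}
      one_mem' := ⟨E₂.one_mem, by rw [map_one, one_pow]⟩
      mul_mem' := fun {x y} hx hy => ⟨E₂.mul_mem hx.1 hy.1, by
        rw [map_mul, (hqc x hx.1 y hy.1).mul_pow, hx.2, hy.2, one_mul]⟩
      inv_mem' := fun {x} hx => ⟨E₂.inv_mem hx.1, by rw [map_inv, inv_pow, hx.2, inv_one]⟩ }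
  have hWq : ∀ x, q x ^ p = 1 ↔ x ^ p ∈ R := fun x => by
    rw [← map_pow, QuotientGroup.mk'_apply, QuotientGroup.eq_one_iff]
  have hKW : K ≤ W := fun k hk => ⟨hK.le₂ hk, (hWq k).2
    ⟨_, PGroup.pow_mem_frattini hKp ⟨k, hk⟩, map_pow _ _ _⟩⟩
  have hWinv : InvA A₂ W := by
    intro β hβ x hx
    refine ⟨SetLike.coe_mem _, (hWq _).2 ?_⟩
    obtain ⟨y, hy, hyx⟩ := (hWq _).1 hx.2
    let f : K →* K := ((E₂.subtype.comp (β : E₂ →* E₂)).comp
      (Subgroup.inclusion hK.le₂)).codRestrict K fun k => hK.inv₂ β hβ _ k.2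
    refine ⟨f y, PGroup.frattini_le_comap_of_pGroup hKp f hy, ?_⟩
    show ((β (Subgroup.inclusion hK.le₂ y) : E₂) : G) = _
    rw [show Subgroup.inclusion hK.le₂ y = x ^ p from Subtype.ext hyx, map_pow]
    rfl
  have hWtop : E₂ ≤ W := by
    rcases hS.irred₂ W hKW (fun x hx => hx.1) hWinv with h1 | h1
    · have hbW : b ∈ W := ⟨hb', by rw [← map_pow, hbp, map_one]⟩
      exact absurd (hKC (h1.le hbW)) hbnC
    · exact h1.ge
  have hR : R.relIndex E₂ ≤ p ^ 3 := h.rank E₂ R (hRK.trans hK.le₂)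
    (fun x hx => (hWq x).1 (hWtop hx).2) fun x hx y hy => by
      have h1 := hqc x hx y hy
      rw [commute_iff_eq, ← commutatorElement_eq_one_iff_mul_comm, ← map_commutatorElement,
        commutatorElement_def, QuotientGroup.mk'_apply, QuotientGroup.eq_one_iff] at h1
      exact h1
  have hKE₂ : K.relIndex E₂ = p ^ 3 := by
    have h1 := Subgroup.relIndex_mul_index hK.le₂
    rw [h.s₂.index, hS.index] at h1
    exact Nat.eq_of_mul_eq_mul_right hpp.pos (h1.trans (pow_succ p 3))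
  rw [← Subgroup.relIndex_mul_relIndex R K E₂ hRK hK.le₂, hKE₂] at hR
  have h0 : R.relIndex K ≠ 0 := Subgroup.index_ne_zero_of_finite
  have hRK' : K ≤ R := Subgroup.relIndex_eq_one.1 (by
    have := Nat.le_of_mul_le_mul_right (hR.trans (one_mul _).ge) (pow_pos hpp.pos 3)
    omega)
  have htop : frattini K = ⊤ := eq_top_iff.2 fun k _ => by
    obtain ⟨y, hy, hyk⟩ := hRK' k.2
    rwa [← Subtype.ext (a1 := y) (a2 := k) hyk]
  have hbot : (⊥ : Subgroup K) = ⊤ := PGroup.eq_top_of_sup_frattini (by rw [htop, sup_top_eq])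
  refine eq_bot_iff.2 fun k hk => ?_
  have h1 : (⟨k, hk⟩ : K) ∈ (⊥ : Subgroup K) := hbot ▸ Subgroup.mem_top _
  exact congrArg Subtype.val (Subgroup.mem_bot.1 h1)

end Cfsg.Agent.CharPair
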