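import Cfsg.Agent.CharPair.Defs
import Cfsg.Agent.EssMax.Base
import Cfsg.Agent.FusionSys.Criteria

/-!
# Essential subgroups give sides (S5189)

Paper proof. Index `p`: as `EssMax.relIndex_eq` (only the normality of this subgroup is used);
`syl`: saturation; `ext`: as `EssMax.exists_extend`; `moves`: otherwise `Lgen` is a `p`-group
normalised by the automizer, against `EssMax.exists_not_normalising`.
-/

set_option autoImplicit false

open Cfsg Cfsg.FusionSystem Cfsg.Agent.FusionSys Cfsg.Agent.FusRankThree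

namespace Cfsg.Agent.CharPair

universe u

variable {Ω : Type u} [Group Ω] {S : Subgroup Ω} {p : ℕ}

/-- The automizer of `E`, acting on `E` as a subgroup of `S`. -/
def autS (F : FusionSystem S) (E : Subgroup Ω) : Subgroup (MulAut (E.subgroupOf S)) where
  carrier := {γ | ∃ α ∈ F.autGroup E, ∀ x : E.subgroupOf S,
    (((γ x : E.subgroupOf S) : S) : Ω) = ((α ⟨((x : S) : Ω), x.2⟩ : E) : Ω)}
  one_mem' := ⟨1, (F.autGroup E).one_mem, fun _ => rfl⟩
  mul_mem' := by
    rintro γ δ ⟨α, hα, h⟩ ⟨β, hβ, k⟩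
    refine ⟨α * β, (F.autGroup E).mul_mem hα hβ, fun x => ?_⟩
    rw [MulAut.mul_apply, MulAut.mul_apply, h (δ x)]
    exact congrArg (fun y => ((α y : E) : Ω)) (Subtype.ext (k x))
  inv_mem' := by
    rintro γ ⟨α, hα, h⟩
    refine ⟨α⁻¹, (F.autGroup E).inv_mem hα, fun x => ?_⟩
    have h1 := h (γ⁻¹ x)
    rw [MulAut.apply_inv_self] at h1
    rw [show (⟨((x : S) : Ω), x.2⟩ : E) = α ⟨(((γ⁻¹ x : _) : S) : Ω), (γ⁻¹ x).2⟩ from
      Subtype.ext h1, MulAut.inv_apply_self]

/-- The automorphisms of `S` in the fusion system carrying `R` to itself. -/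
def stabB (F : FusionSystem S) (R : Subgroup Ω) : Subgroup (MulAut S) where
  carrier := {β | β ∈ F.autGroup S ∧ ∀ x : S, (x : Ω) ∈ R ↔ ((β x : S) : Ω) ∈ R}
  one_mem' := ⟨(F.autGroup S).one_mem, fun _ => Iff.rfl⟩
  mul_mem' := by
    rintro a b ⟨ha, ha'⟩ ⟨hb, hb'⟩
    exact ⟨(F.autGroup S).mul_mem ha hb, fun x => (hb' x).trans (ha' (b x))⟩
  inv_mem' := by
    rintro a ⟨ha, ha'⟩
    refine ⟨(F.autGroup S).inv_mem ha, fun x => ?_⟩
    have := ha' (a⁻¹ x)
    rw [MulAut.apply_inv_self] at this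
    exact this.symm

variable [Finite S] [Fact p.Prime] {F : FusionSystem S}

private theorem frattini_cases (hS : IsPGroup p S) (hr : RankThree p S) (hF : F.IsSaturated p)
    {E : Subgroup Ω} (hE : F.IsEssential p E) :
    (frattini ↥E).index = p ^ 2 ∨ (frattini ↥E).index = p ^ 3 := by
  have hpp : p.Prime := Fact.out
  haveI : Finite E := finite_of_le ‹_› hE.1.1
  have hEp : IsPGroup p E := hS.to_le hE.1.1
  obtain ⟨k, hk⟩ := hEp.index (frattini ↥E)
  have hle : (frattini ↥E).index ≤ p ^ 3 := by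
    rw [← Subgroup.relIndex_top_right]
    exact rankThree_of_injective hr (Subgroup.inclusion hE.1.1)
      (Subgroup.inclusion_injective _) ⊤ _ le_top
      (fun a _ => PGroup.pow_mem_frattini hEp a)
      (fun a _ b _ => by
        rw [← commutatorElement_def]; exact PGroup.commutatorElement_mem_frattini hEp a b)
  have hk1 : k ≠ 1 := fun e => frattini_index_ne_prime hS hF hE (by rw [hk, e, pow_one])
  have hk0 : k ≠ 0 := fun e => by
    have htop : frattini ↥E = ⊤ := Subgroup.index_eq_one.1 (by rw [hk, e, pow_zero])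
    have hbot : (⊥ : Subgroup E) = ⊤ :=
      PGroup.eq_top_of_sup_frattini (by rw [htop, sup_top_eq])
    obtain ⟨g, hg, hgE⟩ := exists_mem_normalizerIn_not_mem hS hF hE
    refine hgE (hE.1.2 E (isConj_refl F hE.1.1) (mem_centralizerIn.2 ⟨hg.1, fun z hz => ?_⟩))
    have h1 : (⟨z, hz⟩ : E) ∈ (⊥ : Subgroup E) := hbot ▸ Subgroup.mem_top _
    have hz1 : z = 1 := congrArg Subtype.val (Subgroup.mem_bot.1 h1)
    rw [hz1, one_mul, mul_one]
  rw [hk] at hle
  have hk3 : k ≤ 3 := (Nat.pow_le_pow_iff_right hpp.one_lt).1 hle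
  rcases (show k = 2 ∨ k = 3 by omega) with rfl | rfl
  · exact Or.inl hk
  · exact Or.inr hk

private theorem relIndex_prime (hp : Odd p) (hS : IsPGroup p S) (hr : RankThree p S)
    (hF : F.IsSaturated p) {E : Subgroup Ω} (hE : F.IsEssential p E)
    (hn : S ≤ Subgroup.normalizer (E : Set Ω)) : E.relIndex S = p := by
  have hES : E ≤ S := hE.1.1
  have hSn : normalizerIn S E = S := inf_eq_left.2 hn
  haveI : Finite E := finite_of_le ‹_› hES
  have hEp : IsPGroup p E := hS.to_le hES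
  haveI : Finite (normalizerIn S E) := finite_of_le ‹_› (normalizerIn_le E)
  obtain ⟨R, Y, hRne, hY, hN, hmem⟩ := exists_lin_data hS hF hE
  have hR : Nat.card R = p := by
    rcases frattini_cases hS hr hF hE with hk | hk
    · refine le_antisymm ?_ ?_
      · rw [← Subgroup.card_map_of_injective
          (f := (rho F E).range.subtype) Subtype.val_injective]
        exact EssMax.card_le_of_sq (by rw [← hk, Subgroup.index_eq_card]) (R.2.map _)
      · obtain ⟨n, hn⟩ := R.2.exists_card_eq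
        rcases n with _ | n
        · exact absurd (Subgroup.eq_bot_of_card_eq _ (by simpa using hn)) hRne
        · rw [hn]; exact Nat.le_self_pow n.succ_ne_zero p
    · exact EssMax.lin_sylow_card_odd hp (FQ_pow hEp) (FQ_comm hEp)
        (by rw [← hk, Subgroup.index_eq_card]) R hRne hY hN
  set π : normalizerIn S E →* (rho F E).range := (rho F E).rangeRestrict.comp (conjAut F hES)
    with hπ
  have hπR : π.range = (R : Subgroup (rho F E).range) := by
    ext r
    constructor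
    · rintro ⟨g, rfl⟩
      exact (hmem _).2 (mem_autInducedBy.2 ⟨g, g.2.1, fun _ => rfl⟩)
    · intro hr
      obtain ⟨α, rfl⟩ := MonoidHom.rangeRestrict_surjective (rho F E) r
      obtain ⟨g, hg, hge⟩ := mem_autInducedBy.1 ((hmem α).1 hr)
      refine ⟨⟨g, hg, mem_normalizer_of_conj_eq (α : MulAut E) hge⟩, ?_⟩
      rw [hπ, MonoidHom.comp_apply]
      congr 1
      exact Subtype.ext (MulEquiv.ext fun z => Subtype.ext (hge z).symm)
  have hker : π.ker = E.subgroupOf (normalizerIn S E) := by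
    ext g
    rw [MonoidHom.mem_ker, Subgroup.mem_subgroupOf, hπ, MonoidHom.comp_apply,
      ← rho_conjAut_eq_one hS hE g, Subtype.ext_iff]
    rfl
  have : (E.subgroupOf (normalizerIn S E)).index = p := by
    rw [← hker, Subgroup.index_ker, hπR, hR]
  rw [← hSn]
  exact this

omit [Finite S] in
private theorem exists_conj' {E : Subgroup Ω} (hn : S ≤ Subgroup.normalizer (E : Set Ω)) {g : Ω}
    (hg : g ∈ S) : ∃ γ ∈ autInducedBy S E, ∀ x : E, ((γ x : E) : Ω) = g * x * g⁻¹ :=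
  ⟨E.normalizerMonoidHom ⟨g, hn hg⟩, mem_autInducedBy.2 ⟨g, hg, fun _ => rfl⟩, fun _ => rfl⟩

private theorem exists_extend' (hS : IsPGroup p S) (hF : F.IsSaturated p) {E : Subgroup Ω}
    (hE : F.IsEssential p E) (hn : S ≤ Subgroup.normalizer (E : Set Ω)) {α : MulAut E}
    (hα : α ∈ F.autGroup E)
    (hnorm : ∀ γ ∈ autInducedBy S E, α * γ * α⁻¹ ∈ autInducedBy S E) :
    ∃ β ∈ F.autGroup S, ∀ (x : E) (hx : (x : Ω) ∈ S),
      ((β ⟨x, hx⟩ : S) : Ω) = ((α x : E) : Ω) := by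
  have hES := hE.1.1
  haveI : Finite E := finite_of_le ‹_› hES
  set φ : E →* Ω := E.subtype.comp α.toMonoidHom with hφdef
  have hφ : φ ∈ F.Hom E := autGroup_mem_hom F hES hα
  have hr : φ.range = E := by
    ext v
    constructor
    · rintro ⟨x, rfl⟩; exact (α x).2
    · intro hv
      obtain ⟨x, hx⟩ := α.surjective ⟨v, hv⟩
      exact ⟨x, congrArg Subtype.val hx⟩
  have hext : extender S E φ = S := by
    rw [extender_eq_normalizerIn, show normalizerIn S E = S from inf_eq_left.2 hn]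
    intro g hg
    obtain ⟨γ, hγ, hγe⟩ := exists_conj' hn hg.1
    obtain ⟨k, hk, hke⟩ := mem_autInducedBy.1 (hnorm γ hγ)
    refine ⟨k, hk, fun x hx => ?_⟩
    have e := hke (α x)
    rw [MulAut.mul_apply, MulAut.mul_apply] at e
    rw [show α⁻¹ (α x) = x from MulEquiv.symm_apply_apply α x] at e
    show ((α ⟨g * x * g⁻¹, hx⟩ : E) : Ω) = k * ((α x : E) : Ω) * k⁻¹
    rw [show (⟨g * x * g⁻¹, hx⟩ : E) = γ x from Subtype.ext (hγe x).symm]
    exact e
  obtain ⟨ψ, hψ, hψe⟩ := (saturated_receptive_of_fullyNormalized hS hF hE.2.1).2 E φ hφ hr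
  have key : ∀ (T : Subgroup Ω) (χ : T →* Ω), T = S → χ ∈ F.Hom T →
      ∃ β ∈ F.autGroup S, ∀ (x : Ω) (hx : x ∈ S) (hxT : x ∈ T),
        ((β ⟨x, hx⟩ : S) : Ω) = χ ⟨x, hxT⟩ := by
    rintro T χ rfl hχ
    have hrT : χ.range = T := range_eq_of_image_le (F.injective_of_mem hχ)
      (by rintro _ ⟨x, rfl⟩; exact map_mem_S F hχ x) le_rfl
    exact ⟨toIso F hχ hrT, toIso_mem_autGroup F hχ hrT, fun x hx hxT => rfl⟩
  obtain ⟨β, hβ, hβe⟩ := key _ ψ hext hψ
  exact ⟨β, hβ, fun x hx => (hβe x hx (hext.symm ▸ hx)).trans (hψe x x.2 _)⟩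

private theorem not_normal_induced (hS : IsPGroup p S) (hF : F.IsSaturated p) {E : Subgroup Ω}
    (hE : F.IsEssential p E) :
    ∃ α ∈ F.autGroup E, ∃ γ ∈ autInducedBy S E, α * γ * α⁻¹ ∉ autInducedBy S E := by
  by_contra hcon
  push Not at hcon
  obtain ⟨g, hg, hgE⟩ := exists_mem_normalizerIn_not_mem hS hF hE
  exact hgE (Cfsg.Agent.FusionAlperin.mem_of_noOuter hE.1
    (Cfsg.Agent.FusionAlperin.noOuterPNormal_of_radical
      (Cfsg.Agent.FusionAlperin.isRadical_of_essential hS hE))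
    (autInducedBy_le_autGroup F hE.1.1) (fun α hα n hn => hcon α hα n hn)
    (isPGroup_autInducedBy hS E) hg (mem_autInducedBy.2 ⟨g, hg.1, fun _ => rfl⟩))

private theorem eq_induced_of_pgroup (hS : IsPGroup p S) (hF : F.IsSaturated p) {E : Subgroup Ω}
    (hE : F.IsEssential p E) {K : Subgroup (MulAut E)} (hK : K ≤ F.autGroup E)
    (hKp : IsPGroup p K) (hPK : autInducedBy S E ≤ K) : K ≤ autInducedBy S E := by
  obtain ⟨-, R, hR⟩ := (saturated_fullyNormalized hS hF hE.2.1).2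
  have h1 : (R : Subgroup (F.autGroup E)) ≤ K.subgroupOf (F.autGroup E) := by
    rw [hR]; exact Subgroup.comap_mono hPK
  have h2 := R.3 (hKp.of_equiv (Subgroup.subgroupOfEquivOfLe hK).symm) h1
  intro k hk
  have h3 : (⟨k, hK hk⟩ : F.autGroup E) ∈ (R : Subgroup (F.autGroup E)) := h2 ▸ hk
  rw [hR] at h3
  exact h3

omit [Finite S] [Fact p.Prime] in
private theorem mem_autS {R : Subgroup Ω} (hR : R ≤ S) {γ : MulAut (R.subgroupOf S)} :
    γ ∈ autS F R ↔ MulAut.congr (Subgroup.subgroupOfEquivOfLe hR) γ ∈ F.autGroup R := by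
  constructor
  · rintro ⟨α, hα, h⟩
    rwa [show MulAut.congr (Subgroup.subgroupOfEquivOfLe hR) γ = α from
      MulEquiv.ext fun x => Subtype.ext (h ((Subgroup.subgroupOfEquivOfLe hR).symm x))]
  · intro h
    exact ⟨_, h, fun x => rfl⟩

omit [Finite S] [Fact p.Prime] in
private theorem mem_cT_subgroupOf {R : Subgroup Ω} (hR : R ≤ S)
    {γ : MulAut (R.subgroupOf S)} :
    γ ∈ cT (R.subgroupOf S) ↔
      MulAut.congr (Subgroup.subgroupOfEquivOfLe hR) γ ∈ autInducedBy S R := by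
  rw [mem_autInducedBy]
  constructor
  · rintro ⟨g, rfl⟩
    exact ⟨((g : S) : Ω), (g : S).2, fun x => rfl⟩
  · rintro ⟨g, hg, h⟩
    have hmem : (⟨g, hg⟩ : S) ∈ Subgroup.normalizer ((R.subgroupOf S : Subgroup S) : Set S) :=
      mem_normalizer_of_conj_eq γ fun x => Subtype.ext
        (h ((Subgroup.subgroupOfEquivOfLe hR) x))
    exact ⟨⟨⟨g, hg⟩, hmem⟩, MulEquiv.ext fun x => Subtype.ext (Subtype.ext
      (h ((Subgroup.subgroupOfEquivOfLe hR) x)).symm)⟩

theorem side_of_essential (hp : Odd p) (hS : IsPGroup p S) (hr : RankThree p S)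
    (hF : F.IsSaturated p) {R : Subgroup Ω} (hR : F.IsEssential p R)
    (hn : S ≤ Subgroup.normalizer (R : Set Ω)) :
    Side p (R.subgroupOf S) (autS F R) (stabB F R) := by
  have hRS : R ≤ S := hR.1.1
  haveI : Finite R := finite_of_le ‹_› hRS
  have hnor : (R.subgroupOf S).Normal := Subgroup.normal_subgroupOf_iff_le_normalizer hRS |>.2 hn
  set Φ := MulAut.congr (Subgroup.subgroupOfEquivOfLe hRS) with hΦ
  have hT : cT (R.subgroupOf S) ≤ autS F R := fun γ hγ =>
    (mem_autS hRS).2 (autInducedBy_le_autGroup F hRS ((mem_cT_subgroupOf hRS).1 hγ))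
  have hsyl : ∀ P ≤ autS F R, IsPGroup p P → cT (R.subgroupOf S) ≤ P →
      P ≤ cT (R.subgroupOf S) := by
    intro P hP hPp hTP γ hγ
    refine (mem_cT_subgroupOf hRS).2 (eq_induced_of_pgroup hS hF hR (K := P.map Φ.toMonoidHom)
      ?_ (hPp.map _) ?_ (Subgroup.mem_map_of_mem Φ.toMonoidHom hγ))
    · rintro _ ⟨δ, hδ, rfl⟩
      exact (mem_autS hRS).1 (hP hδ)
    · intro δ hδ
      obtain ⟨δ', rfl⟩ := Φ.surjective δ
      exact ⟨δ', hTP ((mem_cT_subgroupOf hRS).2 hδ), rfl⟩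
  refine ⟨hnor, relIndex_prime hp hS hr hF hR hn, hT, hsyl, ?_, ?_⟩
  · intro α hα hnorm
    obtain ⟨β, hβ, hβe⟩ := exists_extend' hS hF hR hn ((mem_autS hRS).1 hα) fun γ hγ => by
      obtain ⟨γ', rfl⟩ := Φ.surjective γ
      have := (mem_cT_subgroupOf hRS).1 (hnorm γ' ((mem_cT_subgroupOf hRS).2 hγ))
      rwa [map_mul, map_mul, map_inv] at this
    have hfwd : ∀ x : R.subgroupOf S,
        β (x : S) = ((α x : R.subgroupOf S) : S) := fun x =>
      Subtype.ext (hβe ⟨((x : S) : Ω), x.2⟩ (x : S).2)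
    refine ⟨β, ⟨hβ, fun x => ⟨fun hx => ?_, fun hx => ?_⟩⟩, hfwd⟩
    · rw [show β x = _ from hfwd ⟨x, hx⟩]
      exact (α ⟨x, hx⟩).2
    · obtain ⟨y, hy⟩ := α.surjective ⟨β x, hx⟩
      have h1 : β (y : S) = β x := (hfwd y).trans (congrArg Subtype.val hy)
      rw [← β.injective h1]
      exact y.2
  · intro ho
    haveI : Finite (MulAut (R.subgroupOf S)) := inferInstance
    have hle : Lgen (autS F R) ≤ autS F R := (Subgroup.closure_le _).2 fun γ hγ => by
      obtain ⟨α, hα, c, hc, rfl⟩ := hγ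
      exact mul_mem (mul_mem hα (hT hc)) (inv_mem hα)
    have hTL : cT (R.subgroupOf S) ≤ Lgen (autS F R) := fun c hc =>
      Subgroup.subset_closure ⟨1, one_mem _, c, hc, by simp⟩
    have hLp : IsPGroup p (Lgen (autS F R)) := by
      intro γ
      obtain ⟨k, m, hm, hkm⟩ := Nat.exists_eq_pow_mul_and_not_dvd
        (orderOf_pos γ).ne' p (Fact.out : p.Prime).ne_one
      refine ⟨k, ?_⟩
      have hord : orderOf (γ ^ p ^ k) = m := by
        rw [orderOf_pow_of_dvd (pow_ne_zero _ (Fact.out : p.Prime).ne_zero)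
          (hkm ▸ dvd_mul_right _ _), hkm]
        exact Nat.mul_div_cancel_left m (pow_pos (Fact.out : p.Prime).pos _)
      refine Subtype.ext (MulEquiv.ext fun x => Subtype.ext ?_)
      have h1 := ho ((γ ^ p ^ k : Lgen (autS F R)) : MulAut (R.subgroupOf S)) (γ ^ p ^ k).2
        (by rw [Subgroup.orderOf_coe, hord]
            exact ((Fact.out : p.Prime).coprime_iff_not_dvd.2 hm).symm) x x.2
      rw [Subgroup.mem_bot, inv_mul_eq_one] at h1
      exact h1.symm
    obtain ⟨α, hα, γ, hγ, hne⟩ := not_normal_induced hS hF hR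
    obtain ⟨α', rfl⟩ := Φ.surjective α
    obtain ⟨γ', rfl⟩ := Φ.surjective γ
    apply hne
    rw [← map_inv, ← map_mul, ← map_mul]
    exact (mem_cT_subgroupOf hRS).1 (hsyl _ hle hLp hTL (Subgroup.subset_closure
      ⟨α', (mem_autS hRS).2 hα, γ', (mem_cT_subgroupOf hRS).2 hγ, rfl⟩))

omit [Fact p.Prime] in
theorem restricts_stab {R : Subgroup Ω} (hR : R ≤ S) : Restricts (autS F R) (stabB F R) := by
  intro β hβ
  haveI : Finite R := finite_of_le ‹_› hR
  set φ : R →* Ω := restr hR (S.subtype.comp β.toMonoidHom) with hφdef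
  have hφ : φ ∈ F.Hom R := restr_mem F hR (autGroup_mem_hom F le_rfl hβ.1)
  have hr : φ.range = R := range_eq_of_image_le (F.injective_of_mem hφ)
    (by rintro _ ⟨x, rfl⟩; exact (hβ.2 ⟨(x : Ω), hR x.2⟩).1 x.2) le_rfl
  refine ⟨(MulAut.congr (Subgroup.subgroupOfEquivOfLe hR)).symm (toIso F hφ hr), ?_, fun x => ?_⟩
  · rw [mem_autS hR, MulEquiv.apply_symm_apply]
    exact toIso_mem_autGroup F hφ hr
  · exact Subtype.ext rfl

theorem pair_of_fusion (hp : Odd p) (hS : IsPGroup p S) (hr : RankThree p S)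
    (hF : F.IsSaturated p) {E₁ E₂ : Subgroup Ω} (hne : E₁ ≠ E₂) (hE₁ : F.IsEssential p E₁)
    (hE₂ : F.IsEssential p E₂)
    (hc₁ : ∀ φ : MulAut S, φ ∈ F.autGroup S →
      (E₁.subgroupOf S).map φ.toMonoidHom = E₁.subgroupOf S)
    (hc₂ : ∀ φ : MulAut S, φ ∈ F.autGroup S →
      (E₂.subgroupOf S).map φ.toMonoidHom = E₂.subgroupOf S) :
    Pair p (E₁.subgroupOf S) (E₂.subgroupOf S) (autS F E₁) (autS F E₂) (F.autGroup S) := by
  have hinn : (MulAut.conj : S →* MulAut S).range ≤ F.autGroup S :=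
    FusionSys.inn_le_autGroup F le_rfl
  have hstab : ∀ E : Subgroup Ω, (∀ φ : MulAut S, φ ∈ F.autGroup S →
      (E.subgroupOf S).map φ.toMonoidHom = E.subgroupOf S) → stabB F E = F.autGroup S := by
    intro E hc
    refine le_antisymm (fun β hβ => hβ.1) fun β hβ => ⟨hβ, fun x => ?_⟩
    have h := SetLike.ext_iff.1 (hc β hβ) (β x)
    rw [Subgroup.mem_map_equiv] at h
    simpa [Subgroup.mem_subgroupOf] using h
  have hnorm : ∀ E : Subgroup Ω, E ≤ S → (∀ φ : MulAut S, φ ∈ F.autGroup S →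
      (E.subgroupOf S).map φ.toMonoidHom = E.subgroupOf S) →
      S ≤ Subgroup.normalizer (E : Set Ω) := by
    intro E hES hc
    refine (Subgroup.normal_subgroupOf_iff_le_normalizer hES).1 ⟨fun n hn g => ?_⟩
    rw [← hc (MulAut.conj g) (hinn ⟨g, rfl⟩)]
    exact ⟨n, hn, rfl⟩
  refine ⟨hS, hp, hr, fun h => ?_,
    hstab E₁ hc₁ ▸ side_of_essential hp hS hr hF hE₁ (hnorm E₁ hE₁.1.1 hc₁),
    hstab E₂ hc₂ ▸ side_of_essential hp hS hr hF hE₂ (hnorm E₂ hE₂.1.1 hc₂),
    hstab E₁ hc₁ ▸ restricts_stab hE₁.1.1, hstab E₂ hc₂ ▸ restricts_stab hE₂.1.1, hinn, ?_⟩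
  · refine hne ?_
    have := congrArg (fun K : Subgroup S => K.map S.subtype) h
    simpa [Subgroup.map_subgroupOf_eq_of_le, hE₁.1.1, hE₂.1.1] using this
  · intro P hP hPp
    obtain ⟨-, R, hR⟩ := (saturated_fullyNormalized hS hF (fullyNormalized_top F)).2
    have hnorm' : (R : Subgroup (F.autGroup S)).Normal := by
      rw [hR, ← inn_eq_autInducedBy]
      refine ⟨fun n hn g => ?_⟩
      obtain ⟨s, hs⟩ := hn
      refine ⟨(g : MulAut S) s, ?_⟩
      show MulAut.conj ((g : MulAut S) s) = (g : MulAut S) * n * (g : MulAut S)⁻¹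
      rw [← show MulAut.conj s = (n : MulAut S) from hs]
      ext x
      simp
    obtain ⟨Q, hQ⟩ := (hPp.of_equiv (Subgroup.subgroupOfEquivOfLe hP).symm :
      IsPGroup p (P.subgroupOf (F.autGroup S))).exists_le_sylow
    letI := Sylow.unique_of_normal R hnorm'
    rw [Subsingleton.elim Q R, hR, ← inn_eq_autInducedBy] at hQ
    exact fun x hx => hQ (show (⟨x, hP hx⟩ : F.autGroup S) ∈ _ from hx)

end Cfsg.Agent.CharPair
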