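import Cfsg.Agent.CharPair.LayerTools
import Cfsg.Agent.PGroup.Basic

/-!
# nothing moves the kernel, extraspecial top (S5189)

Paper proof. V = M/M₀. C_{E_i}(V) = K for both (else all trivial), so the commutator layer moves
V and |V| = p³. Both C_V(E_i) planes would equal C_V(n) for central n, a G-fixed invariant
subgroup: contradiction; so some C_V(E₁) = Z has order p and [V,E₁] ≤ Z; τ₁ fixes Z and is -1
on V/Z; both are trivial on K modulo M. c = [n,a] ∈ K is inverted modulo M by τ₂ and fixed, so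
in M; τ₁ fixes it, so it is in Z; x^p ∈ M commutes with E₁, so in Z; <a,n>M/Z is an elementary
section of order p⁴: contradiction.
-/

set_option autoImplicit false
set_option linter.unusedSectionVars false

open Cfsg.Agent.FusRankThree

namespace Cfsg.Agent.CharPair

universe u

variable {G : Type u} [Group G] [Finite G] {p : ℕ} [Fact p.Prime] {E₁ E₂ : Subgroup G}
  {A₁ : Subgroup (MulAut E₁)} {A₂ : Subgroup (MulAut E₂)} {B : Subgroup (MulAut G)}

local notation "π[" N "]" => QuotientGroup.mk' N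

namespace LayerHeisAux

/-- The elements commuting with `X` modulo `N`. -/
def cmod (N : Subgroup G) [N.Normal] (X : Set G) : Subgroup G :=
  (Subgroup.centralizer (QuotientGroup.mk' N '' X)).comap (QuotientGroup.mk' N)

theorem mk_eq_one {N : Subgroup G} [N.Normal] {x : G} : π[N] x = 1 ↔ x ∈ N :=
  QuotientGroup.eq_one_iff x

theorem mk_eq {N : Subgroup G} [N.Normal] {x y : G} : π[N] x = π[N] y ↔ x⁻¹ * y ∈ N :=
  QuotientGroup.eq

theorem mem_cmod {N : Subgroup G} [N.Normal] {X : Set G} {v : G} :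
    v ∈ cmod N X ↔ ∀ x ∈ X, π[N] x * π[N] v = π[N] v * π[N] x := by
  simp [cmod, Subgroup.mem_centralizer_iff]

theorem mem_cmod_iff {N : Subgroup G} [N.Normal] {X : Set G} {v : G} :
    v ∈ cmod N X ↔ ∀ x ∈ X, x * v * x⁻¹ * v⁻¹ ∈ N := by
  rw [mem_cmod]
  refine forall₂_congr fun x _ => ?_
  rw [← mk_eq_one (N := N), map_mul, map_mul, map_mul, map_inv, map_inv, mul_inv_eq_one,
    mul_inv_eq_iff_eq_mul]

theorem le_cmod_top (N : Subgroup G) [N.Normal] : N ≤ cmod N (Set.univ) := by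
  intro v hv
  rw [mem_cmod]
  intro x _
  rw [mk_eq_one.2 hv, one_mul, mul_one]

theorem cmod_anti (N : Subgroup G) [N.Normal] {X Y : Set G} (h : X ⊆ Y) :
    cmod N Y ≤ cmod N X := fun _ hv => mem_cmod.2 fun x hx => mem_cmod.1 hv x (h hx)

theorem cmod_mono {N N' : Subgroup G} [N.Normal] [N'.Normal] (h : N ≤ N') (X : Set G) :
    cmod N X ≤ cmod N' X := fun _ hv =>
  mem_cmod_iff.2 fun x hx => h (mem_cmod_iff.1 hv x hx)

theorem cmod_univ_normal (N : Subgroup G) [N.Normal] : (cmod N (Set.univ)).Normal := by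
  refine ⟨fun v hv g => mem_cmod.2 fun x _ => ?_⟩
  have hg : π[N] (g * v * g⁻¹) = π[N] v := by
    rw [map_mul, map_mul, map_inv, mem_cmod.1 hv g trivial, mul_inv_cancel_right]
  rw [hg]
  exact mem_cmod.1 hv x trivial

theorem inf_cmod_univ_normal (M N : Subgroup G) [M.Normal] [N.Normal] :
    (M ⊓ cmod N (Set.univ)).Normal := by
  haveI := cmod_univ_normal N
  infer_instance

theorem lt_inf_cmod (hG : IsPGroup p G) {M N : Subgroup G} [M.Normal] [N.Normal] (h : N < M) :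
    N < M ⊓ cmod N (Set.univ) := by
  refine lt_of_le_of_ne (le_inf h.le (le_cmod_top N)) fun e => ?_
  haveI : (M.map (π[N])).Normal :=
    Subgroup.Normal.map inferInstance _ (QuotientGroup.mk'_surjective N)
  have hne : M.map (π[N]) ≠ ⊥ := by
    rw [Ne, Subgroup.map_eq_bot_iff, QuotientGroup.ker_mk']
    exact fun hh => h.ne (le_antisymm h.le hh)
  obtain ⟨z, hz, hz1⟩ := (Subgroup.ne_bot_iff_exists_ne_one).1
    (Cfsg.Agent.PGroup.inf_center_ne_bot (hG.to_quotient N) (M.map (π[N])) hne) |>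
    fun ⟨z, hz⟩ => (⟨z.1, z.2, fun e => hz (Subtype.ext e)⟩ :
      ∃ z, z ∈ M.map (π[N]) ⊓ Subgroup.center _ ∧ z ≠ 1)
  obtain ⟨⟨v, hv, rfl⟩, hzc⟩ := hz
  apply hz1
  rw [mk_eq_one, e]
  exact ⟨hv, mem_cmod.2 fun x _ => Subgroup.mem_center_iff.1 hzc _⟩

theorem dvd_relIndex (hG : IsPGroup p G) {N X : Subgroup G} (h : N < X) :
    p ≤ N.relIndex X := by
  obtain ⟨i, hi⟩ := (hG.to_subgroup X).index (N.subgroupOf X)
  have hi0 : i ≠ 0 := by
    rintro rfl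
    exact absurd (Subgroup.relIndex_eq_one.1 (by simpa [Subgroup.relIndex] using hi)) (not_le_of_gt h)
  rw [show N.relIndex X = p ^ i from hi]
  exact Nat.le_self_pow hi0 p

theorem le_of_relIndex_prime {R E H : Subgroup G} (hRE : R ≤ E) (hRH : R ≤ H)
    (hp : R.relIndex E = p) {x : G} (hxE : x ∈ E) (hxH : x ∈ H) (hxR : x ∉ R) : E ≤ H := by
  have h2 : R.relIndex (H ⊓ E) ∣ p := by
    rw [← hp]
    exact Dvd.intro _ (Subgroup.relIndex_mul_relIndex R (H ⊓ E) E (le_inf hRH hRE) inf_le_right)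
  rcases (Nat.dvd_prime Fact.out).1 h2 with h | h
  · exact absurd (Subgroup.relIndex_eq_one.1 h ⟨hxH, hxE⟩) hxR
  · have h3 := Subgroup.relIndex_mul_relIndex R (H ⊓ E) E (le_inf hRH hRE) inf_le_right
    rw [h, hp] at h3
    exact (Subgroup.relIndex_eq_one.1
      (Nat.eq_of_mul_eq_mul_left (Fact.out : p.Prime).pos (h3.trans (mul_one p).symm))).trans
      inf_le_left

theorem mem_of_sq (hG : IsPGroup p G) (hodd : Odd p) {H : Subgroup G} {x : G}
    (h : x * x ∈ H) : x ∈ H := by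
  obtain ⟨i, hi⟩ := hG x
  obtain ⟨j, hj⟩ : Odd (p ^ i) := hodd.pow
  have e : x = (x * x) ^ (j + 1) := by
    rw [← sq, ← pow_mul, show 2 * (j + 1) = p ^ i + 1 by omega, pow_succ, hi, one_mul]
  rw [e]
  exact H.pow_mem h _

/-- A conjugation adding a commuting element of order dividing `p` commutes with `p`-th powers. -/
theorem commute_pow {Q : Type*} [Group Q] {x y ζ : Q} (h : x * y * x⁻¹ = ζ * y)
    (hc : Commute ζ y) (hζ : ζ ^ p = 1) : x * y ^ p = y ^ p * x := by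
  have : x * y ^ p * x⁻¹ = y ^ p := by rw [← conj_pow, h, hc.mul_pow, hζ, one_mul]
  exact mul_inv_eq_iff_eq_mul.1 this

/-- If every commutator with `v` is central then commutators commute with `v`. -/
theorem commute_commutator {Q : Type*} [Group Q] {v : Q}
    (hv : ∀ g : Q, g * v * g⁻¹ * v⁻¹ ∈ Subgroup.center Q) (g h : Q) :
    (g * h * g⁻¹ * h⁻¹) * v = v * (g * h * g⁻¹ * h⁻¹) := by
  have key : ∀ a b : Q, (a * b) * v * (a * b)⁻¹ =
      (a * v * a⁻¹ * v⁻¹) * (b * v * b⁻¹ * v⁻¹) * v := fun a b => by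
    have hc := Subgroup.mem_center_iff.1 (hv b)
    calc (a * b) * v * (a * b)⁻¹ = (a * (b * v * b⁻¹ * v⁻¹)) * v * a⁻¹ := by group
      _ = (b * v * b⁻¹ * v⁻¹) * (a * v * a⁻¹) := by rw [hc a]; group
      _ = (b * v * b⁻¹ * v⁻¹) * (a * v * a⁻¹ * v⁻¹) * v := by group
      _ = _ := by rw [Subgroup.mem_center_iff.1 (hv a) (b * v * b⁻¹ * v⁻¹)]
  have e : (g⁻¹ * h⁻¹) * v * (g⁻¹ * h⁻¹)⁻¹ = (h⁻¹ * g⁻¹) * v * (h⁻¹ * g⁻¹)⁻¹ := by
    rw [key, key, Subgroup.mem_center_iff.1 (hv h⁻¹) (g⁻¹ * v * g⁻¹⁻¹ * v⁻¹)]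
  calc (g * h * g⁻¹ * h⁻¹) * v
      = g * h * ((g⁻¹ * h⁻¹) * v * (g⁻¹ * h⁻¹)⁻¹) * (g⁻¹ * h⁻¹) := by group
    _ = g * h * ((h⁻¹ * g⁻¹) * v * (h⁻¹ * g⁻¹)⁻¹) * (g⁻¹ * h⁻¹) := by rw [e]
    _ = v * (g * h * g⁻¹ * h⁻¹) := by group

theorem invA_cmod {E : Subgroup G} {A : Subgroup (MulAut E)} {Y N : Subgroup G} [N.Normal]
    {X : Subgroup G} (hXE : X ≤ E) (hY : InvA A Y) (hN : InvA A N) (hX : InvA A X) :
    InvA A (Y ⊓ cmod N (X : Set G)) := by
  intro α hα x hx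
  refine ⟨hY α hα x hx.1, mem_cmod_iff.2 fun y hy => ?_⟩
  set y' : E := α⁻¹ ⟨y, hXE hy⟩ with hy'
  have hy'X : (y' : G) ∈ X := hX α⁻¹ (A.inv_mem hα) ⟨y, hXE hy⟩ hy
  have h1 : α (y' * x * y'⁻¹ * x⁻¹) = ⟨y, hXE hy⟩ * α x * (⟨y, hXE hy⟩ : E)⁻¹ * (α x)⁻¹ := by
    rw [map_mul, map_mul, map_mul, map_inv, map_inv, hy', MulAut.apply_inv_self]
  have h2 := hN α hα (y' * x * y'⁻¹ * x⁻¹) (by
    simpa using mem_cmod_iff.1 hx.2 y' hy'X)
  rw [h1] at h2
  simpa using h2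

theorem invA_self {E : Subgroup G} {A : Subgroup (MulAut E)} : InvA A E := fun α _ x _ => (α x).2

theorem invB_of_restricts {E : Subgroup G} {A : Subgroup (MulAut E)} (r : Restricts A B) :
    InvB B E := by
  intro β hβ x hx
  obtain ⟨α, -, hα⟩ := r β hβ
  rw [← hα ⟨x, hx⟩]
  exact (α ⟨x, hx⟩).2

theorem invB_cmod {Y N X : Subgroup G} [N.Normal] (hY : InvB B Y) (hN : InvB B N)
    (hX : InvB B X) : InvB B (Y ⊓ cmod N (X : Set G)) := by
  intro β hβ x hx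
  refine ⟨hY β hβ x hx.1, mem_cmod_iff.2 fun y hy => ?_⟩
  have hy' : β⁻¹ y ∈ X := hX β⁻¹ (B.inv_mem hβ) y hy
  have h2 := hN β hβ _ (mem_cmod_iff.1 hx.2 _ hy')
  simpa only [map_mul, map_inv, MulAut.apply_inv_self] using h2

/-- The heart of the argument: side one has one-dimensional fixed layer `Z`. -/
theorem false_of_line (h : Pair p E₁ E₂ A₁ A₂ B) {K M M₀ Z : Subgroup G} [K.Normal] [M.Normal]
    [M₀.Normal] [Z.Normal] (hK : Good p A₁ A₂ B K) {τ₁ τ₂ : MulAut G}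
    (hP₁ : Plane p E₁ A₁ B K τ₁) (hP₂ : Plane p E₂ A₂ B K τ₂) (hM : Good p A₁ A₂ B M)
    (hM₀ : InvA A₁ M₀) (hMK : M ≤ K) (o₁ : OTriv p A₁ K M) (o₂ : OTriv p A₂ K M)
    (hexp : ∀ x ∈ M, x ^ p ∈ M₀)
    (hKM : ∀ k ∈ K, ∀ x ∈ M, k * x * k⁻¹ * x⁻¹ ∈ M₀)
    (hM₀Z : M₀ ≤ Z) (hZM : Z ≤ M) (hZG : Z ≤ cmod M₀ (Set.univ))
    (hW : M ⊓ cmod M₀ (E₁ : Set G) ≤ Z) (hrel : Z.relIndex M = p ^ 2)
    (hDK : K.relIndex (E₁ ⊓ E₂) = p) (hDE : (E₁ ⊓ E₂).relIndex E₁ = p) {c₀ : G}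
    (hc₀ : c₀ ∈ E₁ ⊓ E₂) (hc₀K : c₀ ∉ K) (hDcent : E₁ ⊓ E₂ ≤ cmod K (Set.univ))
    (hEZ : E₁ ≤ cmod Z (M : Set G)) : False := by
  classical
  haveI hn₁ := h.s₁.normal
  have hKE : K ≤ E₁ := hK.le₁
  have hKD : K ≤ E₁ ⊓ E₂ := le_inf hK.le₁ hK.le₂
  -- Lgen A₁ fixes Z
  have hWZ : Z = M ⊓ cmod M₀ (E₁ : Set G) :=
    le_antisymm (le_inf hZM (hZG.trans (cmod_anti M₀ (Set.subset_univ _)))) hW
  have hZA : InvA A₁ Z := hWZ ▸ invA_cmod le_rfl hM.inv₁ hM₀ invA_self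
  have hLZ : ∀ l ∈ Lgen A₁, TrivOn l Z M₀ := lgen_trivOn h.s₁.normal h.s₁.cT_le inferInstance
    inferInstance hM₀Z hZA hM₀ fun g x hx => by
      have := mem_cmod.1 (hZG hx) g trivial
      rw [← mk_eq, map_mul, map_mul, map_inv, this, mul_inv_cancel_right]
  obtain ⟨α, hαL, hατ⟩ := hP₁.tau.lgen
  have hαo : (orderOf α).Coprime p := by
    refine Nat.Coprime.coprime_dvd_left (orderOf_dvd_of_pow_eq_one ?_) hP₁.tau.cop
    refine MulEquiv.ext fun x => Subtype.ext ?_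
    have key : ∀ (m : ℕ) (x : E₁), (((α ^ m) x : E₁) : G) = (τ₁ ^ m) (x : G) := by
      intro m
      induction m with
      | zero => intro x; rfl
      | succ m ih => intro x; rw [pow_succ, pow_succ, MulAut.mul_apply, MulAut.mul_apply, ih, hατ]
    rw [key, pow_orderOf_eq_one]
    rfl
  have hαK : ∀ k ∈ K, π[M] (τ₁ k) = π[M] k := fun k hk => by
    have := o₁ α hαL hαo ⟨k, hKE hk⟩ hk
    rw [hατ] at this
    exact (mk_eq.2 this).symm
  have hαZ : ∀ z ∈ Z, π[M₀] (τ₁ z) = π[M₀] z := fun z hz => by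
    have := hLZ α hαL ⟨z, hKE (hMK (hZM hz))⟩ hz
    rw [hατ] at this
    exact (mk_eq.2 this).symm
  have hτE : ∀ x ∈ E₁, τ₁ x ∈ E₁ := invB_of_restricts h.r₁ τ₁ hP₁.tau.mem
  have hτD : ∀ x ∈ E₁ ⊓ E₂, τ₁ x ∈ E₁ ⊓ E₂ := fun x hx =>
    ⟨hτE x hx.1, invB_of_restricts h.r₂ τ₁ hP₁.tau.mem x hx.2⟩
  -- τ₁ is -1 on M modulo Z
  have hneg : ∀ v ∈ M, v * τ₁ v ∈ Z := by
    intro v hv
    have hτv : τ₁ v ∈ M := hM.invB τ₁ hP₁.tau.mem v hv
    refine hW ⟨M.mul_mem hv hτv, mem_cmod_iff.2 fun x hx => ?_⟩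
    have hζ : x * v * x⁻¹ * v⁻¹ ∈ Z := by
      have := mem_cmod_iff.1 (hEZ hx) v hv
      simpa [mul_assoc] using Z.inv_mem this
    rw [← mk_eq_one]
    have cv : ∀ k ∈ K, ∀ w ∈ M, π[M₀] k * π[M₀] w = π[M₀] w * π[M₀] k := fun k hk w hw => by
      rw [← map_mul, ← map_mul, mk_eq]
      have := hKM k hk w hw
      simpa [mul_assoc] using
        (inferInstance : M₀.Normal).conj_mem _ (M₀.inv_mem this) (k * w)⁻¹
    have cm : ∀ w ∈ M, ∀ w' ∈ M, π[M₀] w * π[M₀] w' = π[M₀] w' * π[M₀] w :=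
      fun w hw w' hw' => cv w (hMK hw) w' hw'
    have czc : ∀ z ∈ Z, ∀ g, π[M₀] g * π[M₀] z = π[M₀] z * π[M₀] g := fun z hz g =>
      mem_cmod.1 (hZG hz) g trivial
    -- the image of the commutator
    have e1 : π[M₀] (τ₁ x * τ₁ v * (τ₁ x)⁻¹ * (τ₁ v)⁻¹) = π[M₀] (x * v * x⁻¹ * v⁻¹) := by
      rw [← hαZ _ hζ]
      simp only [map_mul, map_inv]
    have hk : x * τ₁ x ∈ K := hP₁.tau.neg x hx
    set k := x * τ₁ x with hkdef
    have hτx : τ₁ x = x⁻¹ * k := by rw [hkdef]; group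
    have hkv := cv k hk (τ₁ v) hτv
    rw [hτx] at e1
    simp only [map_mul, map_inv, mul_inv_rev] at e1 ⊢
    set X := π[M₀] x
    set V := π[M₀] v
    set W := π[M₀] (τ₁ v)
    set k' := π[M₀] k
    have hVW : Commute V W := cm v hv _ hτv
    have hcen : ∀ g, Commute (π[M₀] g) (X * V * X⁻¹ * V⁻¹) := fun g => by
      have := czc _ hζ g
      simpa only [map_mul, map_inv, Commute, SemiconjBy] using this
    have e2 : X⁻¹ * W * X * W⁻¹ = X * V * X⁻¹ * V⁻¹ := by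
      rw [← e1]
      calc X⁻¹ * W * X * W⁻¹ = X⁻¹ * (W * k') * k'⁻¹ * X * W⁻¹ := by group
        _ = _ := by rw [← hkv]; group
    have e3 : X * W * X⁻¹ = (X * V * X⁻¹ * V⁻¹)⁻¹ * W := by
      have h1 : W = (X * V * X⁻¹ * V⁻¹) * (X * W * X⁻¹) := by
        calc W = X * (X⁻¹ * W * X * W⁻¹) * W * X⁻¹ := by group
          _ = X * (X * V * X⁻¹ * V⁻¹) * W * X⁻¹ := by rw [e2]
          _ = (X * V * X⁻¹ * V⁻¹) * X * W * X⁻¹ := by rw [(hcen x).eq]
          _ = _ := by group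
      calc X * W * X⁻¹ = (X * V * X⁻¹ * V⁻¹)⁻¹ * ((X * V * X⁻¹ * V⁻¹) * (X * W * X⁻¹)) := by group
        _ = _ := by rw [← h1]
    calc X * (V * W) * X⁻¹ * (W⁻¹ * V⁻¹)
        = (X * V * X⁻¹) * (X * W * X⁻¹) * W⁻¹ * V⁻¹ := by group
      _ = (X * V * X⁻¹ * V⁻¹) * (V * (X * V * X⁻¹ * V⁻¹)⁻¹) * V⁻¹ := by rw [e3]; group
      _ = 1 := by
          rw [show V * (X * V * X⁻¹ * V⁻¹)⁻¹ = (X * V * X⁻¹ * V⁻¹)⁻¹ * V from ((hcen v).inv_right).eq]
          group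
  -- τ₁ ^ 2 is trivial on E₁ modulo M₀
  have hτ2 : ∀ x ∈ E₁, π[M₀] (τ₁ (τ₁ x)) = π[M₀] x := by
    have hα2 : (orderOf (α ^ 2)).Coprime p :=
      Nat.Coprime.coprime_dvd_left (orderOf_dvd_of_pow_eq_one
        (by rw [← pow_mul, mul_comm, pow_mul, pow_orderOf_eq_one, one_pow])) hαo
    have val : ∀ x : E₁, (((α ^ 2) x : E₁) : G) = τ₁ (τ₁ (x : G)) := fun x => by
      rw [sq, MulAut.mul_apply, hατ, hατ]
    have t1 : TrivOn (α ^ 2) E₁ K := fun x _ => by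
      rw [val, ← mk_eq]
      have a := hP₁.tau.neg x x.2
      have b := hP₁.tau.neg _ (hτE x x.2)
      rw [← mk_eq_one, map_mul] at a b
      rw [eq_inv_of_mul_eq_one_left a, eq_inv_of_mul_eq_one_right b]
    have t2 : TrivOn (α ^ 2) K M := fun x hx => by
      rw [val, ← mk_eq, hαK _ (hK.invB τ₁ hP₁.tau.mem _ hx), hαK _ hx]
    have t3 : TrivOn (α ^ 2) M Z := fun x hx => by
      rw [val, ← mk_eq]
      have a := hneg x hx
      have b := hneg _ (hM.invB τ₁ hP₁.tau.mem _ hx)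
      rw [← mk_eq_one, map_mul] at a b
      rw [eq_inv_of_mul_eq_one_left a, eq_inv_of_mul_eq_one_right b]
    have t4 : TrivOn (α ^ 2) Z M₀ := hLZ _ ((Lgen A₁).pow_mem hαL 2)
    have t5 := trivOn_trans h.pgrp hα2 hKE hMK inferInstance t1 t2
    have t6 := trivOn_trans h.pgrp hα2 (hMK.trans hKE) hZM inferInstance t5 t3
    have t7 := trivOn_trans h.pgrp hα2 ((hZM.trans hMK).trans hKE) hM₀Z inferInstance t6 t4
    intro x hx
    have := t7 ⟨x, hx⟩ hx
    rw [val] at this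
    exact (mk_eq.2 this).symm
  -- inverted representatives centralising K modulo M
  have key : ∀ x ∈ E₁, ∃ y ∈ E₁, π[K] y = (π[K] x)⁻¹ * (π[K] x)⁻¹ ∧
      π[M₀] (τ₁ y) = (π[M₀] y)⁻¹ ∧ (∀ k ∈ K, π[M] y * π[M] k = π[M] k * π[M] y) ∧
      (x ∈ E₂ → y ∈ E₂) := by
    intro x hx
    refine ⟨x⁻¹ * τ₁ x, E₁.mul_mem (E₁.inv_mem hx) (hτE x hx), ?_, ?_, ?_, fun hx2 =>
      E₂.mul_mem (E₂.inv_mem hx2) (hτD x ⟨hx, hx2⟩).2⟩
    · have a := hP₁.tau.neg x hx
      rw [← mk_eq_one, map_mul] at a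
      rw [map_mul, map_inv, eq_inv_of_mul_eq_one_right a]
    · simp only [map_mul, map_inv, hτ2 x hx, mul_inv_rev, inv_inv]
    · intro k hk
      have hk' : x * k * x⁻¹ ∈ K := (inferInstance : K.Normal).conj_mem k hk x
      have e := hαK _ hk'
      simp only [map_mul, map_inv, hαK k hk] at e
      simp only [map_mul, map_inv]
      calc (π[M] x)⁻¹ * π[M] (τ₁ x) * π[M] k
          = (π[M] x)⁻¹ * (π[M] (τ₁ x) * π[M] k * (π[M] (τ₁ x))⁻¹) * π[M] (τ₁ x) := by group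
        _ = _ := by rw [e]; group
  obtain ⟨n, hn1, hnK, hnτ, hnS, hn2⟩ := key c₀ hc₀.1
  have hnD : n ∈ E₁ ⊓ E₂ := ⟨hn1, hn2 hc₀.2⟩
  have hnK' : n ∉ K := by
    intro hn
    rw [← mk_eq_one, hnK, ← mul_inv_rev, inv_eq_one, ← map_mul, mk_eq_one] at hn
    exact hc₀K (mem_of_sq h.pgrp h.odd hn)
  obtain ⟨a₀, ha₀, ha₀D⟩ := SetLike.not_le_iff_exists.1 (fun hle : E₁ ≤ E₁ ⊓ E₂ =>
    (Fact.out : p.Prime).ne_one (hDE.symm.trans (Subgroup.relIndex_eq_one.2 hle)))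
  obtain ⟨a, ha1, haK, haτ, haS, -⟩ := key a₀ ha₀
  have haD : a ∉ E₁ ⊓ E₂ := by
    intro ha
    refine ha₀D (mem_of_sq h.pgrp h.odd ?_)
    have e : a * (a₀ * a₀) ∈ K := by
      rw [← mk_eq_one, map_mul, haK, map_mul]; group
    simpa using (E₁ ⊓ E₂).mul_mem ((E₁ ⊓ E₂).inv_mem ha) (hKD e)
  -- generation
  have hgenD : ∀ H : Subgroup G, K ≤ H → n ∈ H → E₁ ⊓ E₂ ≤ H := fun H hH hn =>
    le_of_relIndex_prime hKD hH hDK hnD hn hnK'
  have hgenE : ∀ H : Subgroup G, K ≤ H → n ∈ H → a ∈ H → E₁ ≤ H := fun H hH hn ha =>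
    le_of_relIndex_prime inf_le_left (hgenD H hH hn) hDE ha1 ha haD
  set c := n * a * n⁻¹ * a⁻¹ with hcdef
  have hcK : c ∈ K := by
    have := mem_cmod_iff.1 (hDcent hnD) a trivial
    have h2 := K.inv_mem this
    simpa [hcdef, mul_assoc] using h2
  -- τ₂ inverts c modulo M
  obtain ⟨α₂, hα₂L, hα₂τ⟩ := hP₂.tau.lgen
  have hα₂o : (orderOf α₂).Coprime p := by
    refine Nat.Coprime.coprime_dvd_left (orderOf_dvd_of_pow_eq_one ?_) hP₂.tau.cop
    refine MulEquiv.ext fun x => Subtype.ext ?_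
    have key : ∀ (m : ℕ) (x : E₂), (((α₂ ^ m) x : E₂) : G) = (τ₂ ^ m) (x : G) := by
      intro m
      induction m with
      | zero => intro x; rfl
      | succ m ih => intro x; rw [pow_succ, pow_succ, MulAut.mul_apply, MulAut.mul_apply, ih, hα₂τ]
    rw [key, pow_orderOf_eq_one]
    rfl
  have hτ₂K : ∀ k ∈ K, π[M] (τ₂ k) = π[M] k := fun k hk => by
    have := o₂ α₂ hα₂L hα₂o ⟨k, hK.le₂ hk⟩ hk
    rw [hα₂τ] at this
    exact (mk_eq.2 this).symm
  have hcM : c ∈ M := by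
    set k := n * τ₂ n with hkdef
    have hk : k ∈ K := hP₂.tau.neg n hnD.2
    set d := a⁻¹ * τ₂ a with hddef
    have hd : d ∈ E₁ ⊓ E₂ :=
      ⟨E₁.mul_mem (E₁.inv_mem ha1) (invB_of_restricts h.r₁ τ₂ hP₂.tau.mem a ha1),
        hP₂.tau.quot a⟩
    have hτnS : ∀ l ∈ K, Commute (π[M] (τ₂ n)) (π[M] l) := fun l hl => by
      obtain ⟨l', rfl⟩ := τ₂.surjective l
      have hl' : l' ∈ K := by
        have := hK.invB τ₂⁻¹ (B.inv_mem hP₂.tau.mem) _ hl
        rwa [MulAut.inv_apply_self] at this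
      have := mk_eq.1 ((map_mul (π[M]) n l').trans ((hnS l' hl').trans (map_mul (π[M]) l' n).symm))
      have h2 := hM.invB τ₂ hP₂.tau.mem _ this
      show π[M] (τ₂ n) * π[M] (τ₂ l') = π[M] (τ₂ l') * π[M] (τ₂ n)
      rw [← map_mul (π[M]), ← map_mul (π[M]), mk_eq]
      simpa only [map_mul, map_inv] using h2
    have hkS : ∀ l ∈ K, Commute (π[M] k) (π[M] l) := fun l hl => by
      rw [hkdef, map_mul]
      exact Commute.mul_left (hnS l hl) (hτnS l hl)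
    have hkd : Commute (π[M] k) (π[M] d) := by
      have : d ∈ cmod M ({k} : Set G) := hgenD _
        (fun l hl => mem_cmod.2 fun x hx => by rw [Set.mem_singleton_iff.1 hx]; exact hkS l hl)
        (mem_cmod.2 fun x hx => by rw [Set.mem_singleton_iff.1 hx]; exact (hnS k hk).symm) hd
      exact mem_cmod.1 this k rfl
    have hnd : Commute (π[M] n) (π[M] d) := by
      have : d ∈ cmod M ({n} : Set G) := hgenD _
        (fun l hl => mem_cmod.2 fun x hx => by rw [Set.mem_singleton_iff.1 hx]; exact hnS l hl)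
        (mem_cmod.2 fun x hx => by rw [Set.mem_singleton_iff.1 hx]) hd
      exact mem_cmod.1 this n rfl
    have hτn : τ₂ n = n⁻¹ * k := by rw [hkdef]; group
    have hτa : τ₂ a = a * d := by rw [hddef]; group
    have e := hτ₂K c hcK
    have hcn : Commute (π[M] n) (π[M] c) := hnS c hcK
    have hka : Commute (π[M] k) (π[M] a) := (haS k hk).symm
    simp only [hcdef, map_mul, map_inv, hτn, hτa] at e hcn
    rw [← mk_eq_one]
    refine mk_eq_one.2 (mem_of_sq h.pgrp h.odd ?_)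
    rw [← mk_eq_one]
    simp only [hcdef, map_mul, map_inv]
    set N := π[M] n
    set A := π[M] a
    set D := π[M] d
    set L := π[M] k
    set C := N * A * N⁻¹ * A⁻¹
    have hLAD : L * (A * D) * L⁻¹ = A * D := by
      rw [(hka.mul_right hkd).eq]; group
    calc C * C = C * (N⁻¹ * L * (A * D) * (N⁻¹ * L)⁻¹ * (A * D)⁻¹) := by rw [e]
      _ = C * (N⁻¹ * (L * (A * D) * L⁻¹) * N * (D⁻¹ * A⁻¹)) := by group
      _ = C * (N⁻¹ * A * (D * N) * (D⁻¹ * A⁻¹)) := by rw [hLAD]; group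
      _ = C * (N⁻¹ * A * (N * D) * (D⁻¹ * A⁻¹)) := by rw [hnd.eq]
      _ = C * (N⁻¹ * A * N * A⁻¹) := by group
      _ = C * N⁻¹ * C⁻¹ * N := by simp only [C]; group
      _ = C * (N⁻¹ * C⁻¹ * N) := by group
      _ = 1 := by
        rw [show N⁻¹ * C⁻¹ * N = (N⁻¹ * C * N)⁻¹ by group, mul_assoc N⁻¹, ← hcn.eq,
          inv_mul_cancel_left, mul_inv_cancel]
  -- τ₁ fixes c modulo Z
  have ctop : ∀ x ∈ E₁, ∀ m ∈ M, Commute (π[Z] x) (π[Z] m) := fun x hx m hm =>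
    (mem_cmod.1 (hEZ hx) m hm).symm
  have hZmono : ∀ {u v : G}, π[M₀] u = π[M₀] v → π[Z] u = π[Z] v := fun e =>
    mk_eq.2 (hM₀Z (mk_eq.1 e))
  have hcZ : c ∈ Z := by
    refine mem_of_sq h.pgrp h.odd ?_
    have e := hneg c hcM
    rw [← mk_eq_one] at e ⊢
    simp only [hcdef, map_mul, map_inv] at e ⊢
    have e1 : π[Z] (τ₁ n) = (π[Z] n)⁻¹ := by
      rw [hZmono (hnτ.trans (map_inv _ _).symm), map_inv]
    have e2 : π[Z] (τ₁ a) = (π[Z] a)⁻¹ := by
      rw [hZmono (haτ.trans (map_inv _ _).symm), map_inv]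
    rw [e1, e2, inv_inv, inv_inv] at e
    have h1 : Commute (π[Z] n * π[Z] a) (π[Z] c) := by
      rw [← map_mul]
      exact ctop _ (E₁.mul_mem hn1 ha1) c hcM
    simp only [hcdef, map_mul, map_inv] at h1
    set N := π[Z] n
    set A := π[Z] a
    set C := N * A * N⁻¹ * A⁻¹
    have h3 : N⁻¹ * A⁻¹ * N * A = C := by
      calc N⁻¹ * A⁻¹ * N * A = N⁻¹ * A⁻¹ * N * A := rfl
        _ = (N * A)⁻¹ * (C * (N * A)) := by simp only [C]; group
        _ = C := by rw [← h1.eq, inv_mul_cancel_left]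
    rw [h3] at e
    exact e
  -- exponent p modulo K
  have hEab : E₁ ≤ cmod K (E₁ : Set G) := by
    have hDc : E₁ ⊓ E₂ ≤ cmod K (E₁ : Set G) := hDcent.trans (cmod_anti K (Set.subset_univ _))
    refine le_of_relIndex_prime inf_le_left hDc hDE ha₀ ?_ ha₀D
    refine mem_cmod.2 fun x hx => ?_
    have hle : E₁ ≤ cmod K ({a₀} : Set G) := le_of_relIndex_prime inf_le_left
      (hDcent.trans (cmod_anti K (Set.subset_univ _))) hDE ha₀
      (mem_cmod.2 fun y hy => by rw [Set.mem_singleton_iff.1 hy]) ha₀D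
    exact (mem_cmod.1 (hle hx) a₀ rfl).symm
  have hpK : ∀ x ∈ E₁, x ^ p ∈ K := by
    let X : Subgroup G :=
      { carrier := {x | x ∈ E₁ ∧ (π[K] x) ^ p = 1}
        one_mem' := ⟨E₁.one_mem, by rw [map_one, one_pow]⟩
        mul_mem' := fun {u v} hu hv => ⟨E₁.mul_mem hu.1 hv.1, by
          rw [map_mul, (show Commute (π[K] u) (π[K] v) from
            (mem_cmod.1 (hEab hv.1) u hu.1)).mul_pow, hu.2, hv.2, one_mul]⟩
        inv_mem' := fun {u} hu => ⟨E₁.inv_mem hu.1, by rw [map_inv, inv_pow, hu.2, inv_one]⟩ }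
    have hKX : K ≤ X := fun k hk => ⟨hKE hk, by rw [mk_eq_one.2 hk, one_pow]⟩
    have hXi : InvA A₁ X := fun β hβ x hx => ⟨(β x).2, by
      have h1 : ((x ^ p : E₁) : G) ∈ K := by
        rw [SubmonoidClass.coe_pow, ← mk_eq_one, map_pow, hx.2]
      have h2 := hK.inv₁ β hβ (x ^ p) h1
      rw [map_pow, SubmonoidClass.coe_pow, ← mk_eq_one, map_pow] at h2
      exact h2⟩
    have hnX : n ∈ X := by
      refine ⟨hn1, ?_⟩
      have hcard : (K.subgroupOf (E₁ ⊓ E₂)).index = p := hDK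
      have h1 := Subgroup.pow_index_mem (K.subgroupOf (E₁ ⊓ E₂)) (⟨n, hnD⟩ : ↥(E₁ ⊓ E₂))
      rw [hcard, Subgroup.mem_subgroupOf, SubmonoidClass.coe_pow, ← mk_eq_one, map_pow] at h1
      exact h1
    rcases hP₁.irred X hKX (fun x hx => hx.1) hXi with e | e
    · exact absurd (e ▸ hnX) hnK'
    · intro x hx
      rw [← mk_eq_one, map_pow]
      exact ((e.symm ▸ hx : x ∈ X)).2
  -- p-th powers of the representatives
  have hcz : ∀ g, Commute (π[M₀] g) (π[M₀] c) := fun g => mem_cmod.1 (hZG hcZ) g trivial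
  have hcp : (π[M₀] c) ^ p = 1 := by rw [← map_pow, mk_eq_one]; exact hexp c hcM
  have hpow : ∀ x ∈ E₁, π[M₀] (τ₁ x) = (π[M₀] x)⁻¹ → x ^ p ∈ M := by
    intro x hx hτx
    refine mem_of_sq h.pgrp h.odd ?_
    rw [← mk_eq_one, map_mul, map_pow]
    have e := hαK _ (hpK x hx)
    have e' : π[M] (τ₁ x) = (π[M] x)⁻¹ := by
      rw [← map_inv, mk_eq]
      exact (hM₀Z.trans hZM) (mk_eq.1 (hτx.trans (map_inv _ _).symm))
    rw [map_pow, map_pow, e', map_pow, inv_pow] at e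
    nth_rw 1 [← e]
    exact inv_mul_cancel _
  have hinW : ∀ m ∈ M, Commute (π[M₀] n) (π[M₀] m) → Commute (π[M₀] a) (π[M₀] m) → m ∈ Z := by
    intro m hm hcn hca
    refine hW ⟨hm, mem_cmod.2 fun x hx => ?_⟩
    have hle : E₁ ≤ cmod M₀ ({m} : Set G) := hgenE _
      (fun k hk => mem_cmod_iff.2 fun y hy => by
        rw [Set.mem_singleton_iff.1 hy]
        simpa [mul_assoc] using M₀.inv_mem (hKM k hk m hm))
      (mem_cmod.2 fun y hy => by rw [Set.mem_singleton_iff.1 hy]; exact hcn.symm)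
      (mem_cmod.2 fun y hy => by rw [Set.mem_singleton_iff.1 hy]; exact hca.symm)
    exact (mem_cmod.1 (hle hx) m rfl).symm
  have hap : a ^ p ∈ Z := by
    refine hinW _ (hpow a ha1 haτ) ?_ ?_
    · rw [map_pow]
      refine commute_pow (ζ := π[M₀] c) ?_ (hcz a).symm hcp
      simp only [hcdef, map_mul, map_inv]; group
    · rw [map_pow]; exact (Commute.refl _).pow_right p
  have hnp : n ^ p ∈ Z := by
    refine hinW _ (hpow n hn1 hnτ) ?_ ?_
    · rw [map_pow]; exact (Commute.refl _).pow_right p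
    · rw [map_pow]
      refine commute_pow (ζ := (π[M₀] c)⁻¹) ?_ (hcz n).symm.inv_left (by rw [inv_pow, hcp, inv_one])
      simp only [hcdef, map_mul, map_inv]; group
  -- the elementary section of order p ^ 4
  set H := Subgroup.closure (({a, n} : Set G) ∪ (M : Set G)) with hH
  have hME : ∀ x ∈ ({a, n} : Set G) ∪ (M : Set G), x ∈ E₁ ∧ x ^ p ∈ Z := by
    rintro x (hx | hx)
    · rcases hx with rfl | hx
      · exact ⟨ha1, hap⟩
      · rw [Set.mem_singleton_iff.1 hx]; exact ⟨hn1, hnp⟩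
    · exact ⟨hKE (hMK hx), hM₀Z (hexp x hx)⟩
  have hgencomm : ∀ x ∈ ({a, n} : Set G) ∪ (M : Set G), ∀ y ∈ ({a, n} : Set G) ∪ (M : Set G),
      Commute (π[Z] x) (π[Z] y) := by
    have han : Commute (π[Z] n) (π[Z] a) := by
      have e : π[Z] c = 1 := mk_eq_one.2 hcZ
      simp only [hcdef, map_mul, map_inv] at e
      exact mul_inv_eq_iff_eq_mul.1 (mul_inv_eq_one.1 e)
    have hMM : ∀ x ∈ M, ∀ y ∈ M, Commute (π[Z] x) (π[Z] y) := fun x hx y hy =>
      ctop x (hKE (hMK hx)) y hy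
    rintro x (hx | hx) y (hy | hy)
    · rcases hx with rfl | hx <;> rcases hy with rfl | hy
      · exact Commute.refl _
      · rw [Set.mem_singleton_iff.1 hy]; exact han.symm
      · rw [Set.mem_singleton_iff.1 hx]; exact han
      · rw [Set.mem_singleton_iff.1 hx, Set.mem_singleton_iff.1 hy]
    · exact ctop x (hME x (Or.inl hx)).1 y hy
    · exact (ctop y (hME y (Or.inl hy)).1 x hx).symm
    · exact hMM x hx y hy
  have hcomm : ∀ x ∈ H, ∀ y ∈ H, Commute (π[Z] x) (π[Z] y) := by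
    intro x hx
    induction hx using Subgroup.closure_induction with
    | mem x hx =>
      intro y hy
      induction hy using Subgroup.closure_induction with
      | mem y hy => exact hgencomm x hx y hy
      | one => rw [map_one]; exact Commute.one_right _
      | mul u v _ _ hu hv => rw [map_mul]; exact hu.mul_right hv
      | inv u _ hu => rw [map_inv]; exact hu.inv_right
    | one => intro y _; rw [map_one]; exact Commute.one_left _
    | mul u v _ _ hu hv => intro y hy; rw [map_mul]; exact (hu y hy).mul_left (hv y hy)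
    | inv u _ hu => intro y hy; rw [map_inv]; exact (hu y hy).inv_left
  have hHp : ∀ x ∈ H, x ^ p ∈ Z := by
    intro x hx
    rw [← mk_eq_one, map_pow]
    induction hx using Subgroup.closure_induction with
    | mem x hx => rw [← map_pow, mk_eq_one]; exact (hME x hx).2
    | one => rw [map_one, one_pow]
    | mul u v hu' hv' hu hv => rw [map_mul, (hcomm u hu' v hv').mul_pow, hu, hv, one_mul]
    | inv u _ hu => rw [map_inv, inv_pow, hu, inv_one]
  have hMH : M ≤ H := fun x hx => Subgroup.subset_closure (Or.inr hx)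
  have hr := h.rank H Z (hZM.trans hMH) hHp (fun x hx y hy => by
    rw [← mk_eq_one, map_mul, map_mul, map_mul, map_inv, map_inv, mul_inv_eq_one,
      mul_inv_eq_iff_eq_mul]
    exact hcomm x hx y hy)
  have hHE : H ⊔ K = E₁ := by
    refine le_antisymm (sup_le ((Subgroup.closure_le _).2 fun x hx => (hME x hx).1) hKE) ?_
    exact hgenE _ le_sup_right (Subgroup.mem_sup_left (Subgroup.subset_closure (Or.inl (Or.inr rfl))))
      (Subgroup.mem_sup_left (Subgroup.subset_closure (Or.inl (Or.inl rfl))))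
  have h2 : K.relIndex H = p ^ 2 := by
    have e := Subgroup.relIndex_sup_right H K
    rw [hHE, hP₁.index] at e
    exact e.symm
  have h3 : Z.relIndex M * (H ⊓ K).relIndex H ≤ Z.relIndex H := by
    rw [← Subgroup.relIndex_mul_relIndex Z (H ⊓ K) H (le_inf (hZM.trans hMH) (hZM.trans hMK))
      inf_le_left]
    refine Nat.mul_le_mul_right _ (Subgroup.relIndex_le_of_le_right (le_inf hMH hMK) ?_)
    exact Subgroup.index_ne_zero_of_finite
  rw [Subgroup.inf_relIndex_left, h2, hrel] at h3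
  have h4 := h3.trans hr
  rw [← pow_add] at h4
  have := (Nat.pow_le_pow_iff_right (Fact.out : p.Prime).one_lt).1 h4
  omega

end LayerHeisAux

open LayerHeisAux in
theorem layer_heis (h : Pair p E₁ E₂ A₁ A₂ B) {K : Subgroup G} (hK : Good p A₁ A₂ B K)
    (hH : HeisOver p A₁ A₂ B K) : OTriv p A₁ K ⊥ ∧ OTriv p A₂ K ⊥ := by
  classical
  by_contra hneg
  obtain ⟨M, M₀, hM, hM₀, hlt, hMK, o₁, o₂, hmov, hexp, hab, hKM, hrk, hirr⟩ :=
    exists_layer h hK hneg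
  haveI := hK.normal
  haveI := hM.normal
  haveI := hM₀.normal
  haveI := h.s₁.normal
  haveI := h.s₂.normal
  obtain ⟨τ₁, hP₁⟩ := hH.plane₁
  obtain ⟨τ₂, hP₂⟩ := hH.plane₂
  have hp : p.Prime := Fact.out
  -- the sections of G over K
  set D := E₁ ⊓ E₂ with hD
  have hnle₁ : ¬ E₁ ≤ E₂ := fun hle => h.ne (le_antisymm hle (Subgroup.relIndex_eq_one.1 (by
    have := Subgroup.relIndex_mul_index hle
    rw [h.s₁.index, h.s₂.index] at this
    exact Nat.eq_of_mul_eq_mul_right hp.pos (this.trans (one_mul p).symm))))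
  have hnle₂ : ¬ E₂ ≤ E₁ := fun hle => h.ne (le_antisymm (Subgroup.relIndex_eq_one.1 (by
    have := Subgroup.relIndex_mul_index hle
    rw [h.s₁.index, h.s₂.index] at this
    exact Nat.eq_of_mul_eq_mul_right hp.pos (this.trans (one_mul p).symm))) hle)
  have hDE : D.relIndex E₁ = p := by
    rw [hD, Subgroup.inf_relIndex_left]
    have hd : E₂.relIndex E₁ ∣ p := h.s₂.index ▸ Subgroup.relIndex_dvd_index_of_normal E₂ E₁
    rcases (Nat.dvd_prime hp).1 hd with e | e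
    · exact absurd (Subgroup.relIndex_eq_one.1 e) hnle₁
    · exact e
  have hKD : K ≤ D := le_inf hK.le₁ hK.le₂
  have hDK : K.relIndex D = p := by
    have e := Subgroup.relIndex_mul_relIndex K D E₁ hKD inf_le_left
    rw [hDE, hP₁.index, sq] at e
    exact Nat.eq_of_mul_eq_mul_right hp.pos e
  have hKD' : K < D := lt_of_le_of_ne hKD fun e => by
    rw [e, Subgroup.relIndex_self] at hDK
    exact hp.ne_one hDK.symm
  haveI : D.Normal := by rw [hD]; infer_instance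
  have hDcent : D ≤ cmod K (Set.univ) := by
    obtain ⟨x, hx, hxK⟩ := SetLike.not_le_iff_exists.1 (not_le_of_gt (lt_inf_cmod h.pgrp hKD'))
    exact le_of_relIndex_prime hKD (le_cmod_top K) hDK hx.1 hx.2 hxK
  obtain ⟨g₁, g₂, hgK⟩ := hH.noncomm
  set c₀ := g₁ * g₂ * g₁⁻¹ * g₂⁻¹ with hc₀def
  have hc₀ : c₀ ∈ D := by
    have key : ∀ E : Subgroup G, E.index = p → ∀ (_ : E.Normal), c₀ ∈ E := fun E hE _ => by
      haveI : IsCyclic (G ⧸ E) := isCyclic_of_prime_card (p := p)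
        (by rw [← Subgroup.index_eq_card]; exact hE)
      have hc := (IsCyclic.isMulCommutative (α := G ⧸ E)).is_comm.comm (π[E] g₁) (π[E] g₂)
      rw [← mk_eq_one, hc₀def, map_mul, map_mul, map_mul, map_inv, map_inv, hc]
      group
    exact ⟨key E₁ h.s₁.index h.s₁.normal, key E₂ h.s₂.index h.s₂.normal⟩
  -- the kernels on the layer
  have hKc : K ≤ cmod M₀ (M : Set G) := fun k hk => mem_cmod_iff.2 fun x hx => by
    simpa [mul_assoc] using M₀.inv_mem (hKM k hk x hx)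
  have hC : ∀ {E : Subgroup G} {A : Subgroup (MulAut E)} {τ : MulAut G}, Plane p E A B K τ →
      InvA A M → InvA A M₀ → M ≤ E →
      E ⊓ cmod M₀ (M : Set G) = K ∨ E ⊓ cmod M₀ (M : Set G) = E := fun hP h1 h2 h3 =>
    hP.irred _ (le_inf hP.le hKc) inf_le_left (invA_cmod h3 invA_self h2 h1)
  have hnot : c₀ ∉ cmod M₀ (M : Set G) := by
    intro hc
    have e1 : E₁ ⊓ cmod M₀ (M : Set G) = E₁ := (hC hP₁ hM.inv₁ hM₀.inv₁ hM.le₁).resolve_left
      fun e => hgK (e ▸ (⟨hc₀.1, hc⟩ : c₀ ∈ E₁ ⊓ cmod M₀ (M : Set G)))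
    have e2 : E₂ ⊓ cmod M₀ (M : Set G) = E₂ := (hC hP₂ hM.inv₂ hM₀.inv₂ hM.le₂).resolve_left
      fun e => hgK (e ▸ (⟨hc₀.2, hc⟩ : c₀ ∈ E₂ ⊓ cmod M₀ (M : Set G)))
    have htop : ∀ g : G, g ∈ cmod M₀ (M : Set G) := by
      have hlt' : E₁ < E₁ ⊔ E₂ := lt_of_le_of_ne le_sup_left fun e => hnle₂ (e.symm ▸ le_sup_right)
      have : E₁ ⊔ E₂ = ⊤ := by
        have hd : (E₁ ⊔ E₂).index ∣ p := h.s₁.index ▸ Subgroup.index_dvd_of_le le_sup_left
        rcases (Nat.dvd_prime hp).1 hd with e | e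
        · exact Subgroup.index_eq_one.1 e
        · exact absurd (e.trans h.s₁.index.symm)
            (Subgroup.index_strictAnti hlt').ne
      intro g
      have hle : E₁ ⊔ E₂ ≤ cmod M₀ (M : Set G) :=
        sup_le (inf_eq_left.1 e1) (inf_eq_left.1 e2)
      exact hle (this.symm ▸ Subgroup.mem_top g)
    have hcG : ∀ g : G, ∀ x ∈ M, x⁻¹ * (g * x * g⁻¹) ∈ M₀ := fun g x hx => by
      rw [← mk_eq, map_mul, map_mul, map_inv, ← mem_cmod.1 (htop g) x hx, mul_inv_cancel_right]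
    exact hmov ⟨fun α hα _ => lgen_trivOn h.s₁.normal h.s₁.cT_le hM.normal hM₀.normal hlt.le
        hM.inv₁ hM₀.inv₁ hcG α hα,
      fun α hα _ => lgen_trivOn h.s₂.normal h.s₂.cT_le hM.normal hM₀.normal hlt.le
        hM.inv₂ hM₀.inv₂ hcG α hα⟩
  -- the series of the layer
  set Z := M ⊓ cmod M₀ (Set.univ) with hZ
  haveI : Z.Normal := inf_cmod_univ_normal M M₀
  have hM₀Z : M₀ < Z := lt_inf_cmod h.pgrp hlt
  set P := M ⊓ cmod Z (Set.univ) with hP
  haveI : P.Normal := inf_cmod_univ_normal M Z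
  have hcomm : ∀ (N : Subgroup G) (_ : N.Normal), (∀ v ∈ M, ∀ g : G,
      g * v * g⁻¹ * v⁻¹ ∈ cmod N (Set.univ)) → c₀ ∈ cmod N (M : Set G) := by
    intro N _ hN
    refine mem_cmod.2 fun v hv => ?_
    have := commute_commutator (v := π[N] v) (fun q => ?_) (π[N] g₁) (π[N] g₂)
    · simp only [hc₀def, map_mul, map_inv]
      exact this.symm
    · obtain ⟨g, rfl⟩ := QuotientGroup.mk'_surjective N q
      refine Subgroup.mem_center_iff.2 fun q' => ?_
      obtain ⟨g', rfl⟩ := QuotientGroup.mk'_surjective N q'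
      have := mem_cmod.1 (hN v hv g) g' trivial
      simpa only [map_mul, map_inv] using this
  have hZM : Z < M := lt_of_le_of_ne inf_le_left fun e => hnot (hcomm M₀ inferInstance
    fun v hv g => by
      have hv' : v ∈ Z := e.symm ▸ hv
      exact le_cmod_top M₀ (mem_cmod_iff.1 hv'.2 g trivial))
  have hZP : Z < P := lt_inf_cmod h.pgrp hZM
  have hPM : P < M := lt_of_le_of_ne inf_le_left fun e => hnot (hcomm M₀ inferInstance
    fun v hv g => by
      have hv' : v ∈ P := e.symm ▸ hv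
      exact (show g * v * g⁻¹ * v⁻¹ ∈ Z from mem_cmod_iff.1 hv'.2 g trivial).2)
  have r1 := dvd_relIndex h.pgrp hM₀Z
  have r2 := dvd_relIndex h.pgrp hZP
  have r3 := dvd_relIndex h.pgrp hPM
  have m1 : M₀.relIndex Z * Z.relIndex M = M₀.relIndex M :=
    Subgroup.relIndex_mul_relIndex M₀ Z M hM₀Z.le hZM.le
  have m2 : Z.relIndex P * P.relIndex M = Z.relIndex M :=
    Subgroup.relIndex_mul_relIndex Z P M hZP.le hPM.le
  have hp3 : p * (p * p) ≤ M₀.relIndex M := by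
    rw [← m1, ← m2]
    exact Nat.mul_le_mul r1 (Nat.mul_le_mul r2 r3)
  have hrel3 : M₀.relIndex M = p * (p * p) := le_antisymm (hrk.trans (by rw [pow_three])) hp3
  have hZrel : Z.relIndex M = p ^ 2 := by
    refine le_antisymm ?_ (by rw [← m2, sq]; exact Nat.mul_le_mul r2 r3)
    rw [hrel3] at m1
    rw [sq]
    by_contra hh
    push Not at hh
    have : p * (p * p) < M₀.relIndex Z * Z.relIndex M :=
      lt_of_lt_of_le (Nat.mul_lt_mul_of_pos_left hh hp.pos) (Nat.mul_le_mul_right _ r1)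
    omega
  have hPrel : P.relIndex M = p := by
    refine le_antisymm ?_ r3
    rw [hZrel, sq] at m2
    by_contra hh
    push Not at hh
    have : p * p < Z.relIndex P * P.relIndex M :=
      lt_of_lt_of_le (Nat.mul_lt_mul_of_pos_left hh hp.pos) (Nat.mul_le_mul_right _ r2)
    omega
  have hMP : M ≤ cmod P (Set.univ) := by
    obtain ⟨x, hx, hxP⟩ := SetLike.not_le_iff_exists.1 (not_le_of_gt (lt_inf_cmod h.pgrp hPM))
    exact le_of_relIndex_prime hPM.le (le_cmod_top P) hPrel hx.1 hx.2 hxP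
  have hc₀Z : c₀ ∈ cmod Z (M : Set G) := hcomm Z inferInstance fun v hv g =>
    (show g * v * g⁻¹ * v⁻¹ ∈ P from mem_cmod_iff.1 (hMP hv) g trivial).2
  -- fixed spaces
  have hZW : ∀ E : Subgroup G, Z ≤ M ⊓ cmod M₀ (E : Set G) := fun E =>
    inf_le_inf_left M (cmod_anti M₀ (Set.subset_univ _))
  have hplane : ∀ {E : Subgroup G}, c₀ ∈ E → ¬ M ⊓ cmod M₀ (E : Set G) ≤ Z →
      M ⊓ cmod M₀ (E : Set G) = M ⊓ cmod M₀ ({c₀} : Set G) := by
    intro E hcE hle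
    refine Subgroup.eq_of_le_of_card_ge
      (inf_le_inf_left M (cmod_anti M₀ (Set.singleton_subset_iff.2 hcE))) ?_
    set W := M ⊓ cmod M₀ (E : Set G) with hWdef
    set C := M ⊓ cmod M₀ ({c₀} : Set G) with hCdef
    have hM₀W : M₀ ≤ W := hM₀Z.le.trans (hZW E)
    have hM₀C : M₀ ≤ C := le_inf hlt.le ((le_cmod_top M₀).trans (cmod_anti M₀ (Set.subset_univ _)))
    have hlt1 : Z < W := lt_of_le_of_ne (hZW E) fun e => hle e.symm.le
    have hlt2 : C < M := lt_of_le_of_ne inf_le_left fun e => hnot (mem_cmod.2 fun x hx =>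
      ((mem_cmod.1 ((e.symm ▸ hx : x ∈ C)).2 c₀ rfl)).symm)
    have w2 : p * p ≤ M₀.relIndex W := by
      rw [← Subgroup.relIndex_mul_relIndex M₀ Z W hM₀Z.le (hZW E)]
      exact Nat.mul_le_mul r1 (dvd_relIndex h.pgrp hlt1)
    have c2 : M₀.relIndex C * p ≤ p * p * p := by
      have e := Subgroup.relIndex_mul_relIndex M₀ C M hM₀C inf_le_left
      rw [hrel3, ← mul_assoc] at e
      rw [← e]
      exact Nat.mul_le_mul_left _ (dvd_relIndex h.pgrp hlt2)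
    have hle' : M₀.relIndex C ≤ M₀.relIndex W :=
      (Nat.le_of_mul_le_mul_right c2 hp.pos).trans w2
    rw [← Subgroup.relIndex_bot_left, ← Subgroup.relIndex_bot_left,
      ← Subgroup.relIndex_mul_relIndex ⊥ M₀ C bot_le hM₀C,
      ← Subgroup.relIndex_mul_relIndex ⊥ M₀ W bot_le hM₀W]
    exact Nat.mul_le_mul_left _ hle'
  by_cases hcase : M ⊓ cmod M₀ (E₁ : Set G) ≤ Z
  · have hEZ : E₁ ≤ cmod Z (M : Set G) := by
      have hle : K ≤ E₁ ⊓ cmod Z (M : Set G) := le_inf hK.le₁ (hKc.trans (cmod_mono hM₀Z.le _))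
      have hinv : InvA A₁ (E₁ ⊓ cmod Z (M : Set G)) := invA_cmod hM.le₁ invA_self
        ((le_antisymm (hZW E₁) hcase) ▸ invA_cmod le_rfl hM.inv₁ hM₀.inv₁ invA_self) hM.inv₁
      rcases hP₁.irred _ hle inf_le_left hinv with e | e
      · exact absurd (e ▸ (⟨hc₀.1, hc₀Z⟩ : c₀ ∈ E₁ ⊓ cmod Z (M : Set G))) hgK
      · exact inf_eq_left.1 e
    exact false_of_line h hK hP₁ hP₂ hM hM₀.inv₁ hMK o₁ o₂ hexp hKM hM₀Z.le hZM.le
      inf_le_right hcase hZrel hDK hDE hc₀ hgK hDcent hEZ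
  by_cases hcase₂ : M ⊓ cmod M₀ (E₂ : Set G) ≤ Z
  · have hEZ : E₂ ≤ cmod Z (M : Set G) := by
      have hle : K ≤ E₂ ⊓ cmod Z (M : Set G) := le_inf hK.le₂ (hKc.trans (cmod_mono hM₀Z.le _))
      have hinv : InvA A₂ (E₂ ⊓ cmod Z (M : Set G)) := invA_cmod hM.le₂ invA_self
        ((le_antisymm (hZW E₂) hcase₂) ▸ invA_cmod le_rfl hM.inv₂ hM₀.inv₂ invA_self) hM.inv₂
      rcases hP₂.irred _ hle inf_le_left hinv with e | e
      · exact absurd (e ▸ (⟨hc₀.2, hc₀Z⟩ : c₀ ∈ E₂ ⊓ cmod Z (M : Set G))) hgK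
      · exact inf_eq_left.1 e
    have hDE₂ : (E₂ ⊓ E₁).relIndex E₂ = p := by
      have e := Subgroup.relIndex_mul_relIndex K (E₂ ⊓ E₁) E₂ (inf_comm E₁ E₂ ▸ hKD) inf_le_left
      rw [hP₂.index, sq, inf_comm E₂ E₁, hDK] at e
      rw [inf_comm E₂ E₁]
      exact Nat.eq_of_mul_eq_mul_left hp.pos e
    exact false_of_line h.symm hK.symm hP₂ hP₁ hM.symm hM₀.inv₂ hMK o₂ o₁ hexp hKM hM₀Z.le
      hZM.le inf_le_right hcase₂ hZrel (inf_comm E₁ E₂ ▸ hDK) hDE₂ (inf_comm E₁ E₂ ▸ hc₀) hgK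
      (inf_comm E₁ E₂ ▸ hDcent) hEZ
  -- both fixed spaces are the same plane
  have e1 := hplane hc₀.1 hcase
  have e2 := hplane hc₀.2 hcase₂
  rcases hirr (M ⊓ cmod M₀ (E₁ : Set G)) (hM₀Z.le.trans (hZW E₁)) inf_le_left
      (invB_cmod hM.invB hM₀.invB (invB_of_restricts h.r₁))
      (invA_cmod le_rfl hM.inv₁ hM₀.inv₁ invA_self)
      (e1.trans e2.symm ▸ invA_cmod le_rfl hM.inv₂ hM₀.inv₂ invA_self) with e | e
  · exact hcase (e.le.trans hM₀Z.le)
  · exact hnot (mem_cmod.2 fun x hx =>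
      (mem_cmod.1 ((e.symm ▸ hx : x ∈ M ⊓ cmod M₀ (E₁ : Set G))).2 c₀ hc₀.1).symm)

end Cfsg.Agent.CharPair
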