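import Cfsg.Agent.CharPair.LayerTools
import Cfsg.Agent.FusRankThree.Lin
import Cfsg.Agent.PGroup.Basic

/-!
# nothing moves the kernel, symplectic top (S5189)

Paper proof. V = M/M₀. The kernel N of G on V is strictly above K (a p-group acting faithfully
on V has order ≤ p³ while |G/K| = p⁴), so contains an element central modulo K outside K, which
lies in the layer C, so C ≤ N; N ⊓ E₂ is invariant above C, so E₂ by irred₂; then the
conjugates of cT E₁ act on V as elements of E₁, so elements of Lgen A₁ of order prime to p are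
trivial; N ⊓ E₁ is invariant and contains D, so E₁: G is trivial on V, contradiction.
-/

set_option autoImplicit false

open Cfsg.Agent.FusRankThree
open scoped Pointwise
open Cfsg.Agent.FusRankThree.LinAux (dl dl_apply exists_fixed_mod card_mul_le)

namespace Cfsg.Agent.CharPair

universe u

namespace LayerSpAux

/-- A `p`-group acting faithfully on a group of order at most `p ^ 3` has order at most `p ^ 3`. -/
theorem pgroup_aut_card_le {p : ℕ} [Fact p.Prime] {V : Type u} [CommGroup V] [Finite V]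
    (hV : IsPGroup p V) (hexp : ∀ v : V, v ^ p = 1) (hcard : Nat.card V ≤ p ^ 3)
    (P : Subgroup (MulAut V)) (hP : IsPGroup p P) : Nat.card P ≤ p ^ 3 := by
  have hp : p.Prime := Fact.out
  haveI : Finite (MulAut V) := Finite.of_injective (fun e : MulAut V => (e : V → V))
    DFunLike.coe_injective
  have hT : IsPGroup p (⊤ : Subgroup P) := hP.to_subgroup ⊤
  have step : ∀ A : Subgroup V, (∀ g ∈ P, ∀ a ∈ A, g a ∈ A) →
      ∃ v, (A = ⊤ ∨ v ∉ A) ∧ ∀ g ∈ P, v⁻¹ * g v ∈ A := by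
    intro A hA
    by_cases h : A = ⊤
    · exact ⟨1, Or.inl h, fun g _ => h ▸ Subgroup.mem_top _⟩
    · obtain ⟨v, hv, hd⟩ := exists_fixed_mod hV hT (A := A)
        (fun u _ a ha => hA u u.2 a ha) h
      exact ⟨v, Or.inr hv, fun g hg => hd ⟨g, hg⟩ trivial⟩
  obtain ⟨c, hc, hc'⟩ := step ⊥ (fun g _ a ha => by
    rw [Subgroup.mem_bot] at ha; subst ha; exact Subgroup.mem_bot.2 (map_one _))
  have hcf : ∀ g ∈ P, g c = c := fun g hg => (inv_mul_eq_one.1 (Subgroup.mem_bot.1 (hc' g hg))).symm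
  set A1 := Subgroup.zpowers c with hA1
  have h1inv : ∀ g ∈ P, ∀ a ∈ A1, g a ∈ A1 := by
    intro g hg a ha
    obtain ⟨k, rfl⟩ := Subgroup.mem_zpowers_iff.1 ha
    rw [map_zpow, hcf g hg]
    exact zpow_mem (Subgroup.mem_zpowers c) k
  have h1card : Nat.card A1 ≤ p := by
    rw [hA1, Nat.card_zpowers]
    exact Nat.le_of_dvd hp.pos (orderOf_dvd_of_pow_eq_one (hexp c))
  obtain ⟨a, ha, ha'⟩ := step A1 h1inv
  set A2 := A1 ⊔ Subgroup.zpowers a with hA2
  have h2inv : ∀ g ∈ P, ∀ x ∈ A2, g x ∈ A2 := by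
    intro g hg x hx
    suffices h : A2 ≤ A2.comap (g : V ≃* V).toMonoidHom from h hx
    refine sup_le (fun y hy => (le_sup_left : A1 ≤ A2) (h1inv g hg y hy))
      (Subgroup.zpowers_le.2 ?_)
    show g a ∈ A2
    rw [show g a = a * (a⁻¹ * g a) from (mul_inv_cancel_left _ _).symm]
    exact mul_mem ((le_sup_right : _ ≤ A2) (Subgroup.mem_zpowers a))
      ((le_sup_left : A1 ≤ A2) (ha' g hg))
  have h2card : Nat.card A2 ≤ p ^ 2 := by
    have hza : Nat.card (Subgroup.zpowers a) ≤ p := by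
      rw [Nat.card_zpowers]
      exact Nat.le_of_dvd hp.pos (orderOf_dvd_of_pow_eq_one (hexp a))
    calc Nat.card A2 ≤ Nat.card A1 * Nat.card (Subgroup.zpowers a) := by
          refine Nat.card_le_card_of_surjective
            (fun q : A1 × Subgroup.zpowers a => (⟨(q.1 : V) * q.2, mul_mem
              (Subgroup.mem_sup_left q.1.2) (Subgroup.mem_sup_right q.2.2)⟩ : A2)) ?_ |>.trans_eq
            (Nat.card_prod _ _)
          rintro ⟨y, hy⟩
          obtain ⟨u, hu, w, hw, rfl⟩ := Subgroup.mem_sup.1 hy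
          exact ⟨(⟨u, hu⟩, ⟨w, hw⟩), rfl⟩
      _ ≤ p * p := Nat.mul_le_mul h1card hza
      _ = p ^ 2 := (sq p).symm
  obtain ⟨b, hb, hb'⟩ := step A2 h2inv
  have htop : A2 ⊔ Subgroup.zpowers b = ⊤ := by
    rcases hb with h | hb
    · rw [h, top_sup_eq]
    have hne : A2 ≠ ⊤ := fun h => hb (h ▸ Subgroup.mem_top b)
    have ha1 : a ∉ A1 := ha.resolve_left fun h => hne (by rw [hA2, h, top_sup_eq])
    have hc1 : c ∉ (⊥ : Subgroup V) := hc.resolve_left fun h => hne (by
      have hsub : A1 = ⊤ := eq_top_iff.2 (h ▸ bot_le)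
      rw [hA2, hsub, top_sup_eq])
    have l1 := card_mul_le hV (show (⊥ : Subgroup V) < A1 from
      lt_of_le_of_ne bot_le fun e => hc1 (e ▸ Subgroup.mem_zpowers c))
    have l2 := card_mul_le hV (show A1 < A2 from lt_of_le_of_ne le_sup_left fun e =>
      ha1 (e ▸ (le_sup_right : _ ≤ A2) (Subgroup.mem_zpowers a)))
    have l3 := card_mul_le hV (show A2 < A2 ⊔ Subgroup.zpowers b from
      lt_of_le_of_ne le_sup_left fun e =>
        hb (e ▸ (le_sup_right : _ ≤ A2 ⊔ _) (Subgroup.mem_zpowers b)))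
    refine Subgroup.eq_top_of_le_card _ (hcard.trans ?_)
    rw [Subgroup.card_bot, one_mul] at l1
    calc p ^ 3 = p * p * p := by ring
      _ ≤ Nat.card A2 * p :=
        Nat.mul_le_mul_right _ ((Nat.mul_le_mul_right _ l1).trans l2)
      _ ≤ _ := l3
  refine le_trans (Nat.card_le_card_of_injective (fun g : P =>
    ((⟨a⁻¹ * (g : MulAut V) a, ha' g g.2⟩ : A1), (⟨b⁻¹ * (g : MulAut V) b, hb' g g.2⟩ : A2)))
    ?_) ?_
  · intro g g' h
    obtain ⟨h1, h2⟩ := Prod.ext_iff.1 h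
    have e1 : (g : MulAut V) a = (g' : MulAut V) a := mul_left_cancel (congrArg Subtype.val h1)
    have e2 : (g : MulAut V) b = (g' : MulAut V) b := mul_left_cancel (congrArg Subtype.val h2)
    refine Subtype.ext (MulEquiv.ext fun x => ?_)
    have hle : A2 ⊔ Subgroup.zpowers b ≤
        ((g : MulAut V).toMonoidHom).eqLocus ((g' : MulAut V).toMonoidHom) := by
      refine sup_le (sup_le (Subgroup.zpowers_le.2 ?_) (Subgroup.zpowers_le.2 e1))
        (Subgroup.zpowers_le.2 e2)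
      show (g : MulAut V) c = (g' : MulAut V) c
      rw [hcf g g.2, hcf g' g'.2]
    exact hle (htop ▸ Subgroup.mem_top x)
  · rw [Nat.card_prod]
    calc Nat.card A1 * Nat.card A2 ≤ p * p ^ 2 := Nat.mul_le_mul h1card h2card
      _ = p ^ 3 := by ring

variable {G : Type u} [Group G]

/-- The elements centralising `M` modulo `M₀`. -/
def ker (M M₀ : Subgroup G) [M.Normal] [M₀.Normal] : Subgroup G where
  carrier := {g | ∀ m ∈ M, g * m * g⁻¹ * m⁻¹ ∈ M₀}
  one_mem' := fun m _ => by simp [M₀.one_mem]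
  mul_mem' := by
    intro g k hg hk m hm
    have h1 := hg _ (Subgroup.Normal.conj_mem ‹M.Normal› m hm k)
    have h2 := hk m hm
    rw [show g * k * m * (g * k)⁻¹ * m⁻¹ =
      (g * (k * m * k⁻¹) * g⁻¹ * (k * m * k⁻¹)⁻¹) * (k * m * k⁻¹ * m⁻¹) by group]
    exact mul_mem h1 h2
  inv_mem' := by
    intro g hg m hm
    have h1 : g⁻¹ * m * g ∈ M := by
      simpa using Subgroup.Normal.conj_mem ‹M.Normal› m hm g⁻¹
    have h2 := inv_mem (hg _ h1)
    simpa [mul_assoc] using h2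

end LayerSpAux

open LayerSpAux

variable {G : Type u} [Group G] [Finite G] {p : ℕ} [Fact p.Prime] {E₁ E₂ : Subgroup G}
  {A₁ : Subgroup (MulAut E₁)} {A₂ : Subgroup (MulAut E₂)} {B : Subgroup (MulAut G)}

namespace LayerSpAux

/-- `ker M M₀ ⊓ E` is invariant under `A`. -/
theorem invA_ker {E : Subgroup G} {A : Subgroup (MulAut E)} {M M₀ : Subgroup G} [M.Normal]
    [M₀.Normal] (hME : M ≤ E) (hM : InvA A M) (hM₀ : InvA A M₀) :
    InvA A (ker M M₀ ⊓ E) := by
  intro α hα x hx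
  refine ⟨fun m hm => ?_, (α x).2⟩
  set m' : E := α⁻¹ ⟨m, hME hm⟩ with hm'
  have hm'M : (m' : G) ∈ M := hM α⁻¹ (A.inv_mem hα) ⟨m, hME hm⟩ hm
  have h1 := hx.1 (m' : G) hm'M
  have h2 := hM₀ α hα (x * m' * x⁻¹ * m'⁻¹) h1
  have e : α m' = ⟨m, hME hm⟩ := by rw [hm', MulAut.apply_inv_self]
  rw [map_mul, map_mul, map_mul, map_inv, map_inv, e] at h2
  exact h2

/-- If the kernel on `M / M₀` and `E` generate the group, `Lgen` is trivial there. -/
theorem otriv_of_sup {E : Subgroup G} {A : Subgroup (MulAut E)} (hG : IsPGroup p G)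
    (hn : E.Normal) (hTA : cT E ≤ A) {M M₀ : Subgroup G} [M.Normal] [M₀.Normal] (hME : M ≤ E)
    (hM : InvA A M) (hM₀ : InvA A M₀) (hsup : ∀ g : G, ∃ e : E, (e : G)⁻¹ * g ∈ ker M M₀) :
    OTriv p A M M₀ := by
  -- the automorphisms acting on the section as an element of `E`
  let H : Subgroup (MulAut E) :=
    { carrier := {l | l ∈ A ∧ ∃ e : E, ∀ m : E, (m : G) ∈ M →
        ((e * m * e⁻¹ : E) : G)⁻¹ * ((l m : E) : G) ∈ M₀}
      one_mem' := ⟨A.one_mem, 1, fun m _ => by simp [M₀.one_mem]⟩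
      mul_mem' := by
        rintro l k ⟨hl, e, he⟩ ⟨hk, f, hf⟩
        refine ⟨A.mul_mem hl hk, e * f, fun m hm => ?_⟩
        have hfm : ((f * m * f⁻¹ : E) : G) ∈ M := by
          push_cast; exact Subgroup.Normal.conj_mem ‹M.Normal› _ hm _
        have h1 := he (f * m * f⁻¹) hfm
        have h2 := hM₀ l hl ((f * m * f⁻¹)⁻¹ * k m) (by push_cast; simpa using hf m hm)
        rw [map_mul, map_inv] at h2
        have h3 := M₀.mul_mem h1 h2
        push_cast at h3 ⊢
        rw [MulAut.mul_apply]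
        simpa [mul_assoc] using h3
      inv_mem' := by
        rintro l ⟨hl, e, he⟩
        refine ⟨A.inv_mem hl, e⁻¹, fun m hm => ?_⟩
        set m' : E := e⁻¹ * m * e with hm'
        have hm'M : (m' : G) ∈ M := by
          rw [hm']; push_cast
          simpa using Subgroup.Normal.conj_mem ‹M.Normal› _ hm (e : G)⁻¹
        have h1 := he m' hm'M
        have e1 : e * m' * e⁻¹ = m := by rw [hm']; group
        rw [e1] at h1
        have h2 := hM₀ l⁻¹ (A.inv_mem hl) (m⁻¹ * l m') (by push_cast; exact h1)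
        rw [map_mul, MulAut.inv_apply_self, map_inv] at h2
        push_cast at h2
        have h3 := inv_mem h2
        push_cast [hm'] at h3 ⊢
        simpa [mul_assoc] using h3 }
  have hle : Lgen A ≤ H := by
    rw [Lgen, Subgroup.closure_le]
    rintro _ ⟨α, hα, c, hc, rfl⟩
    obtain ⟨g, hg⟩ := (mem_cT hn).1 hc
    obtain ⟨e, he⟩ := hsup g
    refine ⟨A.mul_mem (A.mul_mem hα (hTA hc)) (A.inv_mem hα), α e, fun m hm => ?_⟩
    set m' : E := α⁻¹ m with hm'
    have hm'M : (m' : G) ∈ M := hM α⁻¹ (A.inv_mem hα) m hm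
    have h1 : ((e * m' * e⁻¹ : E) : G)⁻¹ * ((c m' : E) : G) ∈ M₀ := by
      rw [hg]; push_cast
      have h2 := he (m' : G) hm'M
      have h3 := Subgroup.Normal.conj_mem ‹M₀.Normal› _ h2 ((e : G) * (m' : G)⁻¹)
      rw [mul_assoc] at h3
      simpa [mul_assoc] using h3
    have h2 := hM₀ α hα ((e * m' * e⁻¹)⁻¹ * c m') h1
    rw [map_mul, map_inv, map_mul, map_mul, map_inv, hm', MulAut.apply_inv_self] at h2
    simpa [mul_assoc] using h2
  intro l hl hco
  obtain ⟨hlA, e, he⟩ := hle hl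
  have hpow : ∀ n : ℕ, ∀ m : E, (m : G) ∈ M →
      ((e ^ n * m * (e ^ n)⁻¹ : E) : G)⁻¹ * (((l ^ n) m : E) : G) ∈ M₀ := by
    intro n
    induction n with
    | zero => intro m _; simp [M₀.one_mem]
    | succ n ih =>
      intro m hm
      have hfm : ((e ^ n * m * (e ^ n)⁻¹ : E) : G) ∈ M := by
        push_cast; exact Subgroup.Normal.conj_mem ‹M.Normal› _ hm _
      have h1 := he (e ^ n * m * (e ^ n)⁻¹) hfm
      have h2 := hM₀ l hlA ((e ^ n * m * (e ^ n)⁻¹)⁻¹ * (l ^ n) m) (by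
        push_cast; simpa using ih m hm)
      rw [map_mul, map_inv] at h2
      have h3 := M₀.mul_mem h1 h2
      push_cast at h3
      rw [pow_succ' e, pow_succ' l, MulAut.mul_apply]
      push_cast
      simpa [mul_assoc] using h3
  have hker : (e : G) ^ orderOf l ∈ ker M M₀ := by
    intro m hm
    have h1 := hpow (orderOf l) ⟨m, hME hm⟩ hm
    rw [pow_orderOf_eq_one] at h1
    push_cast at h1
    have h2 := inv_mem (Subgroup.Normal.conj_mem ‹M₀.Normal› _ h1 m)
    simpa [mul_assoc] using h2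
  have hek : (e : G) ∈ ker M M₀ := by
    obtain ⟨k, hk⟩ := hG (e : G)
    have hcop : (orderOf l).Coprime (orderOf (e : G)) :=
      (hco.pow_right k).coprime_dvd_right (orderOf_dvd_of_pow_eq_one hk)
    obtain ⟨m, hm⟩ := exists_pow_eq_self_of_coprime hcop
    rw [← hm]
    exact pow_mem hker m
  intro m hm
  have h1 := hek (m : G) hm
  have h2 := he m hm
  push_cast at h2
  have h3 := Subgroup.Normal.conj_mem ‹M₀.Normal› _ h1 (m : G)⁻¹
  have h4 := M₀.mul_mem h3 h2
  simpa [mul_assoc] using h4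

end LayerSpAux

open LayerSpAux

theorem layer_sp (h : Pair p E₁ E₂ A₁ A₂ B) {K : Subgroup G} (hK : Good p A₁ A₂ B K)
    (hS : SpOver p A₁ A₂ B K) : OTriv p A₁ K ⊥ ∧ OTriv p A₂ K ⊥ := by
  by_contra hneg
  obtain ⟨M, M₀, hMg, hM₀g, hlt, hMK, -, -, hmov, hpow, hcom, hKM, hrel, -⟩ :=
    exists_layer h hK hneg
  have hp : p.Prime := Fact.out
  haveI := hMg.normal
  haveI := hM₀g.normal
  haveI := hK.normal
  set N := ker M M₀ with hN
  have hKN : K ≤ N := fun k hk m hm => hKM k hk m hm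
  obtain ⟨C, τ, hP, hKC, hCE₂, hrelC, hCc, -, a, ha, b, hb, hab⟩ := hS.plane
  haveI := hP.normal
  haveI : E₁.Normal := h.s₁.normal
  -- the action on the section
  set M0' := M₀.subgroupOf M with hM0'
  haveI : M0'.Normal := by rw [hM0']; infer_instance
  have hinv : ∀ g : G, M0'.map ((MulAut.conjNormal g : MulAut M) : M ≃* M).toMonoidHom = M0' := by
    intro g
    ext y
    constructor
    · rintro ⟨z, hz, rfl⟩
      show (g * (z : G) * g⁻¹) ∈ M₀
      exact hM₀g.normal.conj_mem _ hz g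
    · intro hy
      refine ⟨MulAut.conjNormal g⁻¹ y, ?_, ?_⟩
      · show g⁻¹ * (y : G) * g⁻¹⁻¹ ∈ M₀
        exact hM₀g.normal.conj_mem _ hy g⁻¹
      · show MulAut.conjNormal g (MulAut.conjNormal g⁻¹ y) = y
        rw [← MulAut.mul_apply, ← map_mul, mul_inv_cancel, map_one]
        rfl
  have hVc : ∀ x y : M ⧸ M0', x * y = y * x := by
    intro x y
    obtain ⟨x, rfl⟩ := QuotientGroup.mk'_surjective M0' x
    obtain ⟨y, rfl⟩ := QuotientGroup.mk'_surjective M0' y
    rw [← map_mul, ← map_mul]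
    refine QuotientGroup.eq.2 ?_
    rw [hM0', Subgroup.mem_subgroupOf]
    push_cast
    have := hcom _ (inv_mem y.2) _ (inv_mem x.2)
    simpa [mul_assoc] using this
  letI : CommGroup (M ⧸ M0') := { (inferInstance : Group (M ⧸ M0')) with mul_comm := hVc }
  have hexp : ∀ v : M ⧸ M0', v ^ p = 1 := by
    intro v
    obtain ⟨v, rfl⟩ := QuotientGroup.mk'_surjective M0' v
    rw [← map_pow]
    refine (QuotientGroup.eq_one_iff _).2 ?_
    rw [hM0', Subgroup.mem_subgroupOf]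
    push_cast
    exact hpow _ v.2
  have hVp : IsPGroup p (M ⧸ M0') := (h.pgrp.to_subgroup M).to_quotient M0'
  let ψ : G →* MulAut (M ⧸ M0') :=
    { toFun := fun g => QuotientGroup.congr M0' M0' (MulAut.conjNormal g) (hinv g)
      map_one' := by
        refine MulEquiv.ext fun v => ?_
        obtain ⟨v, rfl⟩ := QuotientGroup.mk'_surjective M0' v
        simp
      map_mul' := fun g k => by
        refine MulEquiv.ext fun v => ?_
        obtain ⟨v, rfl⟩ := QuotientGroup.mk'_surjective M0' v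
        show (QuotientGroup.mk' M0' (MulAut.conjNormal (g * k) v)) =
          QuotientGroup.mk' M0' (MulAut.conjNormal g (MulAut.conjNormal k v))
        rw [map_mul, MulAut.mul_apply] }
  have hψker : ψ.ker = N := by
    ext g
    rw [MonoidHom.mem_ker]
    constructor
    · intro hg m hm
      have h1 := DFunLike.congr_fun hg (QuotientGroup.mk' M0' ⟨m, hm⟩)
      have h2 : (MulAut.conjNormal g ⟨m, hm⟩ : M)⁻¹ * ⟨m, hm⟩ ∈ M0' := QuotientGroup.eq.1 h1
      have h3 : (g * m * g⁻¹)⁻¹ * m ∈ M₀ := h2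
      have h4 := hM₀g.normal.conj_mem _ (inv_mem h3) m
      simpa [mul_assoc] using h4
    · intro hg
      refine MulEquiv.ext fun v => ?_
      obtain ⟨⟨m, hm⟩, rfl⟩ := QuotientGroup.mk'_surjective M0' v
      refine QuotientGroup.eq.2 ?_
      show (g * m * g⁻¹)⁻¹ * m ∈ M₀
      have h4 := hM₀g.normal.conj_mem _ (inv_mem (hg m hm)) m⁻¹
      simpa [mul_assoc] using h4
  have hnle : ¬ N ≤ K := by
    intro hle
    have h1 : Nat.card ψ.range ≤ p ^ 3 :=
      pgroup_aut_card_le hVp hexp (by rw [← Subgroup.index_eq_card]; exact hrel) _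
        (h.pgrp.of_surjective ψ.rangeRestrict ψ.rangeRestrict_surjective)
    rw [← Subgroup.index_ker, hψker, le_antisymm hle hKN, hS.index] at h1
    exact absurd h1 (not_le.2 (Nat.pow_lt_pow_right hp.one_lt (by norm_num)))
  haveI hNn : N.Normal := hψker ▸ inferInstance
  -- an element of `N` central modulo `K`
  obtain ⟨z, hzN, hzK, hzc⟩ : ∃ z ∈ N, z ∉ K ∧ ∀ g : G, g * z * g⁻¹ * z⁻¹ ∈ K := by
    have hne : N.map (QuotientGroup.mk' K) ≠ ⊥ := fun e => hnle (by
      rwa [Subgroup.map_eq_bot_iff, QuotientGroup.ker_mk'] at e)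
    haveI : (N.map (QuotientGroup.mk' K)).Normal :=
      hNn.map _ (QuotientGroup.mk'_surjective K)
    have h1 := Cfsg.Agent.PGroup.inf_center_ne_bot (h.pgrp.to_quotient K)
      (N.map (QuotientGroup.mk' K)) hne
    obtain ⟨q, ⟨⟨z, hz, rfl⟩, hqc⟩, hq1⟩ := (Subgroup.bot_or_exists_ne_one _).resolve_left h1
    refine ⟨z, hz, fun e => hq1 ((QuotientGroup.eq_one_iff z).2 e), fun g => ?_⟩
    have h2 := Subgroup.mem_center_iff.1 hqc (QuotientGroup.mk' K g)
    rw [← QuotientGroup.eq_one_iff]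
    show QuotientGroup.mk' K (g * z * g⁻¹ * z⁻¹) = 1
    rw [map_mul, map_mul, map_mul, map_inv, map_inv, h2]
    group
  -- `z` lies in `E₁`
  obtain ⟨hK₁, hK₂, hM₁, hM₂⟩ : K ≤ E₁ ∧ K ≤ E₂ ∧ M ≤ E₁ ∧ M ≤ E₂ :=
    ⟨hK.le₁, hK.le₂, hMK.trans hK.le₁, hMK.trans hK.le₂⟩
  have hzE : z ∈ E₁ := by
    by_contra hzE
    have hsup : ∀ g : G, ∃ i : ℤ, ∃ e ∈ E₁, g = z ^ i * e := by
      intro g
      have htop : Subgroup.zpowers z ⊔ E₁ = ⊤ := by
        have h2 := Subgroup.index_dvd_of_le (le_sup_right : E₁ ≤ Subgroup.zpowers z ⊔ E₁)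
        rw [h.s₁.index, Nat.dvd_prime hp] at h2
        refine h2.elim Subgroup.index_eq_one.1 fun h3 => absurd ?_ hzE
        have h4 := Subgroup.eq_of_le_of_card_ge (le_sup_right : E₁ ≤ Subgroup.zpowers z ⊔ E₁)
          (le_of_eq (Nat.eq_of_mul_eq_mul_right hp.pos (by
            nth_rw 1 [← h3]; rw [Subgroup.card_mul_index, ← E₁.card_mul_index, h.s₁.index])))
        exact h4 ▸ Subgroup.mem_sup_left (Subgroup.mem_zpowers z)
      have hg' : g ∈ (Subgroup.zpowers z : Set G) * (E₁ : Set G) := by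
        rw [← Subgroup.mul_normal, htop]
        exact Subgroup.mem_top g
      obtain ⟨u, hu, e, he, rfl⟩ := hg'
      obtain ⟨i, rfl⟩ := Subgroup.mem_zpowers_iff.1 hu
      exact ⟨i, e, he, rfl⟩
    have hcomm1 : ∀ x ∈ E₁, ∀ y ∈ E₁, x⁻¹ * (y * x * y⁻¹) ∈ C := by
      intro x hx y hy
      haveI : (C.subgroupOf E₁).Normal := inferInstance
      have h2 : Nat.card (E₁ ⧸ C.subgroupOf E₁) = p ^ 2 := by
        rw [← Subgroup.index_eq_card]; exact hP.index
      have h3 := IsPGroup.commutative_of_card_eq_prime_sq h2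
        (QuotientGroup.mk' _ (⟨y, hy⟩ : E₁)) (QuotientGroup.mk' _ (⟨x, hx⟩ : E₁))
      rw [← map_mul, ← map_mul] at h3
      have h4 : ((⟨y, hy⟩ : E₁) * ⟨x, hx⟩)⁻¹ * ((⟨x, hx⟩ : E₁) * ⟨y, hy⟩) ∈ C.subgroupOf E₁ :=
        QuotientGroup.eq.1 h3
      have h5 : (y * x)⁻¹ * (x * y) ∈ C := h4
      have h6 := hP.normal.conj_mem _ (inv_mem h5) y
      simpa [mul_assoc] using h6
    have htriv : ∀ g : G, ∀ x ∈ E₁, x⁻¹ * (g * x * g⁻¹) ∈ C := by
      intro g x hx
      obtain ⟨i, e, he, rfl⟩ := hsup g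
      have hzi : ∀ y : G, y⁻¹ * (z ^ i * y * (z ^ i)⁻¹) ∈ C := by
        intro y
        refine hKC ((QuotientGroup.eq_one_iff _).1 ?_)
        have hc : ∀ w : G ⧸ K, w * QuotientGroup.mk' K z = QuotientGroup.mk' K z * w := by
          intro w
          obtain ⟨w, rfl⟩ := QuotientGroup.mk'_surjective K w
          have h7 : QuotientGroup.mk' K (w * z * w⁻¹ * z⁻¹) = 1 :=
            (QuotientGroup.eq_one_iff _).2 (hzc w)
          simp only [map_mul, map_inv] at h7
          exact mul_inv_eq_iff_eq_mul.1 (mul_inv_eq_one.1 h7)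
        show QuotientGroup.mk' K (y⁻¹ * (z ^ i * y * (z ^ i)⁻¹)) = 1
        have h8 : Commute (QuotientGroup.mk' K y) (QuotientGroup.mk' K z ^ i) :=
          (show Commute (QuotientGroup.mk' K y) (QuotientGroup.mk' K z) from hc _).zpow_right i
        simp only [map_mul, map_inv, map_zpow]
        rw [← h8.eq]; group
      have := mul_mem (hcomm1 x hx e he) (hzi (e * x * e⁻¹))
      simpa [mul_assoc] using this
    have hl := lgen_trivOn (A := A₁) h.s₁.normal h.s₁.cT_le (X := E₁) (M := C) inferInstance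
      hP.normal hP.le (fun α _ x _ => (α x).2) hP.inv htriv
    obtain ⟨α, hα, hαe⟩ := hP.tau.lgen
    have hsq : ∀ x : E₁, (x : G) * x ∈ C := by
      intro x
      have h2 : (x : G)⁻¹ * ((α x : E₁) : G) ∈ C := hl α hα x x.2
      rw [hαe x] at h2
      have h9 : (x : G) * τ (x : G) ∈ C := hP.tau.neg x x.2
      have := mul_mem h9 (inv_mem h2)
      simpa [mul_assoc] using this
    have hall : E₁ ≤ C := by
      intro x hx
      obtain ⟨k, hk⟩ := h.pgrp x
      have ho : Odd (orderOf x) := (h.odd.pow (n := k)).of_dvd_nat (orderOf_dvd_of_pow_eq_one hk)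
      obtain ⟨r, hr⟩ := ho
      have : x = (x * x) ^ (r + 1) := by
        rw [← sq, ← pow_mul, show 2 * (r + 1) = orderOf x + 1 by omega, pow_succ,
          pow_orderOf_eq_one, one_mul]
      rw [this]
      exact pow_mem (hsq ⟨x, hx⟩) _
    have := hP.index
    rw [Subgroup.relIndex_eq_one.2 hall] at this
    exact absurd this (Nat.one_lt_pow (by norm_num) hp.one_lt).ne
  -- so `C ≤ N`
  have hzC : z ∈ C := by
    let X : Subgroup G :=
      { carrier := {w | w ∈ E₁ ∧ ∀ x ∈ E₁, x * w * x⁻¹ * w⁻¹ ∈ K}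
        one_mem' := ⟨E₁.one_mem, fun x _ => by simp [K.one_mem]⟩
        mul_mem' := by
          rintro v w ⟨hv, hv'⟩ ⟨hw, hw'⟩
          refine ⟨E₁.mul_mem hv hw, fun x hx => ?_⟩
          have := K.mul_mem (hv' x hx) (hK.normal.conj_mem _ (hw' x hx) v)
          simpa [mul_assoc] using this
        inv_mem' := by
          rintro v ⟨hv, hv'⟩
          refine ⟨E₁.inv_mem hv, fun x hx => ?_⟩
          have := hK.normal.conj_mem _ (inv_mem (hv' x hx)) v⁻¹
          simpa [mul_assoc] using this }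
    have hCX : C ≤ X := fun c hc => ⟨hP.le hc, fun x _ => hCc x c hc⟩
    have hXinv : InvA A₁ X := by
      intro α hα w hw
      refine ⟨(α w).2, fun x hx => ?_⟩
      have h2 := hK.inv₁ α hα (α⁻¹ ⟨x, hx⟩ * w * (α⁻¹ ⟨x, hx⟩)⁻¹ * w⁻¹)
        (hw.2 _ (α⁻¹ ⟨x, hx⟩).2)
      rw [map_mul, map_mul, map_mul, map_inv, map_inv, MulAut.apply_inv_self] at h2
      exact h2
    rcases hP.irred X hCX (fun w hw => hw.1) hXinv with e | e
    · exact e ▸ (show z ∈ X from ⟨hzE, fun x _ => hzc x⟩)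
    · exact absurd ((e.symm ▸ hb.1 : b ∈ X).2 a ha) hab
  have hCN : C ≤ N := by
    intro c hc
    have h1 : K < K ⊔ Subgroup.zpowers z := lt_of_le_of_ne le_sup_left fun e =>
      hzK (e ▸ Subgroup.mem_sup_right (Subgroup.mem_zpowers z))
    have h2 : K ⊔ Subgroup.zpowers z ≤ C := sup_le hKC (Subgroup.zpowers_le.2 hzC)
    have h3 := Subgroup.relIndex_mul_relIndex K (K ⊔ Subgroup.zpowers z) C h1.le h2
    rw [hrelC] at h3
    rcases (Nat.dvd_prime hp).1 ⟨_, h3.symm⟩ with h4 | h4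
    · exact absurd (Subgroup.relIndex_eq_one.1 h4) (not_le_of_gt h1)
    · rw [h4] at h3
      have h5 : (K ⊔ Subgroup.zpowers z).relIndex C = 1 :=
        Nat.eq_of_mul_eq_mul_left hp.pos (h3.trans (mul_one p).symm)
      exact (sup_le hKN (Subgroup.zpowers_le.2 hzN)) (Subgroup.relIndex_eq_one.1 h5 hc)
  -- `E₂ ≤ N`
  have hE₂N : E₂ ≤ N := by
    rcases hS.irred₂ (N ⊓ E₂) (le_inf hKN hK₂) inf_le_right
      (invA_ker hM₂ hMg.inv₂ hM₀g.inv₂) with e | e
    · have : C ≤ K := e ▸ le_inf hCN hCE₂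
      rw [Subgroup.relIndex_eq_one.2 this] at hrelC
      exact absurd hrelC hp.ne_one.symm
    · exact fun x hx => (e.ge hx).1
  -- `E₁ ≤ N`
  have hsupE : E₁ ⊔ E₂ = ⊤ := by
    have h2 := Subgroup.index_dvd_of_le (le_sup_left : E₁ ≤ E₁ ⊔ E₂)
    rw [h.s₁.index, Nat.dvd_prime hp] at h2
    refine h2.elim Subgroup.index_eq_one.1 fun h3 => ?_
    have hE : E₁ = E₁ ⊔ E₂ := Subgroup.eq_of_le_of_card_ge le_sup_left
      (le_of_eq (Nat.eq_of_mul_eq_mul_right hp.pos (by
        nth_rw 1 [← h3]; rw [Subgroup.card_mul_index, ← E₁.card_mul_index, h.s₁.index])))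
    have hE' : E₂ = E₁ := Subgroup.eq_of_le_of_card_ge (hE ▸ le_sup_right)
      (le_of_eq (Nat.eq_of_mul_eq_mul_right hp.pos (by
        nth_rw 1 [← h.s₁.index]; rw [Subgroup.card_mul_index, ← E₂.card_mul_index, h.s₂.index])))
    exact absurd hE'.symm h.ne
  have hE₁N : E₁ ≤ N := by
    rcases hP.irred (N ⊓ E₁) (le_inf hCN hP.le) inf_le_right
      (invA_ker hM₁ hMg.inv₁ hM₀g.inv₁) with e | e
    · exfalso
      have hle : E₁ ⊓ E₂ ≤ C := e ▸ le_inf (inf_le_right.trans hE₂N) inf_le_left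
      have h2 := Subgroup.index_dvd_of_le hle
      have h3 : (E₁ ⊓ E₂).index ≤ p * p :=
        (Subgroup.index_inf_le).trans_eq (by rw [h.s₁.index, h.s₂.index])
      have h4 : C.index ≤ p * p :=
        (Nat.le_of_dvd (Nat.pos_of_ne_zero Subgroup.index_ne_zero_of_finite) h2).trans h3
      have h5 := Subgroup.relIndex_mul_index hP.le
      rw [hP.index, h.s₁.index, ← pow_succ] at h5
      rw [← h5, ← sq] at h4
      exact absurd h4 (not_le.2 (Nat.pow_lt_pow_right hp.one_lt (by norm_num)))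
    · exact fun x hx => (e.ge hx).1
  have hall : ∀ g : G, g ∈ N := fun g => (sup_le hE₁N hE₂N) (hsupE.ge (Subgroup.mem_top g))
  refine hmov ⟨otriv_of_sup h.pgrp h.s₁.normal h.s₁.cT_le hM₁ hMg.inv₁ hM₀g.inv₁ fun g => ?_,
    otriv_of_sup h.pgrp h.s₂.normal h.s₂.cT_le hM₂ hMg.inv₂ hM₀g.inv₂ fun g => ?_⟩
  · exact ⟨1, by simpa using hall g⟩
  · exact ⟨1, by simpa using hall g⟩

end Cfsg.Agent.CharPair
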