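import Cfsg.Agent.CharPair.Tools
import Cfsg.Agent.PGroup.Basic

/-!
# a moved layer below the kernel (S5189)

`M` is a minimal good subgroup below `K` modulo which `K` is fixed, `M₀` a maximal good subgroup
properly below `M`. The elements of `M` of order dividing `p` modulo `M₀` and central in `K`
modulo `M₀` form a good subgroup strictly above `M₀`, hence are all of `M`; rank bounds the
section.
-/

set_option autoImplicit false

open Cfsg.Agent.FusRankThree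

namespace Cfsg.Agent.CharPair

universe u

variable {G : Type u} [Group G]

/-- `Ω₁` of the centraliser of `K` in `M` modulo `M₀`. -/
def layerTop (p : ℕ) (K M M₀ : Subgroup G) [M₀.Normal] : Subgroup G :=
  M ⊓ (omZ p (K.map (QuotientGroup.mk' M₀))).comap (QuotientGroup.mk' M₀)

theorem mem_layerTop {p : ℕ} {K M M₀ : Subgroup G} [M₀.Normal] (hMK : M ≤ K) {x : G} :
    x ∈ layerTop p K M M₀ ↔
      x ∈ M ∧ x ^ p ∈ M₀ ∧ ∀ k ∈ K, k * x * k⁻¹ * x⁻¹ ∈ M₀ := by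
  set q := QuotientGroup.mk' M₀ with hq
  have h1 : ∀ y, q y = 1 ↔ y ∈ M₀ := fun y => QuotientGroup.eq_one_iff y
  have h2 : ∀ k : G, k * x * k⁻¹ * x⁻¹ ∈ M₀ ↔ q k * q x = q x * q k := fun k => by
    rw [← h1, map_mul, map_mul, map_mul, map_inv, map_inv, mul_inv_eq_one, mul_inv_eq_iff_eq_mul]
  constructor
  · rintro ⟨hx, -, hp, hc⟩
    exact ⟨hx, (h1 _).1 ((map_pow q x p).trans hp),
      fun k hk => (h2 k).2 (hc _ ⟨k, hk, rfl⟩)⟩
  · rintro ⟨hx, hp, hc⟩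
    refine ⟨hx, ⟨x, hMK hx, rfl⟩, ?_, ?_⟩
    · exact (map_pow q x p).symm.trans ((h1 _).2 hp)
    · rintro _ ⟨k, hk, rfl⟩
      exact (h2 k).1 (hc k hk)

theorem layerTop_invA {p : ℕ} {E : Subgroup G} {A : Subgroup (MulAut E)} {K M M₀ : Subgroup G}
    [M₀.Normal] (hMK : M ≤ K) (hKE : K ≤ E) (hK : InvA A K) (hM : InvA A M) (hM₀ : InvA A M₀) :
    InvA A (layerTop p K M M₀) := by
  intro α hα x hx
  obtain ⟨hxM, hp, hc⟩ := (mem_layerTop hMK).1 hx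
  refine (mem_layerTop hMK).2 ⟨hM α hα x hxM, ?_, fun k hk => ?_⟩
  · have h := hM₀ α hα (x ^ p) (by simpa using hp)
    simpa using h
  · set k' := α⁻¹ ⟨k, hKE hk⟩ with hk'
    have h := hM₀ α hα (k' * x * k'⁻¹ * x⁻¹)
      (hc _ (hK α⁻¹ (A.inv_mem hα) ⟨k, hKE hk⟩ hk))
    simpa [map_mul, map_inv, hk', MulAut.apply_inv_self] using h

theorem layerTop_invB {p : ℕ} {B : Subgroup (MulAut G)} {K M M₀ : Subgroup G}
    [M₀.Normal] (hMK : M ≤ K) (hK : InvB B K) (hM : InvB B M) (hM₀ : InvB B M₀) :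
    InvB B (layerTop p K M M₀) := by
  intro β hβ x hx
  obtain ⟨hxM, hp, hc⟩ := (mem_layerTop hMK).1 hx
  refine (mem_layerTop hMK).2 ⟨hM β hβ x hxM, ?_, fun k hk => ?_⟩
  · rw [← map_pow]
    exact hM₀ β hβ _ hp
  · have h := hM₀ β hβ _ (hc _ (hK β⁻¹ (B.inv_mem hβ) k hk))
    simpa [map_mul, map_inv, MulAut.apply_inv_self] using h

variable [Finite G] {p : ℕ} [Fact p.Prime] {E₁ E₂ : Subgroup G}
  {A₁ : Subgroup (MulAut E₁)} {A₂ : Subgroup (MulAut E₂)} {B : Subgroup (MulAut G)}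

theorem exists_layer (h : Pair p E₁ E₂ A₁ A₂ B) {K : Subgroup G} (hK : Good p A₁ A₂ B K)
    (hneg : ¬ (OTriv p A₁ K ⊥ ∧ OTriv p A₂ K ⊥)) :
    ∃ M M₀ : Subgroup G, Good p A₁ A₂ B M ∧ Good p A₁ A₂ B M₀ ∧ M₀ < M ∧ M ≤ K ∧
      OTriv p A₁ K M ∧ OTriv p A₂ K M ∧ ¬ (OTriv p A₁ M M₀ ∧ OTriv p A₂ M M₀) ∧
      (∀ x ∈ M, x ^ p ∈ M₀) ∧ (∀ x ∈ M, ∀ y ∈ M, x * y * x⁻¹ * y⁻¹ ∈ M₀) ∧
      (∀ k ∈ K, ∀ x ∈ M, k * x * k⁻¹ * x⁻¹ ∈ M₀) ∧ M₀.relIndex M ≤ p ^ 3 ∧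
      ∀ X : Subgroup G, M₀ ≤ X → X ≤ M → InvB B X → InvA A₁ X → InvA A₂ X → X = M₀ ∨ X = M := by
  classical
  obtain ⟨M, ⟨hM, hMK, t1, t2⟩, hmin⟩ := exists_minimal_of_wellFoundedLT
    (fun X : Subgroup G => Good p A₁ A₂ B X ∧ X ≤ K ∧ OTriv p A₁ K X ∧ OTriv p A₂ K X)
    ⟨K, hK, le_rfl,
      fun α hα _ x hx => K.mul_mem (K.inv_mem hx) (hK.inv₁ α (lgen_le h.s₁.cT_le hα) x hx),
      fun α hα _ x hx => K.mul_mem (K.inv_mem hx) (hK.inv₂ α (lgen_le h.s₂.cT_le hα) x hx)⟩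
  have hbot : Good p A₁ A₂ B (⊥ : Subgroup G) :=
    ⟨inferInstance, bot_le, bot_le,
      fun β _ x hx => by rw [Subgroup.mem_bot] at hx ⊢; rw [hx, map_one],
      fun α _ x hx => by
        rw [show x = 1 from Subtype.ext hx, map_one]
        exact one_mem _,
      fun α _ x hx => by
        rw [show x = 1 from Subtype.ext hx, map_one]
        exact one_mem _,
      h.s₁.moves, h.s₂.moves⟩
  have hMb : M ≠ ⊥ := fun e => hneg ⟨e ▸ t1, e ▸ t2⟩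
  obtain ⟨M₀, ⟨hM₀, hlt⟩, hmax⟩ := exists_maximal_of_wellFoundedGT
    (fun X : Subgroup G => Good p A₁ A₂ B X ∧ X < M) ⟨⊥, hbot, bot_lt_iff_ne_bot.2 hMb⟩
  have hirr : ∀ X : Subgroup G, M₀ ≤ X → X ≤ M → InvB B X → InvA A₁ X → InvA A₂ X →
      X = M₀ ∨ X = M := by
    intro X h0 h1 hb ha1 ha2
    rcases h1.lt_or_eq with hX | hX
    · exact Or.inl (le_antisymm (hmax ⟨⟨normal_of_invB h.inn hb, hX.le.trans hM.le₁,
        hX.le.trans hM.le₂, hb, ha1, ha2, moves_mono hM.moves₁ hX.le, moves_mono hM.moves₂ hX.le⟩,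
        hX⟩ h0) h0)
    · exact Or.inr hX
  have hneg' : ¬ (OTriv p A₁ M M₀ ∧ OTriv p A₂ M M₀) := by
    rintro ⟨a, b⟩
    exact hlt.not_ge (hmin ⟨hM₀, hlt.le.trans hMK,
      fun α hα hc => trivOn_trans h.pgrp hc hMK hlt.le hM₀.normal (t1 α hα hc) (a α hα hc),
      fun α hα hc => trivOn_trans h.pgrp hc hMK hlt.le hM₀.normal (t2 α hα hc) (b α hα hc)⟩ hlt.le)
  have := hM₀.normal
  have := hM.normal
  have hX0 : M₀ ≤ layerTop p K M M₀ := fun x hx => (mem_layerTop hMK).2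
    ⟨hlt.le hx, pow_mem hx p, fun k _ => M₀.mul_mem (hM₀.normal.conj_mem x hx k) (M₀.inv_mem hx)⟩
  set q := QuotientGroup.mk' M₀ with hq
  have hqs : Function.Surjective q := QuotientGroup.mk'_surjective M₀
  have : (M.map q).Normal := hM.normal.map q hqs
  have hMq : M.map q ≠ ⊥ := fun e => hlt.not_ge fun x hx =>
    (QuotientGroup.eq_one_iff x).1 (Subgroup.mem_bot.1 (e ▸ Subgroup.mem_map_of_mem q hx))
  have hpq : IsPGroup p (G ⧸ M₀) := h.pgrp.to_quotient M₀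
  have hne := Cfsg.Agent.PGroup.inf_center_ne_bot hpq (M.map q) hMq
  have hdvd : p ∣ Nat.card (M.map q ⊓ Subgroup.center (G ⧸ M₀) : Subgroup (G ⧸ M₀)) := by
    rcases (hpq.to_subgroup (M.map q ⊓ Subgroup.center (G ⧸ M₀))).card_eq_or_dvd with hc | hc
    · exact absurd (Subgroup.card_eq_one.1 hc) hne
    · exact hc
  obtain ⟨⟨y, hyM, hyc⟩, hy⟩ := exists_prime_orderOf_dvd_card' p hdvd
  replace hy : orderOf y = p := (Subgroup.orderOf_coe _).trans hy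
  obtain ⟨x, hxM, rfl⟩ := hyM
  have hxX : x ∈ layerTop p K M M₀ := by
    refine ⟨hxM, ⟨x, hMK hxM, rfl⟩, ?_, fun z _ => Subgroup.mem_center_iff.1 hyc z⟩
    exact hy ▸ pow_orderOf_eq_one (q x)
  have hx0 : x ∉ M₀ := fun hx => by
    rw [show q x = 1 from (QuotientGroup.eq_one_iff x).2 hx, orderOf_one] at hy
    exact (Fact.out : p.Prime).one_lt.ne hy
  have hXM : layerTop p K M M₀ = M := by
    refine (hirr _ hX0 inf_le_left (layerTop_invB hMK hK.invB hM.invB hM₀.invB)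
      (layerTop_invA hMK hK.le₁ hK.inv₁ hM.inv₁ hM₀.inv₁)
      (layerTop_invA hMK hK.le₂ hK.inv₂ hM.inv₂ hM₀.inv₂)).resolve_left ?_
    exact fun e => hx0 (e ▸ hxX)
  have hall : ∀ x ∈ M, x ^ p ∈ M₀ ∧ ∀ k ∈ K, k * x * k⁻¹ * x⁻¹ ∈ M₀ := fun y hy' =>
    ((mem_layerTop hMK).1 (hXM.symm ▸ hy')).2
  exact ⟨M, M₀, hM, hM₀, hlt, hMK, t1, t2, hneg', fun y hy' => (hall y hy').1,
    fun a ha b hb => (hall b hb).2 a (hMK ha), fun k hk y hy' => (hall y hy').2 k hk,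
    h.rank M M₀ hlt.le (fun a ha => (hall a ha).1) (fun a ha b hb => (hall b hb).2 a (hMK ha)),
    hirr⟩

end Cfsg.Agent.CharPair
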