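import Cfsg.Agent.CharPair.Tools

/-!
# quotient by a good subgroup (S5189)

Paper proof. A coprime lift is a power of any lift; Sylow subgroups map onto Sylow subgroups, so a
lift of an element normalising the Sylow subgroup of the quotient can be taken normalising the
Sylow subgroup upstairs (Frattini). A lift of `τ` centralises `G / E` because the quotient of `E`
contains its centraliser.
-/

set_option autoImplicit false
set_option linter.unusedSectionVars false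

open Cfsg.Agent.FusRankThree

namespace Cfsg.Agent.CharPair

universe u

variable {G : Type u} [Group G] [Finite G] {p : ℕ} [Fact p.Prime]

namespace Quot'

variable {E : Subgroup G} {A : Subgroup (MulAut E)} {B : Subgroup (MulAut G)} {K : Subgroup G}
  [K.Normal]

/-- The class of an element of `E` in the image of `E`. -/
def qe (K : Subgroup G) [K.Normal] {E : Subgroup G} (x : E) : E.map (QuotientGroup.mk' K) :=
  ⟨QuotientGroup.mk' K x, Subgroup.mem_map_of_mem _ x.2⟩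

theorem qe_surj (y : E.map (QuotientGroup.mk' K)) : ∃ x : E, qe K x = y := by
  obtain ⟨_, x, hx, rfl⟩ := y
  exact ⟨⟨x, hx⟩, rfl⟩

theorem qe_mul (x y : E) : qe K (x * y) = qe K x * qe K y :=
  Subtype.ext (map_mul (QuotientGroup.mk' K) (x : G) (y : G))

/-- `γ` is the automorphism of the image of `E` induced by `α`. -/
def QLift (K : Subgroup G) [K.Normal] {E : Subgroup G} (α : MulAut E)
    (γ : MulAut (E.map (QuotientGroup.mk' K))) : Prop :=
  ∀ x : E, ((γ (qe K x) : _) : G ⧸ K) = QuotientGroup.mk' K ((α x : E) : G)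

theorem mem_qA {L : Subgroup (MulAut E)} {γ : MulAut (E.map (QuotientGroup.mk' K))} :
    γ ∈ qA K L ↔ ∃ α ∈ L, QLift K α γ := Iff.rfl

variable {α β : MulAut E} {γ δ : MulAut (E.map (QuotientGroup.mk' K))}

theorem QLift.apply (h : QLift K α γ) (x : E) : γ (qe K x) = qe K (α x) := Subtype.ext (h x)

theorem QLift.unique (h : QLift K α γ) (k : QLift K α δ) : γ = δ :=
  MulEquiv.ext fun y => by
    obtain ⟨x, rfl⟩ := qe_surj y
    rw [h.apply, k.apply]

theorem QLift.one : QLift K (1 : MulAut E) 1 := fun _ => rfl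

theorem QLift.mul (h : QLift K α γ) (k : QLift K β δ) : QLift K (α * β) (γ * δ) := fun x => by
  rw [MulAut.mul_apply, MulAut.mul_apply, k.apply]
  exact h _

theorem QLift.inv (h : QLift K α γ) : QLift K α⁻¹ γ⁻¹ := fun x => by
  have h1 := h.apply (α⁻¹ x)
  rw [MulAut.apply_inv_self] at h1
  rw [← h1, MulAut.inv_apply_self]
  rfl

theorem QLift.pow (h : QLift K α γ) (n : ℕ) : QLift K (α ^ n) (γ ^ n) := by
  induction n with
  | zero => rw [pow_zero, pow_zero]; exact QLift.one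
  | succ m ih => rw [pow_succ, pow_succ]; exact ih.mul h

theorem QLift.order_dvd (h : QLift K α γ) : orderOf γ ∣ orderOf α := by
  refine orderOf_dvd_of_pow_eq_one ?_
  have h1 := h.pow (orderOf α)
  rw [pow_orderOf_eq_one] at h1
  exact h1.unique QLift.one

theorem exists_lift (hA : InvA A K) (hα : α ∈ A) :
    ∃ γ : MulAut (E.map (QuotientGroup.mk' K)), QLift K α γ := by
  have well : ∀ a ∈ A, ∀ x y : E, qe K x = qe K y → qe K (a x) = qe K (a y) := by
    intro a ha x y hxy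
    have h1 : (x : G)⁻¹ * y ∈ K := QuotientGroup.eq.1 (congrArg Subtype.val hxy)
    have h2 := hA a ha (x⁻¹ * y) h1
    rw [map_mul, map_inv] at h2
    exact Subtype.ext (QuotientGroup.eq.2 h2)
  choose f hf using qe_surj (K := K) (E := E)
  have spec : ∀ a ∈ A, ∀ x : E, qe K (a (f (qe K x))) = qe K (a x) := fun a ha x =>
    well a ha _ _ (hf _)
  refine ⟨{ toFun := fun y => qe K (α (f y))
            invFun := fun y => qe K (α⁻¹ (f y))
            left_inv := fun y => ?_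
            right_inv := fun y => ?_
            map_mul' := fun y z => ?_ }, fun x => congrArg Subtype.val (spec α hα x)⟩
  · show qe K (α⁻¹ (f (qe K (α (f y))))) = y
    rw [spec _ (A.inv_mem hα), MulAut.inv_apply_self, hf]
  · show qe K (α (f (qe K (α⁻¹ (f y))))) = y
    rw [spec _ hα, MulAut.apply_inv_self, hf]
  · show qe K (α (f (y * z))) = qe K (α (f y)) * qe K (α (f z))
    rw [← qe_mul, ← map_mul, ← spec α hα (f y * f z), qe_mul, hf, hf]

/-- The elements of `L` inducing an element of `Q`. -/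
def qpre (K : Subgroup G) [K.Normal] {E : Subgroup G} (L : Subgroup (MulAut E))
    (Q : Subgroup (MulAut (E.map (QuotientGroup.mk' K)))) : Subgroup (MulAut E) where
  carrier := {a | a ∈ L ∧ ∃ c ∈ Q, QLift K a c}
  one_mem' := ⟨L.one_mem, 1, Q.one_mem, QLift.one⟩
  mul_mem' := by
    rintro a b ⟨ha, c, hc, h⟩ ⟨hb, d, hd, k⟩
    exact ⟨L.mul_mem ha hb, c * d, Q.mul_mem hc hd, h.mul k⟩
  inv_mem' := by
    rintro a ⟨ha, c, hc, h⟩
    exact ⟨L.inv_mem ha, c⁻¹, Q.inv_mem hc, h.inv⟩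

theorem cT_up (hn : E.Normal) (hα : α ∈ cT E) (h : QLift K α γ) :
    γ ∈ cT (E.map (QuotientGroup.mk' K)) := by
  obtain ⟨g, hg⟩ := (mem_cT hn).1 hα
  refine (mem_cT (hn.map _ (QuotientGroup.mk'_surjective K))).2 ⟨QuotientGroup.mk' K g, fun y => ?_⟩
  obtain ⟨x, rfl⟩ := qe_surj y
  rw [h x, hg x, map_mul, map_mul, map_inv]
  rfl

theorem cT_down (hn : E.Normal) (hγ : γ ∈ cT (E.map (QuotientGroup.mk' K))) :
    ∃ c ∈ cT E, QLift K c γ := by
  obtain ⟨y, hy⟩ := (mem_cT (hn.map _ (QuotientGroup.mk'_surjective K))).1 hγ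
  obtain ⟨g, rfl⟩ := QuotientGroup.mk'_surjective K y
  have := hn
  have hc : ∀ x : E, (((MulAut.conjNormal g : MulAut E) x : E) : G) = g * x * g⁻¹ := fun x =>
    MulAut.conjNormal_apply g x
  refine ⟨MulAut.conjNormal g, (mem_cT hn).2 ⟨g, hc⟩, fun x => ?_⟩
  rw [hy, hc, map_mul, map_mul, map_inv]
  rfl

theorem lgen_up (hn : E.Normal) (hT : cT E ≤ A) (hA : InvA A K) (hα : α ∈ Lgen A)
    (h : QLift K α γ) : γ ∈ Lgen (qA K A) := by
  have h1 : Lgen A ≤ qpre K A (Lgen (qA K A)) := by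
    refine (Subgroup.closure_le _).2 ?_
    rintro _ ⟨a, ha, c, hc, rfl⟩
    obtain ⟨a', ha'⟩ := exists_lift hA ha
    obtain ⟨c', hc'⟩ := exists_lift hA (hT hc)
    exact ⟨A.mul_mem (A.mul_mem ha (hT hc)) (A.inv_mem ha), a' * c' * a'⁻¹,
      Subgroup.subset_closure ⟨a', ⟨a, ha, ha'⟩, c', cT_up hn hc hc', rfl⟩,
      (ha'.mul hc').mul ha'.inv⟩
  obtain ⟨-, c, hc, hl⟩ := h1 hα
  rwa [h.unique hl]

theorem lgen_down (hn : E.Normal) (hγ : γ ∈ Lgen (qA K A)) : ∃ l ∈ Lgen A, QLift K l γ := by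
  have h1 : Lgen (qA K A) ≤ qA K (Lgen A) := by
    refine (Subgroup.closure_le _).2 ?_
    rintro _ ⟨a', ⟨a, ha, hla⟩, c', hc', rfl⟩
    have hla' : QLift K a a' := hla
    obtain ⟨c, hc, hlc⟩ := cT_down hn hc'
    exact ⟨a * c * a⁻¹, Subgroup.subset_closure ⟨a, ha, c, hc, rfl⟩,
      (hla'.mul hlc).mul hla'.inv⟩
  exact h1 hγ

theorem exists_pow_coprime {M N : Type*} [Group M] [Finite M] [Monoid N] (a : M) (b : N)
    (hb : (orderOf b).Coprime p) : ∃ k : ℕ, b ^ k = b ∧ (orderOf (a ^ k)).Coprime p := by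
  have hp : p.Prime := Fact.out
  obtain ⟨e, m, hm, hn⟩ :=
    Nat.exists_eq_pow_mul_and_not_dvd (orderOf_pos a).ne' p hp.ne_one
  obtain ⟨j, hj⟩ := exists_pow_eq_self_of_coprime (hb.symm.pow_left e)
  refine ⟨p ^ e * j, by rw [pow_mul]; exact hj, ?_⟩
  refine Nat.Coprime.coprime_dvd_left ?_ ((hp.coprime_iff_not_dvd.2 hm).symm)
  refine orderOf_dvd_of_pow_eq_one ?_
  rw [← pow_mul, show p ^ e * j * m = (p ^ e * m) * j by ring, ← hn, pow_mul, pow_orderOf_eq_one,
    one_pow]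

theorem exists_pow_pgroup {M N : Type*} [Group M] [Finite M] [Monoid N] (a : M) (b : N) {s : ℕ}
    (hb : b ^ p ^ s = 1) : ∃ k : ℕ, b ^ k = b ∧ IsPGroup p (Subgroup.zpowers (a ^ k)) := by
  have hp : p.Prime := Fact.out
  obtain ⟨e, m, hm, hn⟩ :=
    Nat.exists_eq_pow_mul_and_not_dvd (orderOf_pos a).ne' p hp.ne_one
  have hc : m.Coprime (orderOf b) :=
    Nat.Coprime.coprime_dvd_right (orderOf_dvd_of_pow_eq_one hb)
      ((hp.coprime_iff_not_dvd.2 hm).symm.pow_right s)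
  obtain ⟨j, hj⟩ := exists_pow_eq_self_of_coprime hc
  refine ⟨m * j, by rw [pow_mul]; exact hj, ?_⟩
  rintro ⟨x, hx⟩
  obtain ⟨z, rfl⟩ := Subgroup.mem_zpowers_iff.1 hx
  refine ⟨e, Subtype.ext ?_⟩
  show ((a ^ (m * j)) ^ z) ^ p ^ e = 1
  have h1 : (a ^ (m * j)) ^ p ^ e = 1 := by
    rw [← pow_mul, show m * j * p ^ e = (p ^ e * m) * j by ring, ← hn, pow_mul, pow_orderOf_eq_one,
      one_pow]
  rw [← zpow_natCast, ← zpow_mul, mul_comm z, zpow_mul, zpow_natCast, h1, one_zpow]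

theorem exists_sylow (s : Side p E A B) (hG : IsPGroup p G) {H : Subgroup (MulAut E)} (hH : H ≤ A)
    (hT : cT E ≤ H) : ∃ S : Sylow p H, ∀ x : H, x ∈ S ↔ (x : MulAut E) ∈ cT E := by
  obtain ⟨S, hS⟩ := ((cT_isPGroup hG).comap_of_injective H.subtype H.subtype_injective :
    IsPGroup p ((cT E).comap H.subtype)).exists_le_sylow
  refine ⟨S, fun x => ⟨fun hx => ?_, fun hx => hS hx⟩⟩
  refine s.syl ((S : Subgroup H).map H.subtype) ?_ (S.isPGroup'.map H.subtype) ?_ ⟨x, hx, rfl⟩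
  · rintro _ ⟨y, -, rfl⟩
    exact hH y.2
  · intro c hc
    exact ⟨⟨c, hT hc⟩, hS hc, rfl⟩

theorem cT_le_pre (s : Side p E A B) (hA : InvA A K) {L : Subgroup (MulAut E)} (hL : cT E ≤ L)
    {Q : Subgroup (MulAut (E.map (QuotientGroup.mk' K)))}
    (hQ : cT (E.map (QuotientGroup.mk' K)) ≤ Q) : cT E ≤ qpre K L Q := fun c hc => by
  obtain ⟨c', hc'⟩ := exists_lift hA (s.cT_le hc)
  exact ⟨hL hc, c', hQ (cT_up s.normal hc hc'), hc'⟩

theorem quot_syl (s : Side p E A B) (hG : IsPGroup p G) (hA : InvA A K)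
    {P : Subgroup (MulAut (E.map (QuotientGroup.mk' K)))} (hP : P ≤ qA K A) (hp : IsPGroup p P)
    (hT : cT (E.map (QuotientGroup.mk' K)) ≤ P) :
    P ≤ cT (E.map (QuotientGroup.mk' K)) := by
  obtain ⟨S, hS⟩ := exists_sylow s hG (H := qpre K A P) (fun _ h => h.1)
    (cT_le_pre s hA s.cT_le hT)
  let f : qpre K A P →* P := MonoidHom.mk'
    (fun x => ⟨x.2.2.choose, x.2.2.choose_spec.1⟩) (fun x y => Subtype.ext
      ((x * y).2.2.choose_spec.2.unique (x.2.2.choose_spec.2.mul y.2.2.choose_spec.2)))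
  have hf : Function.Surjective f := by
    rintro ⟨c, hc⟩
    obtain ⟨a, ha, hl⟩ := hP hc
    have hl' : QLift K a c := hl
    let x : qpre K A P := ⟨a, ha, c, hc, hl'⟩
    exact ⟨x, Subtype.ext (x.2.2.choose_spec.2.unique hl')⟩
  intro c hc
  have h1 : (⊤ : Subgroup P) = (S.mapSurjective hf : Subgroup P) :=
    (S.mapSurjective hf).is_maximal' (hp.to_subgroup ⊤) le_top
  have h2 : (⟨c, hc⟩ : P) ∈ (S.mapSurjective hf : Subgroup P) := h1 ▸ Subgroup.mem_top _
  rw [Sylow.coe_mapSurjective] at h2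
  obtain ⟨x, hx, hxc⟩ := h2
  have h3 := cT_up s.normal ((hS x).1 hx) x.2.2.choose_spec.2
  have h4 : (f x : MulAut (E.map (QuotientGroup.mk' K))) = c := congrArg Subtype.val hxc
  exact h4 ▸ h3

theorem frattini_lift (s : Side p E A B) (hG : IsPGroup p G) (hA : InvA A K)
    {L : Subgroup (MulAut E)} (hLA : L ≤ A) (hTL : cT E ≤ L) (hα : α ∈ L) (h : QLift K α γ)
    (hγ : ∀ c ∈ cT (E.map (QuotientGroup.mk' K)),
      γ * c * γ⁻¹ ∈ cT (E.map (QuotientGroup.mk' K))) :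
    ∃ a ∈ L, QLift K a γ ∧ ∀ c ∈ cT E, a * c * a⁻¹ ∈ cT E := by
  have hTH := cT_le_pre s hA hTL (le_refl (cT (E.map (QuotientGroup.mk' K))))
  obtain ⟨S, hS⟩ := exists_sylow s hG (H := qpre K L (cT (E.map (QuotientGroup.mk' K))))
    (fun _ hx => hLA hx.1) hTH
  obtain ⟨S₂, hS₂⟩ := (((cT_isPGroup hG).map (MulAut.conj α).toMonoidHom).comap_of_injective
    (qpre K L (cT (E.map (QuotientGroup.mk' K)))).subtype Subtype.val_injective).exists_le_sylow
  obtain ⟨w, hw⟩ := MulAction.exists_smul_eq (qpre K L (cT (E.map (QuotientGroup.mk' K)))) S S₂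
  obtain ⟨hwL, d, hd, hwd⟩ := w.2
  obtain ⟨c₀, hc₀, hl₀⟩ := cT_down s.normal hd
  refine ⟨c₀ * ((w : MulAut E)⁻¹ * α), L.mul_mem (hTL hc₀) (L.mul_mem (L.inv_mem hwL) hα), ?_,
    fun c hc => ?_⟩
  · have h1 := hl₀.mul (hwd.inv.mul h)
    rwa [mul_inv_cancel_left] at h1
  · obtain ⟨-, c', hc', hlc⟩ := hTH hc
    have hy : α * c * α⁻¹ ∈ qpre K L (cT (E.map (QuotientGroup.mk' K))) :=
      ⟨L.mul_mem (L.mul_mem hα (hTL hc)) (L.inv_mem hα), _, hγ c' hc', (h.mul hlc).mul h.inv⟩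
    have h2 : (⟨α * c * α⁻¹, hy⟩ : qpre K L (cT (E.map (QuotientGroup.mk' K)))) ∈
        (S₂ : Subgroup _) := hS₂ ⟨c, hc, rfl⟩
    rw [← hw, Sylow.coe_subgroup_smul, Subgroup.mem_smul_pointwise_iff_exists] at h2
    obtain ⟨x, hx, hxy⟩ := h2
    have h3 : (w : MulAut E) * (x : MulAut E) * (w : MulAut E)⁻¹ = α * c * α⁻¹ :=
      congrArg Subtype.val hxy
    have h4 : c₀ * ((w : MulAut E)⁻¹ * α) * c * (c₀ * ((w : MulAut E)⁻¹ * α))⁻¹ =
        c₀ * ((w : MulAut E)⁻¹ * (α * c * α⁻¹) * (w : MulAut E)) * c₀⁻¹ := by group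
    rw [h4, ← h3]
    have h5 : c₀ * ((w : MulAut E)⁻¹ * ((w : MulAut E) * (x : MulAut E) * (w : MulAut E)⁻¹) *
        (w : MulAut E)) * c₀⁻¹ = c₀ * (x : MulAut E) * c₀⁻¹ := by group
    rw [h5]
    exact mul_mem (mul_mem hc₀ ((hS x).1 hx)) (inv_mem hc₀)

theorem exists_liftB (hB : InvB B K) {b : MulAut G} (hb : b ∈ B) :
    ∃ c ∈ qB K B, ∀ g : G, c (QuotientGroup.mk' K g) = QuotientGroup.mk' K (b g) := by
  have he : K.map (b : G ≃* G).toMonoidHom = K := by
    refine le_antisymm ?_ fun k hk => ⟨b⁻¹ k, hB _ (B.inv_mem hb) k hk, MulAut.apply_inv_self _ b k⟩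
    rintro _ ⟨k, hk, rfl⟩
    exact hB b hb k hk
  exact ⟨QuotientGroup.congr K K b he, ⟨b, hb, fun g => rfl⟩, fun g => rfl⟩

theorem mem_map_iff (hK : K ≤ E) {x : G} :
    QuotientGroup.mk' K x ∈ E.map (QuotientGroup.mk' K) ↔ x ∈ E := by
  rw [← Subgroup.mem_comap, Subgroup.comap_map_eq, QuotientGroup.ker_mk', sup_of_le_left hK]

theorem comap_map (hK : K ≤ E) :
    (E.map (QuotientGroup.mk' K)).comap (QuotientGroup.mk' K) = E :=
  Subgroup.ext fun _ => mem_map_iff hK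

theorem comap_bot' :
    (⊥ : Subgroup (G ⧸ K)).comap (QuotientGroup.mk' K) = K := by
  rw [MonoidHom.comap_bot, QuotientGroup.ker_mk']

theorem moves_comap (hn : E.Normal) {X : Subgroup (G ⧸ K)}
    (h : Moves p (qA K A) X) : Moves p A (X.comap (QuotientGroup.mk' K)) := by
  intro ho
  refine h fun c hc hcop y _ => ?_
  obtain ⟨l, hl, hlc⟩ := lgen_down hn hc
  obtain ⟨k, hk, hkc⟩ := exists_pow_coprime (p := p) l c hcop
  obtain ⟨x, rfl⟩ := qe_surj y
  have h1 := ho (l ^ k) (Subgroup.pow_mem _ hl k) hkc x x.2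
  have h2 := (hlc.pow k) x
  rw [hk] at h2
  rw [h2]
  have h3 : (QuotientGroup.mk' K (x : G))⁻¹ * QuotientGroup.mk' K (((l ^ k) x : E) : G) ∈ X := by
    rw [← map_inv, ← map_mul]
    exact h1
  exact h3

theorem side_quot (s : Side p E A B) (hG : IsPGroup p G) (hK : K ≤ E) (hA : InvA A K)
    (hB : InvB B K) (hm : Moves p A K) :
    Side p (E.map (QuotientGroup.mk' K)) (qA K A) (qB K B) where
  normal := s.normal.map _ (QuotientGroup.mk'_surjective K)
  index := by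
    rw [← Subgroup.index_comap_of_surjective _ (QuotientGroup.mk'_surjective K), comap_map hK,
      s.index]
  cT_le := fun c hc => by
    obtain ⟨a, ha, h⟩ := cT_down s.normal hc
    exact ⟨a, s.cT_le ha, h⟩
  syl := fun P hP hp hT => quot_syl s hG hA hP hp hT
  ext := by
    rintro c ⟨a, ha, hl⟩ hc
    have hl' : QLift K a c := hl
    obtain ⟨a', ha', hl'', hN⟩ := frattini_lift s hG hA le_rfl s.cT_le ha hl' hc
    obtain ⟨b, hb, hbe⟩ := s.ext a' ha' hN
    obtain ⟨c', hc', hbc⟩ := exists_liftB hB hb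
    refine ⟨c', hc', fun y => ?_⟩
    obtain ⟨x, rfl⟩ := qe_surj y
    rw [hl'' x, ← hbe x]
    exact hbc _
  moves := by
    intro ho
    refine hm fun a ha hcop x _ => ?_
    have hT' : Lgen A ≤ A := lgen_le s.cT_le
    obtain ⟨c, hl⟩ := exists_lift hA (hT' ha)
    have h1 := ho c (lgen_up s.normal s.cT_le hA ha hl) (hcop.coprime_dvd_left hl.order_dvd)
      (qe K x) (qe K x).2
    rw [hl x] at h1
    have h2 : QuotientGroup.mk' K ((x : G)⁻¹ * ((a x : E) : G)) = 1 := by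
      rw [map_mul, map_inv]
      exact h1
    exact (QuotientGroup.eq_one_iff _).1 h2

theorem restricts_quot (r : Restricts A B) (hA : InvA A K) : Restricts (qA K A) (qB K B) := by
  rintro c ⟨b, hb, hl⟩
  obtain ⟨a, ha, hab⟩ := r b hb
  obtain ⟨a', ha'⟩ := exists_lift hA ha
  refine ⟨a', ⟨a, ha, ha'⟩, fun y => ?_⟩
  obtain ⟨x, rfl⟩ := qe_surj y
  rw [ha' x, hab x, ← hl]
  rfl

theorem irred_comap (hK : K ≤ E) {C : Subgroup (G ⧸ K)}
    (hir : ∀ X : Subgroup (G ⧸ K), C ≤ X → X ≤ E.map (QuotientGroup.mk' K) →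
      InvA (qA K A) X → X = C ∨ X = E.map (QuotientGroup.mk' K)) :
    ∀ X : Subgroup G, C.comap (QuotientGroup.mk' K) ≤ X → X ≤ E → InvA A X →
      X = C.comap (QuotientGroup.mk' K) ∨ X = E := by
  intro X hCX hXE hXi
  have h1 : K ≤ X := by
    intro k hk
    refine hCX ?_
    rw [Subgroup.mem_comap, show QuotientGroup.mk' K k = 1 from
      (QuotientGroup.eq_one_iff k).2 hk]
    exact one_mem C
  have h2 : (X.map (QuotientGroup.mk' K)).comap (QuotientGroup.mk' K) = X := comap_map h1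
  have h3 : C ≤ X.map (QuotientGroup.mk' K) := by
    rw [← Subgroup.map_comap_eq_self_of_surjective (QuotientGroup.mk'_surjective K) C]
    exact Subgroup.map_mono hCX
  have h4 : InvA (qA K A) (X.map (QuotientGroup.mk' K)) := by
    rintro c ⟨a, ha, hl⟩ y ⟨x, hx, hxy⟩
    have hy : qe K ⟨x, hXE hx⟩ = y := Subtype.ext hxy
    rw [← hy]
    have hl' : QLift K a c := hl
    rw [hl']
    exact Subgroup.mem_map_of_mem _ (hXi a ha ⟨x, hXE hx⟩ hx)
  rcases hir _ h3 (Subgroup.map_mono hXE) h4 with h5 | h5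
  · exact Or.inl (by rw [← h5, h2])
  · refine Or.inr ?_
    rw [← h2, h5, comap_map hK]

theorem invA_comap (hA : InvA A K) {X : Subgroup (G ⧸ K)} (h : InvA (qA K A) X) :
    InvA A (X.comap (QuotientGroup.mk' K)) := by
  intro a ha x hx
  obtain ⟨c, hc⟩ := exists_lift hA ha
  have h1 := h c ⟨a, ha, hc⟩ (qe K x) hx
  rwa [hc x] at h1

theorem invB_comap (hB : InvB B K) {X : Subgroup (G ⧸ K)} (h : InvB (qB K B) X) :
    InvB B (X.comap (QuotientGroup.mk' K)) := by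
  intro b hb x hx
  obtain ⟨c, hc, hl⟩ := exists_liftB hB hb
  have h1 := h c hc _ hx
  rwa [hl x] at h1

theorem plane_comap (s : Side p E A B) (hG : IsPGroup p G) (hK : K ≤ E) (hA : InvA A K)
    (hB : InvB B K) (hm : Moves p A K) {C : Subgroup (G ⧸ K)} {t : MulAut (G ⧸ K)}
    (hP : Plane p (E.map (QuotientGroup.mk' K)) (qA K A) (qB K B) C t) :
    ∃ τ, Plane p E A B (C.comap (QuotientGroup.mk' K)) τ ∧
      ∀ x ∈ E, QuotientGroup.mk' K (τ x) = t (QuotientGroup.mk' K x) := by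
  obtain ⟨c, hc, hct⟩ := hP.tau.lgen
  have hcop : (orderOf c).Coprime p := by
    refine hP.tau.cop.coprime_dvd_left (orderOf_dvd_of_pow_eq_one ?_)
    have h1 : ∀ (n : ℕ) (y : E.map (QuotientGroup.mk' K)),
        ((c ^ n) y : G ⧸ K) = (t ^ n) (y : G ⧸ K) := by
      intro n
      induction n with
      | zero => intro y; rw [pow_zero, pow_zero]; rfl
      | succ m ih => intro y; rw [pow_succ, pow_succ, MulAut.mul_apply, MulAut.mul_apply, ih, hct]
    refine MulEquiv.ext fun y => Subtype.ext ?_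
    rw [h1, pow_orderOf_eq_one]
    rfl
  have hN : ∀ d ∈ cT (E.map (QuotientGroup.mk' K)),
      c * d * c⁻¹ ∈ cT (E.map (QuotientGroup.mk' K)) := by
    intro d hd
    have hn := s.normal.map _ (QuotientGroup.mk'_surjective K)
    obtain ⟨v, hv⟩ := (mem_cT hn).1 hd
    refine (mem_cT hn).2 ⟨t v, fun y => ?_⟩
    rw [MulAut.mul_apply, MulAut.mul_apply, hct, hv, map_mul, map_mul, map_inv, ← hct,
      MulAut.apply_inv_self]
  obtain ⟨l₀, hl₀, hll₀⟩ := lgen_down s.normal hc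
  obtain ⟨l, hl, hlc, hlN⟩ :=
    frattini_lift s hG hA (lgen_le s.cT_le) cT_le_lgen hl₀ hll₀ hN
  obtain ⟨b, hb, hbe⟩ := s.ext l (lgen_le s.cT_le hl) hlN
  obtain ⟨k, hk, hkc⟩ := exists_pow_coprime (p := p) b c hcop
  have hres : ∀ (n : ℕ) (x : E), ((((l ^ n) x : E)) : G) = (b ^ n) (x : G) := by
    intro n
    induction n with
    | zero => intro x; rw [pow_zero, pow_zero]; rfl
    | succ m ih => intro x; rw [pow_succ, pow_succ, MulAut.mul_apply, MulAut.mul_apply, ih, hbe]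
  have hlift : QLift K (l ^ k) c := by
    have h1 := hlc.pow k
    rwa [hk] at h1
  have hmk : ∀ x ∈ E, QuotientGroup.mk' K ((b ^ k) x) = t (QuotientGroup.mk' K x) := by
    intro x hx
    rw [← hres k ⟨x, hx⟩, ← hlift ⟨x, hx⟩, hct]
    rfl
  have hq := side_quot s hG hK hA hB hm
  have hcent := hq.centric (hG.to_quotient K)
  refine ⟨b ^ k, ⟨hP.normal.comap _, ?_, ?_, invA_comap hA hP.inv, invB_comap hB hP.invB,
    irred_comap hK hP.irred, ⟨B.pow_mem hb k, hkc, ⟨l ^ k, Subgroup.pow_mem _ hl k, hres k⟩,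
      fun g => ?_, fun x hx => ?_⟩⟩, hmk⟩
  · exact (Subgroup.comap_mono hP.le).trans (comap_map hK).le
  · rw [Subgroup.relIndex_comap]
    exact hP.index
  · -- the lift centralises `G / E`
    have h1 : (QuotientGroup.mk' K ((b ^ k) g))⁻¹ * t (QuotientGroup.mk' K g) ∈
        E.map (QuotientGroup.mk' K) := by
      refine hcent (Subgroup.mem_centralizer_iff.2 fun y hy => ?_)
      obtain ⟨x, hx, rfl⟩ :=
        (show y ∈ E.map (QuotientGroup.mk' K) from hy)
      obtain ⟨z, hz⟩ : ∃ z : E, ((l ^ k) z : E) = ⟨x, hx⟩ := (l ^ k).surjective _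
      have hzv : (b ^ k) (z : G) = x := by rw [← hres k z, hz]
      have h2 := hmk _ (s.normal.conj_mem (z : G) z.2 g)
      have h3 := hmk _ z.2
      rw [hzv] at h3
      rw [map_mul (b ^ k), map_mul (b ^ k), map_inv (b ^ k), hzv] at h2
      simp only [map_mul, map_inv, ← h3] at h2
      -- `u y u⁻¹ = w y w⁻¹`
      generalize QuotientGroup.mk' K ((b ^ k) g) = u at h2 ⊢
      generalize t (QuotientGroup.mk' K g) = w at h2 ⊢
      generalize QuotientGroup.mk' K x = y at h2 ⊢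
      calc y * (u⁻¹ * w) = u⁻¹ * (u * y * u⁻¹) * w := by group
        _ = u⁻¹ * (w * y * w⁻¹) * w := by rw [h2]
        _ = u⁻¹ * w * y := by group
    have h2 := mul_mem (hP.tau.quot (QuotientGroup.mk' K g)) (inv_mem h1)
    refine (mem_map_iff hK).1 ?_
    rw [map_mul, map_inv]
    simpa [mul_assoc] using h2
  · rw [Subgroup.mem_comap, map_mul, hmk x hx]
    exact hP.tau.neg _ (Subgroup.mem_map_of_mem _ hx)

end Quot'

open Quot'

variable {E₁ E₂ : Subgroup G} {A₁ : Subgroup (MulAut E₁)} {A₂ : Subgroup (MulAut E₂)}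
  {B : Subgroup (MulAut G)}

theorem pair_quot (h : Pair p E₁ E₂ A₁ A₂ B) {K : Subgroup G} (hK : Good p A₁ A₂ B K) [K.Normal] :
    Pair p (E₁.map (QuotientGroup.mk' K)) (E₂.map (QuotientGroup.mk' K))
      (qA K A₁) (qA K A₂) (qB K B) where
  pgrp := h.pgrp.to_quotient K
  odd := h.odd
  rank := by
    intro H R hRH hpow hcomm
    have h1 := h.rank (H.comap (QuotientGroup.mk' K)) (R.comap (QuotientGroup.mk' K))
      (Subgroup.comap_mono hRH) (fun a ha => ?_) (fun a ha b hb => ?_)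
    · rwa [Subgroup.relIndex_comap, Subgroup.map_comap_eq_self_of_surjective
        (QuotientGroup.mk'_surjective K)] at h1
    · rw [Subgroup.mem_comap, map_pow]
      exact hpow _ ha
    · rw [Subgroup.mem_comap]
      simp only [map_mul, map_inv]
      exact hcomm _ ha _ hb
  ne := fun he => h.ne (by rw [← comap_map hK.le₁, he, comap_map hK.le₂])
  s₁ := side_quot h.s₁ h.pgrp hK.le₁ hK.inv₁ hK.invB hK.moves₁
  s₂ := side_quot h.s₂ h.pgrp hK.le₂ hK.inv₂ hK.invB hK.moves₂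
  r₁ := restricts_quot h.r₁ hK.inv₁
  r₂ := restricts_quot h.r₂ hK.inv₂
  inn := by
    rintro _ ⟨y, rfl⟩
    obtain ⟨g, rfl⟩ := QuotientGroup.mk'_surjective K y
    refine ⟨MulAut.conj g, h.inn ⟨g, rfl⟩, fun x => ?_⟩
    simp [MulAut.conj_apply]
  bsyl := by
    intro P hP hp c hc
    obtain ⟨b, hb, hl⟩ := hP hc
    obtain ⟨s, hs⟩ := hp ⟨c, hc⟩
    have hs' : c ^ p ^ s = 1 := congrArg Subtype.val hs
    obtain ⟨k, hk, hkp⟩ := exists_pow_pgroup (p := p) b c hs'
    obtain ⟨g, hg⟩ := h.bsyl _ (Subgroup.zpowers_le.2 (B.pow_mem hb k)) hkp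
      (Subgroup.mem_zpowers _)
    have h1 : ∀ (n : ℕ) (x : G),
        (c ^ n) (QuotientGroup.mk' K x) = QuotientGroup.mk' K ((b ^ n) x) := by
      intro n
      induction n with
      | zero => intro x; rw [pow_zero, pow_zero]; rfl
      | succ m ih => intro x; rw [pow_succ, pow_succ, MulAut.mul_apply, MulAut.mul_apply, hl, ih]
    refine ⟨QuotientGroup.mk' K g, MulEquiv.ext fun y => ?_⟩
    obtain ⟨x, rfl⟩ := QuotientGroup.mk'_surjective K y
    rw [← hk, h1, ← hg, MulAut.conj_apply, MulAut.conj_apply, map_mul, map_mul, map_inv]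

theorem good_comap (h : Pair p E₁ E₂ A₁ A₂ B) {K : Subgroup G} (hK : Good p A₁ A₂ B K) [K.Normal]
    {X : Subgroup (G ⧸ K)} (hX : Good p (qA K A₁) (qA K A₂) (qB K B) X) :
    Good p A₁ A₂ B (X.comap (QuotientGroup.mk' K)) where
  normal := hX.normal.comap _
  le₁ := (Subgroup.comap_mono hX.le₁).trans (comap_map hK.le₁).le
  le₂ := (Subgroup.comap_mono hX.le₂).trans (comap_map hK.le₂).le
  invB := invB_comap hK.invB hX.invB
  inv₁ := invA_comap hK.inv₁ hX.inv₁
  inv₂ := invA_comap hK.inv₂ hX.inv₂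
  moves₁ := moves_comap h.s₁.normal hX.moves₁
  moves₂ := moves_comap h.s₂.normal hX.moves₂

theorem heisOver_of_quot (h : Pair p E₁ E₂ A₁ A₂ B) {K : Subgroup G} (hK : Good p A₁ A₂ B K)
    [K.Normal] (hX : HeisOver p (qA K A₁) (qA K A₂) (qB K B) (⊥ : Subgroup (G ⧸ K))) :
    HeisOver p A₁ A₂ B K := by
  refine ⟨?_, ?_, ?_, ?_⟩
  · have h1 := hX.index
    rwa [← Subgroup.index_comap_of_surjective _ (QuotientGroup.mk'_surjective K),
      comap_bot'] at h1
  · obtain ⟨a', b', hab⟩ := hX.noncomm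
    obtain ⟨a, rfl⟩ := QuotientGroup.mk'_surjective K a'
    obtain ⟨b, rfl⟩ := QuotientGroup.mk'_surjective K b'
    refine ⟨a, b, fun hmem => hab ?_⟩
    simp only [Subgroup.mem_bot, ← map_inv, ← map_mul]
    exact (QuotientGroup.eq_one_iff _).2 hmem
  · obtain ⟨t, ht⟩ := hX.plane₁
    obtain ⟨τ, hτ, -⟩ := plane_comap h.s₁ h.pgrp hK.le₁ hK.inv₁ hK.invB hK.moves₁ ht
    rw [comap_bot'] at hτ
    exact ⟨τ, hτ⟩
  · obtain ⟨t, ht⟩ := hX.plane₂
    obtain ⟨τ, hτ, -⟩ := plane_comap h.s₂ h.pgrp hK.le₂ hK.inv₂ hK.invB hK.moves₂ ht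
    rw [comap_bot'] at hτ
    exact ⟨τ, hτ⟩

theorem spOver_of_quot (h : Pair p E₁ E₂ A₁ A₂ B) {K : Subgroup G} (hK : Good p A₁ A₂ B K)
    [K.Normal] (hX : SpOver p (qA K A₁) (qA K A₂) (qB K B) (⊥ : Subgroup (G ⧸ K))) :
    SpOver p A₁ A₂ B K := by
  obtain ⟨C, t, hP, -, hC₂, hCc, hcen, hfix, a', ha', b', hb', hab⟩ := hX.plane
  obtain ⟨τ, hτ, hmk⟩ := plane_comap h.s₁ h.pgrp hK.le₁ hK.inv₁ hK.invB hK.moves₁ hP
  have hbot : ∀ x : G, QuotientGroup.mk' K x ∈ (⊥ : Subgroup (G ⧸ K)) ↔ x ∈ K := fun x =>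
    Subgroup.mem_bot.trans (QuotientGroup.eq_one_iff x)
  refine ⟨?_, ⟨C.comap (QuotientGroup.mk' K), τ, hτ, ?_, ?_, ?_, ?_, ?_, ?_⟩, ?_, ⟨?_, ?_⟩, ?_⟩
  · have h1 := hX.index
    rwa [← Subgroup.index_comap_of_surjective _ (QuotientGroup.mk'_surjective K),
      comap_bot'] at h1
  · intro x hx
    rw [Subgroup.mem_comap, show QuotientGroup.mk' K x = 1 from
      (QuotientGroup.eq_one_iff x).2 hx]
    exact one_mem C
  · exact (Subgroup.comap_mono hC₂).trans (comap_map hK.le₂).le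
  · have h1 := Subgroup.relIndex_comap (⊥ : Subgroup (G ⧸ K)) (QuotientGroup.mk' K)
      (C.comap (QuotientGroup.mk' K))
    rw [comap_bot', Subgroup.map_comap_eq_self_of_surjective (QuotientGroup.mk'_surjective K),
      hCc] at h1
    exact h1
  · intro g c hc
    refine (hbot _).1 ?_
    simp only [map_mul, map_inv]
    exact hcen _ _ hc
  · intro c hc
    refine (hbot _).1 ?_
    rw [map_mul, map_inv, hmk c (hτ.le hc)]
    exact hfix _ hc
  · obtain ⟨a, ha, rfl⟩ := ha'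
    obtain ⟨b, rfl⟩ := QuotientGroup.mk'_surjective K b'
    refine ⟨a, ha, b, ⟨(mem_map_iff hK.le₁).1 hb'.1, (mem_map_iff hK.le₂).1 hb'.2⟩,
      fun hmem => hab ?_⟩
    have h1 := (hbot _).2 hmem
    simp only [map_mul, map_inv] at h1
    exact h1
  · intro x hx
    refine (hbot _).1 ?_
    rw [map_pow]
    exact hX.exp₁ _ (Subgroup.mem_map_of_mem _ hx)
  · intro x hx
    refine (hbot _).1 ?_
    rw [map_pow]
    exact hX.elem₂.1 _ (Subgroup.mem_map_of_mem _ hx)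
  · intro x hx y hy
    refine (hbot _).1 ?_
    simp only [map_mul, map_inv]
    exact hX.elem₂.2 _ (Subgroup.mem_map_of_mem _ hx) _ (Subgroup.mem_map_of_mem _ hy)
  · have h1 := irred_comap hK.le₂ (C := (⊥ : Subgroup (G ⧸ K))) hX.irred₂
    rwa [comap_bot'] at h1

end Cfsg.Agent.CharPair
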