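import Cfsg.Agent.CharPair.TransvLin
import Cfsg.Agent.H59.SpFourSylow
import Cfsg.Agent.IsoRankTwo.MaxClass
import Cfsg.Prelude.Def_Transfer

/-!
# the symplectic Sylow subgroup (S5189)

Modulo nothing: `E₁` is nonabelian of order `p³` and exponent `p`, hence extraspecial, and an
element `a` of `E₁` outside the elementary subgroup `E₂` has a nonzero double commutator on `E₂`:
otherwise it centralises a hyperplane of `E₂` that is normal in the group, and `exists_core_sq`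
contradicts the irreducibility of `A₂` on `E₂`.
-/

set_option autoImplicit false

open Cfsg.Agent.FusRankThree

namespace Cfsg.Agent.CharPair

universe u

variable {G : Type u} [Group G] [Finite G] {p : ℕ} [Fact p.Prime] {E₁ E₂ : Subgroup G}
  {A₁ : Subgroup (MulAut E₁)} {A₂ : Subgroup (MulAut E₂)} {B : Subgroup (MulAut G)}

omit [Fact p.Prime] [Finite G] in
private theorem card_side {E : Subgroup G} {A : Subgroup (MulAut E)} {B : Subgroup (MulAut G)}
    (s : Side p E A B) (hp : p ≠ 0) (hG : Nat.card G = p ^ 4) : Nat.card E = p ^ 3 := by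
  have h := E.card_mul_index
  rw [s.index, hG, pow_succ] at h
  exact Nat.eq_of_mul_eq_mul_right (Nat.pos_of_ne_zero hp) h

/-- An element centralising a hyperplane of `E` contradicts irreducibility on `E`. -/
private theorem no_quadratic {E : Subgroup G} {A : Subgroup (MulAut E)} (hG : IsPGroup p G)
    (hodd : Odd p) (hr : RankThree p G) (s : Side p E A B) (hE : Nat.card E = p ^ 3)
    (hirr : ∀ X : Subgroup G, (⊥ : Subgroup G) ≤ X → X ≤ E → InvA A X → X = ⊥ ∨ X = E)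
    {D : Subgroup G} (hDn : D.Normal) (hDE : D ≤ E) (hD : D.relIndex E = p) {z : G} (hz : z ∉ E)
    (hzD : ∀ d ∈ D, z * d = d * z) : False := by
  have hp : p.Prime := Fact.out
  obtain ⟨-, C, -, hCD, hCi, hCidx, -⟩ := exists_core_sq hG hodd hr s hDn hDE hD hz hzD
  rcases hirr C bot_le (hCD.trans hDE) hCi with rfl | rfl
  · rw [Subgroup.relIndex_bot_left, hE] at hCidx
    have h := Nat.pow_right_injective hp.two_le hCidx
    omega
  · rw [Subgroup.relIndex_self] at hCidx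
    exact (Nat.one_lt_pow two_ne_zero hp.one_lt).ne hCidx

theorem sp_shape (h : Pair p E₁ E₂ A₁ A₂ B) (hS : SpOver p A₁ A₂ B (⊥ : Subgroup G)) :
    (∃ P : Sylow p ↥(Matrix.symplecticGroup (Fin 2) (ZMod p)),
        Nonempty (G ≃* ↥(P : Subgroup ↥(Matrix.symplecticGroup (Fin 2) (ZMod p))))) ∧
      Cfsg.IsExtraspecial p E₁ ∧ Nat.card E₁ = p ^ 3 ∧ (∀ x ∈ E₁, x ^ p = 1) ∧
      Cfsg.IsElementaryAbelian p E₂ ∧ Nat.card E₂ = p ^ 3 := by
  have hp : p.Prime := Fact.out
  have hp2 : p ≠ 2 := fun e => by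
    have h0 := h.odd
    rw [e] at h0
    exact absurd h0 (by decide)
  have hG : Nat.card G = p ^ 4 := by rw [← Subgroup.index_bot]; exact hS.index
  have he1 : Nat.card E₁ = p ^ 3 := card_side h.s₁ hp.ne_zero hG
  have he2 : Nat.card E₂ = p ^ 3 := card_side h.s₂ hp.ne_zero hG
  have hx1 : ∀ x ∈ E₁, x ^ p = 1 := fun x hx => Subgroup.mem_bot.1 (hS.exp₁ x hx)
  have hx2 : ∀ x ∈ E₂, x ^ p = 1 := fun x hx => Subgroup.mem_bot.1 (hS.elem₂.1 x hx)
  have hc2 : ∀ x ∈ E₂, ∀ y ∈ E₂, x * y = y * x := fun x hx y hy =>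
    mul_inv_eq_iff_eq_mul.1 (mul_inv_eq_one.1 (Subgroup.mem_bot.1 (hS.elem₂.2 x hx y hy)))
  obtain ⟨C, τ, hP, -, hC2, hCcard, hcent, -, a, ha, b, ⟨hb1, hb2⟩, hab⟩ := hS.plane
  rw [Subgroup.relIndex_bot_left] at hCcard
  have hne : a * b ≠ b * a := fun e => hab (Subgroup.mem_bot.2 (by rw [e]; group))
  have ha2 : a ∉ E₂ := fun hh => hne (hc2 a hh b hb2)
  have := h.s₁.normal
  have := h.s₂.normal
  have hCn : C.Normal := hP.normal
  have hCc : ∀ g : G, ∀ c ∈ C, g * c = c * g := fun g c hc =>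
    mul_inv_eq_iff_eq_mul.1 (mul_inv_eq_one.1 (Subgroup.mem_bot.1 (hcent g c hc)))
  refine ⟨?_, ?_, he1, hx1, ⟨⟨⟨fun x y => Subtype.ext (hc2 x x.2 y y.2)⟩⟩, hx2⟩, he2⟩
  · by_cases hq : ∃ v ∈ E₂, ¬ Commute a (v⁻¹ * (a * v * a⁻¹))
    · obtain ⟨v, hv, hv'⟩ := hq
      exact H59.SpSylow.iso_sylow_of_split hp2 hG hc2 hx2 (hx1 a ha) hv hv'
    push Not at hq
    exfalso
    -- `E₁ ⊓ E₂` is `C × ⟨b⟩`; the displacements lie there and commute with `a`, so lie in `C`
    have hbC : b ∉ C := fun hh => hne (hCc a b hh)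
    have hI : C < E₁ ⊓ E₂ :=
      lt_of_le_of_ne (le_inf hP.le hC2) fun e => hbC (e ▸ (⟨hb1, hb2⟩ : b ∈ E₁ ⊓ E₂))
    have hcI : Nat.card ↥(E₁ ⊓ E₂) = p ^ 2 := by
      obtain ⟨k, hk3, hk⟩ := (Nat.dvd_prime_pow hp).1
        (he1 ▸ Subgroup.card_dvd_of_le (inf_le_left : E₁ ⊓ E₂ ≤ E₁))
      have hlt := Set.ncard_lt_ncard (SetLike.coe_ssubset_coe.2 hI) (Set.toFinite _)
      rw [← Nat.card_coe_set_eq, ← Nat.card_coe_set_eq, SetLike.coe_sort_coe,
        SetLike.coe_sort_coe, hCcard, hk] at hlt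
      have hk3' : k ≠ 3 := fun e => by
        subst e
        refine ha2 ?_
        have := Subgroup.eq_of_le_of_card_ge (inf_le_left : E₁ ⊓ E₂ ≤ E₁) (by rw [he1, hk])
        exact (this.symm ▸ ha : a ∈ E₁ ⊓ E₂).2
      have hk1 : 1 < k := by
        by_contra hh
        have := Nat.pow_le_pow_right hp.pos (show k ≤ 1 by omega)
        rw [pow_one] at this
        omega
      rw [hk, show k = 2 by omega]
    set f : G → G := fun v => v⁻¹ * (a * v * a⁻¹) with hf
    have hfI : ∀ v ∈ E₂, f v ∈ E₁ ⊓ E₂ := fun v hv => by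
      refine ⟨?_, E₂.mul_mem (E₂.inv_mem hv) (h.s₂.normal.conj_mem v hv a)⟩
      have e : f v = v⁻¹ * a * v * a⁻¹ := by simp only [hf]; group
      rw [e]
      have h1 : v⁻¹ * a * v ∈ E₁ := by simpa using h.s₁.normal.conj_mem a ha v⁻¹
      exact E₁.mul_mem h1 (E₁.inv_mem ha)
    have hfC : ∀ v ∈ E₂, f v ∈ C := by
      intro v hv
      set W := (E₁ ⊓ E₂) ⊓ Subgroup.centralizer ({a} : Set G) with hW
      have hvW : f v ∈ W := ⟨hfI v hv, Subgroup.mem_centralizer_singleton_iff.2 (hq v hv).eq.symm⟩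
      have hCW : C ≤ W := le_inf hI.le fun c hc =>
        Subgroup.mem_centralizer_singleton_iff.2 (hCc a c hc).symm
      obtain ⟨k, hk2, hk⟩ := (Nat.dvd_prime_pow hp).1
        (hcI ▸ Subgroup.card_dvd_of_le (inf_le_left : W ≤ E₁ ⊓ E₂))
      rcases (show k ≤ 1 ∨ k = 2 by omega) with hk1 | rfl
      · have := Subgroup.eq_of_le_of_card_ge hCW (by
          rw [hk, hCcard]; exact (Nat.pow_le_pow_right hp.pos hk1).trans (pow_one p).le)
        rwa [this]
      · have := Subgroup.eq_of_le_of_card_ge (inf_le_left : W ≤ E₁ ⊓ E₂) (by rw [hk, hcI])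
        have hbW : b ∈ W := this.ge ⟨hb1, hb2⟩
        exact absurd (Subgroup.mem_centralizer_singleton_iff.1 hbW.2).symm hne
    -- the displacement is a homomorphism `E₂ → C`, with kernel a hyperplane
    let φ : ↥E₂ →* ↥C := MonoidHom.mk' (fun v => ⟨f v, hfC v v.2⟩) fun v w => Subtype.ext (by
      show f ((v : G) * w) = f v * f w
      have e : f ((v : G) * w) = (w : G)⁻¹ * f v * (a * w * a⁻¹) := by simp only [hf]; group
      rw [e, hc2 _ (E₂.inv_mem w.2) _ (hfI v v.2).2, mul_assoc])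
    have hφ : φ ⟨b, hb2⟩ ≠ 1 := fun e => hne (by
      have e' : b⁻¹ * (a * b * a⁻¹) = 1 := congrArg Subtype.val e
      exact mul_inv_eq_iff_eq_mul.1 (inv_mul_eq_one.1 e').symm)
    set D := φ.ker.map E₂.subtype with hDdef
    have hmem : ∀ d, d ∈ D ↔ d ∈ E₂ ∧ a * d = d * a := by
      intro d
      rw [hDdef, Subgroup.mem_map]
      constructor
      · rintro ⟨x, hx, rfl⟩
        have e' : (x : G)⁻¹ * (a * x * a⁻¹) = 1 := congrArg Subtype.val (MonoidHom.mem_ker.1 hx)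
        exact ⟨x.2, mul_inv_eq_iff_eq_mul.1 (inv_mul_eq_one.1 e').symm⟩
      · rintro ⟨hd, he⟩
        refine ⟨⟨d, hd⟩, MonoidHom.mem_ker.2 (Subtype.ext ?_), rfl⟩
        show d⁻¹ * (a * d * a⁻¹) = 1
        rw [he]; group
    have hDE : D ≤ E₂ := fun d hd => ((hmem d).1 hd).1
    have hDi : D.relIndex E₂ = p := by
      have h1 : D.subgroupOf E₂ = φ.ker := by
        rw [hDdef, Subgroup.subgroupOf, Subgroup.comap_map_eq_self_of_injective E₂.subtype_injective]
      rw [Subgroup.relIndex, h1, Subgroup.index_ker]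
      have h2 : Nat.card φ.range ∣ p ^ 1 := by
        rw [pow_one, ← hCcard]; exact Subgroup.card_subgroup_dvd_card _
      obtain ⟨k, hk1, hk⟩ := (Nat.dvd_prime_pow hp).1 h2
      rcases (show k = 0 ∨ k = 1 by omega) with rfl | rfl
      · rw [pow_zero] at hk
        exact absurd (Subgroup.mem_bot.1 (Subgroup.eq_bot_of_card_eq φ.range hk ▸
          (⟨⟨b, hb2⟩, rfl⟩ : φ ⟨b, hb2⟩ ∈ φ.range))) hφ
      · rw [hk, pow_one]
    have hDn : D.Normal := ⟨fun d hd g => by
      obtain ⟨hd2, hda⟩ := (hmem d).1 hd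
      refine (hmem _).2 ⟨h.s₂.normal.conj_mem d hd2 g, ?_⟩
      -- `g⁻¹ a g` differs from `a` by an element of the abelian group `E₂`
      have hk : a⁻¹ * (g⁻¹ * a * g) ∈ E₂ := by
        have : IsMulCommutative (G ⧸ E₂) :=
          have := isCyclic_of_prime_card (α := G ⧸ E₂) (p := p)
            (by rw [← Subgroup.index_eq_card, h.s₂.index])
          inferInstance
        rw [← QuotientGroup.eq_one_iff]
        simp only [QuotientGroup.mk_mul, QuotientGroup.mk_inv]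
        rw [mul_comm' ((g : G ⧸ E₂)⁻¹) (a : G ⧸ E₂), inv_mul_cancel_right, inv_mul_cancel]
      have e : a * (g * d * g⁻¹) = g * ((g⁻¹ * a * g) * d) * g⁻¹ := by group
      have e2 : (g * d * g⁻¹) * a = g * (d * (g⁻¹ * a * g)) * g⁻¹ := by group
      rw [e, e2]
      congr 2
      calc g⁻¹ * a * g * d = a * (a⁻¹ * (g⁻¹ * a * g) * d) := by group
        _ = a * (d * (a⁻¹ * (g⁻¹ * a * g))) := by rw [hc2 _ hk d hd2]
        _ = d * (g⁻¹ * a * g) := by rw [← mul_assoc, hda]; group⟩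
    exact no_quadratic h.pgrp h.odd h.rank h.s₂ he2 hS.irred₂ hDn hDE hDi ha2
      fun d hd => ((hmem d).1 hd).2
  · refine IsoRankTwo.isExtraspecial_cube (h.pgrp.to_subgroup E₁) he1 ?_
      fun g => Subtype.ext (hx1 g g.2)
    intro hcm
    exact hne (congrArg Subtype.val (hcm.is_comm.comm (⟨a, ha⟩ : ↥E₁) ⟨b, hb1⟩))

end Cfsg.Agent.CharPair
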