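import Cfsg.Agent.CharPair.Transv
import Cfsg.Agent.PFifth.Sign

/-!
# generators of the top layer (S5189)

`transv` on (E₁, D = E₁ ⊓ E₂, z) gives C and τ with τ * τ = 1. Inverted representatives b of D
modulo C and a of E₁ modulo D have order p (their p-th powers lie in C, so are fixed and inverted)
and commute with C; z moves to a fixed element of its coset modulo Z(D). C is abelian: with
e = [a,b] ∈ C the quotient E₁/(Φ(C)<e>) is elementary, so the rank bound gives C generated by one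
element and e, which centralises C.
-/

set_option autoImplicit false
set_option linter.style.haveILetI false
set_option linter.unusedVariables false

open Cfsg.Agent.FusRankThree

namespace Cfsg.Agent.CharPair

universe u

variable {G : Type u} [Group G] [Finite G] {p : ℕ} [Fact p.Prime] {E₁ E₂ : Subgroup G}
  {A₁ : Subgroup (MulAut E₁)} {A₂ : Subgroup (MulAut E₂)} {B : Subgroup (MulAut G)}

omit [Finite G] in
/-- Cosets of a normal subgroup of relative index `p` are powers of any outside element. -/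
theorem topFrame_coset {R A : Subgroup G} (hR : R.Normal) (hidx : R.relIndex A = p) {x a : G}
    (hx : x ∈ A) (hxR : x ∉ R) (ha : a ∈ A) : ∃ i : ℕ, a * (x ^ i)⁻¹ ∈ R := by
  set N := R.subgroupOf A
  haveI : N.Normal := hR.subgroupOf A
  have hc : Nat.card (A ⧸ N) = p := by rw [← Subgroup.index_eq_card]; exact hidx
  haveI : Finite (A ⧸ N) := Nat.finite_of_card_ne_zero (by
    rw [hc]; exact (Fact.out : p.Prime).ne_zero)
  have h1 : ((⟨x, hx⟩ : A) : A ⧸ N) ≠ 1 := fun e =>
    hxR (show (⟨x, hx⟩ : A) ∈ N from (QuotientGroup.eq_one_iff _).1 e)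
  have h2 : ((⟨a, ha⟩ : A) : A ⧸ N) ∈ Submonoid.powers ((⟨x, hx⟩ : A) : A ⧸ N) := by
    rw [mem_powers_iff_mem_zpowers, zpowers_eq_top_of_prime_card hc h1]
    exact Subgroup.mem_top _
  obtain ⟨i, hi⟩ := h2
  refine ⟨i, ?_⟩
  have h3 : ((⟨a, ha⟩ * (⟨x, hx⟩ ^ i)⁻¹ : A) : A ⧸ N) = 1 := by
    rw [QuotientGroup.mk_mul, QuotientGroup.mk_inv, QuotientGroup.mk_pow]
    exact mul_inv_eq_one.2 hi.symm
  simpa [N, Subgroup.mem_subgroupOf] using (QuotientGroup.eq_one_iff _).1 h3

theorem exists_topFrame (h : Pair p E₁ E₂ A₁ A₂ B) {z : G} (hz₂ : z ∈ E₂) (hz₁ : z ∉ E₁)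
    (hzc : ∀ x ∈ E₂, z * x = x * z) :
    ∃ C τ a b z', TopFrame p E₁ E₂ A₁ B C τ a b z' := by
  have hpp : p.Prime := Fact.out
  have hG := h.pgrp
  have ho : Odd (Nat.card G) := by
    obtain ⟨n, hn⟩ := IsPGroup.iff_card.1 hG
    rw [hn]
    exact h.odd.pow
  haveI hn₁ : E₁.Normal := h.s₁.normal
  haveI hn₂ : E₂.Normal := h.s₂.normal
  set D := E₁ ⊓ E₂ with hD
  haveI hDn : D.Normal := inferInstanceAs (E₁ ⊓ E₂).Normal
  have hD₁ : D ≤ E₁ := inf_le_left
  have hD₂ : D ≤ E₂ := inf_le_right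
  have hrelD : ∀ {X Y : Subgroup G}, Y.Normal → X.index = p → Y.index = p → X ≠ Y →
      (X ⊓ Y).relIndex X = p := by
    intro X Y hY hX hY' hne
    haveI := hY
    rw [inf_comm, Subgroup.inf_relIndex_right]
    refine ((Nat.dvd_prime hpp).1 (hY' ▸ Subgroup.relIndex_dvd_index_of_normal Y X)).resolve_left
      fun h1 => hne ?_
    have hle := Subgroup.relIndex_eq_one.1 h1
    refine le_antisymm hle (Subgroup.relIndex_eq_one.1 ?_)
    have h2 := Subgroup.relIndex_mul_index hle
    rw [hX, hY'] at h2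
    exact Nat.eq_of_mul_eq_mul_right hpp.pos (h2.trans (one_mul p).symm)
  have hDE₁ : D.relIndex E₁ = p := hrelD hn₂ h.s₁.index h.s₂.index h.ne
  have hDE₂ : D.relIndex E₂ = p := by
    rw [hD, inf_comm]; exact hrelD hn₁ h.s₂.index h.s₁.index h.ne.symm
  obtain ⟨C, τ, hCD, hP, hfix, hot, haz, hnD⟩ := transv hG h.odd h.rank h.s₁ h.r₁ hDn hD₁ hDE₁
    hz₁ fun d hd => hzc d (hD₂ hd)
  haveI hCn : C.Normal := hP.normal
  have hsq : τ * τ = 1 := hP.tau_sq hG hn₁ hfix
  have hτC : ∀ c ∈ C, τ c ∈ C := fun c hc => (hfix c hc).symm ▸ hc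
  have hinvB : ∀ (E : Subgroup G) (A : Subgroup (MulAut E)), Restricts A B →
      ∀ β ∈ B, ∀ x ∈ E, β x ∈ E := by
    intro E A hr β hβ x hx
    obtain ⟨α, -, hα⟩ := hr β hβ
    rw [← hα ⟨x, hx⟩]
    exact (α _).2
  have hτ₁ : ∀ x ∈ E₁, τ x ∈ E₁ := hinvB E₁ A₁ h.r₁ τ hP.tau.mem
  have hτ₂ : ∀ x ∈ E₂, τ x ∈ E₂ := hinvB E₂ A₂ h.r₂ τ hP.tau.mem
  have hττ : ∀ x, τ (τ x) = x := fun x => by rw [← MulAut.mul_apply, hsq]; rfl
  -- the quotient `E₁ / C` is abelian of order `p ^ 2`
  have hcommC : ∀ x ∈ E₁, ∀ y ∈ E₁, x * y * x⁻¹ * y⁻¹ ∈ C := by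
    intro x hx y hy
    haveI : (C.subgroupOf E₁).Normal := hCn.subgroupOf E₁
    have hcard : Nat.card (E₁ ⧸ C.subgroupOf E₁) = p ^ 2 := by
      rw [← Subgroup.index_eq_card]; exact hP.index
    letI := IsPGroup.commGroupOfCardEqPrimeSq hcard
    have h1 : ((⟨x, hx⟩ * ⟨y, hy⟩ * ⟨x, hx⟩⁻¹ * ⟨y, hy⟩⁻¹ : E₁) : E₁ ⧸ C.subgroupOf E₁) = 1 := by
      simp only [QuotientGroup.mk_mul, QuotientGroup.mk_inv]
      rw [mul_comm ((⟨x, hx⟩ : E₁) : E₁ ⧸ C.subgroupOf E₁) ((⟨y, hy⟩ : E₁) : E₁ ⧸ C.subgroupOf E₁)]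
      group
    have h2 : (⟨x, hx⟩ * ⟨y, hy⟩ * ⟨x, hx⟩⁻¹ * ⟨y, hy⟩⁻¹ : E₁) ∈ C.subgroupOf E₁ :=
      (QuotientGroup.eq_one_iff _).1 h1
    exact h2
  have hCE₁ : C ≤ E₁ := hP.le
  have hCrel : C.relIndex D = p := by
    have h1 := Subgroup.relIndex_mul_relIndex C D E₁ hCD hD₁
    rw [hP.index, hDE₁, sq] at h1
    exact Nat.eq_of_mul_eq_mul_right hpp.pos h1
  -- inverted representatives
  obtain ⟨b0, hb0, hb0C⟩ : ∃ b ∈ D, b ∉ C := Set.not_subset.1 fun hle => by
    have := Subgroup.relIndex_eq_one.2 hle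
    rw [hCrel] at this
    exact hpp.ne_one this
  obtain ⟨a0, ha0, ha0D⟩ : ∃ a ∈ E₁, a ∉ D := Set.not_subset.1 fun hle => by
    have := Subgroup.relIndex_eq_one.2 hle
    rw [hDE₁] at this
    exact hpp.ne_one this
  obtain ⟨a, haC, hta⟩ := PFifth.exists_inverted_mem ho hsq hτC (hP.tau.neg a0 ha0)
  obtain ⟨b, hbC, htb⟩ := PFifth.exists_inverted_mem ho hsq hτC (hP.tau.neg b0 (hD₁ hb0))
  have haE : a ∈ E₁ := by
    rw [show a = a0 * (a0⁻¹ * a) by group]; exact mul_mem ha0 (hCE₁ haC)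
  have haD : a ∉ D := fun hh => ha0D (by
    rw [show a0 = a * (a0⁻¹ * a)⁻¹ by group]; exact mul_mem hh (inv_mem (hCD haC)))
  have hbD : b ∈ D := by
    rw [show b = b0 * (b0⁻¹ * b) by group]; exact mul_mem hb0 (hCD hbC)
  have hbnC : b ∉ C := fun hh => hb0C (by
    rw [show b0 = b * (b0⁻¹ * b)⁻¹ by group]; exact mul_mem hh (inv_mem hbC))
  -- p-th powers
  have hpowD : ∀ d ∈ D, d ^ p ∈ C := by
    intro d hd
    haveI : (C.subgroupOf D).Normal := hCn.subgroupOf D
    have h1 := pow_card_eq_one' (x := ((⟨d, hd⟩ : D) : D ⧸ C.subgroupOf D))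
    rw [← Subgroup.index_eq_card, show (C.subgroupOf D).index = p from hCrel,
      ← QuotientGroup.mk_pow, QuotientGroup.eq_one_iff] at h1
    exact h1
  have hpowE : ∀ x ∈ E₁, x ^ p ∈ D := by
    intro x hx
    haveI : (D.subgroupOf E₁).Normal := hDn.subgroupOf E₁
    have h1 := pow_card_eq_one' (x := ((⟨x, hx⟩ : E₁) : E₁ ⧸ D.subgroupOf E₁))
    rw [← Subgroup.index_eq_card, show (D.subgroupOf E₁).index = p from hDE₁,
      ← QuotientGroup.mk_pow, QuotientGroup.eq_one_iff] at h1
    exact h1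
  have hapC : a ^ p ∈ C := by
    by_contra hap
    refine hnD fun α hα x hx => ?_
    set y : G := ((α x : E₁) : G) with hy
    have hyE : y ∈ E₁ := (α x).2
    have hyp : y ^ p ∈ C := by
      have h1 := hP.inv α hα (x ^ p) (by rw [Subgroup.coe_pow]; exact hpowD _ hx)
      rwa [map_pow, Subgroup.coe_pow] at h1
    obtain ⟨i, hi⟩ := topFrame_coset hDn hDE₁ haE haD hyE
    set q := QuotientGroup.mk' C with hq
    have hker : ∀ g : G, q g = 1 ↔ g ∈ C := fun g => QuotientGroup.eq_one_iff g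
    have hcm : ∀ u ∈ E₁, ∀ v ∈ E₁, Commute (q u) (q v) := fun u hu v hv => by
      have h1 := (hker _).2 (hcommC u hu v hv)
      simp only [map_mul, map_inv] at h1
      show q u * q v = q v * q u
      calc q u * q v = q u * q v * (q u)⁻¹ * (q v)⁻¹ * (q v * q u) := by group
        _ = q v * q u := by rw [h1, one_mul]
    set d := y * (a ^ i)⁻¹ with hd
    have h2 : (q (a ^ p)) ^ i = 1 := by
      have h3 : q y ^ p = 1 := by rw [← map_pow]; exact (hker _).2 hyp
      have h4 : q y = q d * q (a ^ i) := by rw [← map_mul, hd, inv_mul_cancel_right]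
      rw [h4, (hcm d (hD₁ hi) _ (pow_mem haE i)).mul_pow, ← map_pow,
        (hker _).2 (hpowD d hi), one_mul, ← map_pow, ← pow_mul, mul_comm, pow_mul, map_pow] at h3
      exact h3
    have h5 : orderOf (q (a ^ p)) = p := orderOf_eq_prime
      (by rw [← map_pow]; exact (hker _).2 (hpowD _ (hpowE a haE)))
      fun e => hap ((hker _).1 e)
    obtain ⟨j, hj⟩ : p ∣ i := h5 ▸ orderOf_dvd_of_pow_eq_one h2
    rw [show y = d * a ^ i by rw [hd, inv_mul_cancel_right]]
    exact mul_mem hi (by rw [hj, pow_mul]; exact pow_mem (hpowE a haE) j)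
  have hone : ∀ x : G, x ^ p ∈ C → τ x = x⁻¹ → x ^ p = 1 := fun x hx hτx =>
    PFifth.eq_one_of_fixed_inverted ho (hfix _ hx) (by rw [map_pow, hτx, inv_pow])
  have hap : a ^ p = 1 := hone a hapC hta
  have hbp : b ^ p = 1 := hone b (hpowD b hbD) htb
  -- `a` and `b` centralise `C`
  have hcC : ∀ x : G, x ^ p = 1 → τ x = x⁻¹ → ∀ c ∈ C, x * c = c * x := by
    intro x hxp hτx c hc
    obtain ⟨k, hk⟩ := h.odd
    have h1 : Commute (x⁻¹ * τ x) c := commute_of_fixed hCn hfix x c hc
    rw [hτx] at h1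
    have e : x = ((x⁻¹ * x⁻¹) ^ k) := by
      rw [← pow_two, ← pow_mul, inv_pow, eq_comm, inv_eq_iff_mul_eq_one, ← pow_succ,
        ← hk, hxp]
    rw [e]
    exact (h1.pow_left k).eq
  have hac := hcC a hap hta
  have hbc := hcC b hbp htb
  -- `C` is abelian
  set e := a * b * a⁻¹ * b⁻¹ with he
  have heC : e ∈ C := hcommC a haE b (hD₁ hbD)
  have hec : ∀ c ∈ C, e * c = c * e := fun c hc => by
    have ha' : Commute a c := hac c hc
    have hb' : Commute b c := hbc c hc
    exact (((ha'.mul_left hb').mul_left ha'.inv_left).mul_left hb'.inv_left).eq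
  have habel : ∀ c ∈ C, ∀ d ∈ C, c * d = d * c := by
    haveI : Finite C := inferInstance
    have hCp : IsPGroup p C := hG.to_subgroup C
    set R : Subgroup G := (frattini C).map C.subtype ⊔ Subgroup.zpowers e with hR
    have hRC : R ≤ C := sup_le (by rintro _ ⟨x, -, rfl⟩; exact x.2) (Subgroup.zpowers_le.2 heC)
    have heR : e ∈ R :=
      le_sup_right (a := (frattini C).map C.subtype) (Subgroup.mem_zpowers e)
    have hfr : ∀ x : C, x ∈ frattini C → (x : G) ∈ R := fun x hx =>
      le_sup_left (b := Subgroup.zpowers e) ⟨x, hx, rfl⟩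
    -- a normalised congruence modulo `R` on `E₁`
    set H : Subgroup G := C ⊔ Subgroup.zpowers a ⊔ Subgroup.zpowers b with hH
    have hCH : C ≤ H := le_sup_left.trans le_sup_left
    have haH : a ∈ H := le_sup_left (b := Subgroup.zpowers b)
      (le_sup_right (a := C) (Subgroup.mem_zpowers a))
    have hbH : b ∈ H := le_sup_right (a := C ⊔ Subgroup.zpowers a) (Subgroup.mem_zpowers b)
    have hRcent : ∀ r ∈ R, Commute a r ∧ Commute b r := fun r hr =>
      ⟨hac r (hRC hr), hbc r (hRC hr)⟩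
    have hHn : H ≤ Subgroup.normalizer (R : Set G) := by
      refine sup_le (sup_le ?_ (Subgroup.zpowers_le.2 ?_)) (Subgroup.zpowers_le.2 ?_)
      · intro c hc
        refine Subgroup.mem_normalizer_fintype (S := (R : Set G)) fun r hr => ?_
        have hle : R ≤ R.comap (MulAut.conj c).toMonoidHom := by
          refine sup_le ?_ (Subgroup.zpowers_le.2 ?_)
          · rintro _ ⟨x, hx, rfl⟩
            have h1 : MulAut.conj (⟨c, hc⟩ : C) x ∈ frattini C :=
              (Subgroup.characteristic_iff_map_eq.1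
                (inferInstance : (frattini C).Characteristic) (MulAut.conj (⟨c, hc⟩ : C))).le
                ⟨x, hx, rfl⟩
            exact hfr _ h1
          · show c * e * c⁻¹ ∈ R
            rw [← hec c hc, mul_inv_cancel_right]; exact heR
        exact hle hr
      · refine Subgroup.mem_normalizer_fintype (S := (R : Set G)) fun r hr => ?_
        rw [(hRcent r hr).1.eq, mul_inv_cancel_right]; exact hr
      · refine Subgroup.mem_normalizer_fintype (S := (R : Set G)) fun r hr => ?_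
        rw [(hRcent r hr).2.eq, mul_inv_cancel_right]; exact hr
    have hRH : R ≤ H := hRC.trans hCH
    haveI hRn : (R.subgroupOf H).Normal :=
      ⟨fun n hn g => (Subgroup.mem_normalizer_iff.1 (hHn g.2) n).1 hn⟩
    set π := QuotientGroup.mk' (R.subgroupOf H) with hπ
    have hk : ∀ g : H, π g = 1 ↔ (g : G) ∈ R := fun g => QuotientGroup.eq_one_iff g
    -- the generators commute and have order dividing `p` modulo `R`
    let T : Set H := {g | (g : G) ∈ C ∨ (g : G) = a ∨ (g : G) = b}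
    have hT : Subgroup.closure T = ⊤ := by
      refine eq_top_iff.2 fun g _ => ?_
      have hle : H ≤ (Subgroup.closure T).map H.subtype := sup_le (sup_le
        (fun c hc => ⟨⟨c, hCH hc⟩, Subgroup.subset_closure (Or.inl hc), rfl⟩)
        (Subgroup.zpowers_le.2 ⟨⟨a, haH⟩, Subgroup.subset_closure (Or.inr (Or.inl rfl)), rfl⟩))
        (Subgroup.zpowers_le.2 ⟨⟨b, hbH⟩, Subgroup.subset_closure (Or.inr (Or.inr rfl)), rfl⟩)
      obtain ⟨g', hg', e'⟩ := hle g.2
      rwa [← Subtype.ext (a1 := g') (a2 := g) e']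
    have hTc : ∀ u ∈ T, ∀ v ∈ T, π u * π v = π v * π u := by
      intro u hu v hv
      have key : (u : G) * v * (u : G)⁻¹ * (v : G)⁻¹ ∈ R := by
        have hCC : ∀ x ∈ C, ∀ y ∈ C, x * y * x⁻¹ * y⁻¹ ∈ R := fun x hx y hy =>
          hfr _ (PGroup.commutatorElement_mem_frattini hCp (⟨x, hx⟩ : C) ⟨y, hy⟩)
        have h1 : ∀ x y : G, Commute x y → x * y * x⁻¹ * y⁻¹ ∈ R := fun x y hxy => by
          rw [hxy.eq]; simp
        rcases hu with hu | hu | hu <;> rcases hv with hv | hv | hv
        · exact hCC _ hu _ hv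
        · rw [hv]; exact h1 _ _ (Commute.symm (hac _ hu))
        · rw [hv]; exact h1 _ _ (Commute.symm (hbc _ hu))
        · rw [hu]; exact h1 _ _ (hac _ hv)
        · rw [hu, hv]; exact h1 _ _ (Commute.refl a)
        · rw [hu, hv]; exact he ▸ heR
        · rw [hu]; exact h1 _ _ (hbc _ hv)
        · rw [hu, hv]
          have : b * a * b⁻¹ * a⁻¹ = e⁻¹ := by rw [he]; group
          rw [this]; exact inv_mem heR
        · rw [hu, hv]; exact h1 _ _ (Commute.refl b)
      have h2 := (hk (u * v * u⁻¹ * v⁻¹)).2 key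
      simp only [map_mul, map_inv] at h2
      calc π u * π v = π u * π v * (π u)⁻¹ * (π v)⁻¹ * (π v * π u) := by group
        _ = π v * π u := by rw [h2, one_mul]
    have hall : ∀ u v : H, π u * π v = π v * π u := by
      have h1 : ∀ u ∈ T, ∀ v : H, π u * π v = π v * π u := fun u hu v => by
        have hv : v ∈ Subgroup.closure T := hT ▸ Subgroup.mem_top v
        induction hv using Subgroup.closure_induction with
        | mem w hw => exact hTc u hu w hw
        | one => simp
        | mul x y _ _ hx hy =>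
          rw [map_mul]; exact (show Commute (π u) (π x) from hx).mul_right hy
        | inv x _ hx => rw [map_inv]; exact (show Commute (π u) (π x) from hx).inv_right
      intro u v
      have hu : u ∈ Subgroup.closure T := hT ▸ Subgroup.mem_top u
      induction hu using Subgroup.closure_induction with
      | mem w hw => exact h1 w hw v
      | one => simp
      | mul x y _ _ hx hy =>
        rw [map_mul]; exact (show Commute (π x) (π v) from hx).mul_left hy
      | inv x _ hx => rw [map_inv]; exact (show Commute (π x) (π v) from hx).inv_left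
    have hpw : ∀ u : H, π u ^ p = 1 := by
      intro u
      have hu : u ∈ Subgroup.closure T := hT ▸ Subgroup.mem_top u
      induction hu using Subgroup.closure_induction with
      | mem w hw =>
        rw [← map_pow, hk, Subgroup.coe_pow]
        rcases hw with hw | hw | hw
        · exact hfr _ (PGroup.pow_mem_frattini hCp (⟨_, hw⟩ : C))
        · rw [hw, hap]; exact one_mem _
        · rw [hw, hbp]; exact one_mem _
      | one => simp
      | mul x y _ _ hx hy =>
        rw [map_mul, (show Commute (π x) (π y) from hall x y).mul_pow, hx, hy, one_mul]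
      | inv x _ hx => rw [map_inv, inv_pow, hx, inv_one]
    have hb := h.rank H R hRH
      (fun u hu => (hk ⟨u ^ p, pow_mem hu p⟩).1 (by
        rw [show (⟨u ^ p, pow_mem hu p⟩ : H) = ⟨u, hu⟩ ^ p from rfl, map_pow]; exact hpw _))
      fun u hu v hv => (hk (⟨u, hu⟩ * ⟨v, hv⟩ * ⟨u, hu⟩⁻¹ * ⟨v, hv⟩⁻¹)).1 (by
        simp only [map_mul, map_inv]; rw [hall]; group)
    have hHE : H = E₁ := by
      refine le_antisymm (sup_le (sup_le hCE₁ (Subgroup.zpowers_le.2 haE))
        (Subgroup.zpowers_le.2 (hD₁ hbD))) fun x hx => ?_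
      obtain ⟨i, hi⟩ := topFrame_coset hDn hDE₁ haE haD hx
      obtain ⟨j, hj⟩ := topFrame_coset hCn hCrel hbD hbnC hi
      rw [show x = x * (a ^ i)⁻¹ * (b ^ j)⁻¹ * b ^ j * a ^ i by group]
      exact mul_mem (mul_mem (hCH hj) (pow_mem hbH j)) (pow_mem haH i)
    have h1 := Subgroup.relIndex_mul_relIndex R C H hRC hCH
    rw [show C.relIndex H = p ^ 2 by rw [hHE]; exact hP.index] at h1
    have hle : R.relIndex C ≤ p := by
      refine Nat.le_of_mul_le_mul_right ?_ (pow_pos hpp.pos 2)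
      rw [h1, ← pow_succ']
      exact hb
    -- at most one further generator
    obtain ⟨c0, hc0, hgen⟩ : ∃ c0 ∈ C, C ≤ R ⊔ Subgroup.zpowers c0 := by
      by_cases hCR : C ≤ R
      · exact ⟨1, one_mem _, hCR.trans le_sup_left⟩
      obtain ⟨c0, hc0, hc0R⟩ : ∃ c ∈ C, c ∉ R := Set.not_subset.1 hCR
      refine ⟨c0, hc0, ?_⟩
      set J := R ⊔ Subgroup.zpowers c0
      have hJC : J ≤ C := sup_le hRC (Subgroup.zpowers_le.2 hc0)
      have h2 := Subgroup.relIndex_mul_relIndex R J C le_sup_left hJC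
      have hpdvd : p ≤ R.relIndex J := by
        obtain ⟨n, hn⟩ := (hG.to_subgroup J).index (R.subgroupOf J)
        rcases n with _ | n
        · have h3 : R.relIndex J = 1 := by rw [Subgroup.relIndex, hn, pow_zero]
          exact absurd (Subgroup.relIndex_eq_one.1 h3)
            fun hh => hc0R (hh (le_sup_right (a := R) (Subgroup.mem_zpowers c0)))
        · rw [Subgroup.relIndex, hn]; exact Nat.le_self_pow n.succ_ne_zero p
      have hne : J.relIndex C ≠ 0 := Subgroup.index_ne_zero_of_finite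
      refine Subgroup.relIndex_eq_one.1 ?_
      by_contra h3
      have h4 : p * 2 ≤ R.relIndex J * J.relIndex C := Nat.mul_le_mul hpdvd (by omega)
      have := hpp.pos
      omega
    set K : Subgroup C := Subgroup.closure {⟨e, heC⟩, ⟨c0, hc0⟩} with hK
    have hKtop : K = ⊤ := by
      refine PGroup.eq_top_of_sup_frattini (eq_top_iff.2 fun x _ => ?_)
      have hle : R ⊔ Subgroup.zpowers c0 ≤ (K ⊔ frattini C).map C.subtype := by
        refine sup_le (sup_le (Subgroup.map_mono le_sup_right) (Subgroup.zpowers_le.2 ?_))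
          (Subgroup.zpowers_le.2 ?_)
        · exact ⟨⟨e, heC⟩, le_sup_left (b := frattini C) (Subgroup.subset_closure (by simp)), rfl⟩
        · exact ⟨⟨c0, hc0⟩, le_sup_left (b := frattini C) (Subgroup.subset_closure (by simp)), rfl⟩
      obtain ⟨x', hx', e'⟩ := hle (hgen x.2)
      rwa [← Subtype.ext (a1 := x') (a2 := x) e']
    have hc0c : ∀ c : C, Commute (⟨c0, hc0⟩ : C) c := by
      intro c
      have hc : c ∈ K := hKtop ▸ Subgroup.mem_top c
      rw [hK] at hc
      induction hc using Subgroup.closure_induction with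
      | mem w hw =>
        rcases hw with rfl | rfl
        · exact Subtype.ext (hec c0 hc0).symm
        · exact Commute.refl _
      | one => exact Commute.one_right _
      | mul x y _ _ hx hy => exact hx.mul_right hy
      | inv x _ hx => exact hx.inv_right
    intro c hc d hd
    have hall' : ∀ x : C, Commute x (⟨d, hd⟩ : C) := by
      intro x
      have hx : x ∈ K := hKtop ▸ Subgroup.mem_top x
      rw [hK] at hx
      induction hx using Subgroup.closure_induction with
      | mem w hw =>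
        rcases hw with rfl | rfl
        · exact Subtype.ext (hec d hd)
        · exact hc0c _
      | one => exact Commute.one_left _
      | mul x y _ _ hx hy => exact hx.mul_left hy
      | inv x _ hx => exact hx.inv_left
    exact congrArg Subtype.val (hall' ⟨c, hc⟩).eq
  -- the fixed representative outside
  let N : Subgroup G := D ⊓ Subgroup.centralizer (D : Set G)
  have hτD : ∀ d ∈ D, τ d ∈ D := fun d hd => ⟨hτ₁ d hd.1, hτ₂ d hd.2⟩
  have hτN : ∀ n ∈ N, τ n ∈ N := fun n hn => ⟨hτD n hn.1,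
    Subgroup.mem_centralizer_iff.2 fun d hd => by
      have h1 := congrArg τ (Subgroup.mem_centralizer_iff.1 hn.2 (τ d) (hτD d hd))
      rwa [map_mul, map_mul, hττ] at h1⟩
  have hτz : ∀ x ∈ E₂, τ z * x = x * τ z := fun x hx => by
    have h1 := congrArg τ (hzc (τ x) (hτ₂ x hx))
    rwa [map_mul, map_mul, hττ] at h1
  have hzN : z⁻¹ * τ z ∈ N := ⟨⟨hP.tau.quot z, E₂.mul_mem (E₂.inv_mem hz₂) (hτ₂ z hz₂)⟩,
    Subgroup.mem_centralizer_iff.2 fun d hd =>
      (((show Commute z d from hzc d (hD₂ hd)).inv_left).mul_left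
        (show Commute (τ z) d from hτz d (hD₂ hd))).eq.symm⟩
  obtain ⟨z', hz'N, hz'⟩ := PFifth.exists_fixed_mem ho hsq hτN hzN
  set n := z⁻¹ * z' with hn
  have hzn : z' = z * n := by rw [hn, mul_inv_cancel_left]
  have hzD : z ∉ D := fun hh => hz₁ (hD₁ hh)
  refine ⟨C, τ, a, b, z', hP, hCD.trans hD₂, hfix, hot, hsq, haE, fun hh => haD ⟨haE, hh⟩, hbD,
    hbnC, hta, htb, hap, hbp, hac, hbc, habel, ?_, fun hh => ?_, hz', fun x hx => ?_, ?_⟩
  · rw [hzn]; exact mul_mem hz₂ (hD₂ hz'N.1)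
  · refine hz₁ ?_
    rw [show z = z' * n⁻¹ by rw [hzn, mul_inv_cancel_right]]
    exact mul_mem hh (inv_mem (hD₁ hz'N.1))
  · have hnx : Commute n x := by
      obtain ⟨i, hi⟩ := topFrame_coset hDn hDE₂ hz₂ hzD hx
      rw [show x = x * (z ^ i)⁻¹ * z ^ i by group]
      exact (show Commute n (x * (z ^ i)⁻¹) from
        (Subgroup.mem_centralizer_iff.1 hz'N.2 _ hi).symm).mul_right
        (((show Commute z n from hzc n (hD₂ hz'N.1)).pow_left i).symm)
    rw [hzn]
    exact ((show Commute z x from hzc x hx).mul_left hnx).eq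
  · intro hh
    refine haz a haE haD ?_
    rw [hzn] at hh
    have e1 : a * z * a⁻¹ * z⁻¹ =
        a * (z * n) * a⁻¹ * (z * n)⁻¹ * (z * (a * n * a⁻¹ * n⁻¹) * z⁻¹)⁻¹ := by group
    rw [e1]
    exact mul_mem hh (inv_mem (hCn.conj_mem _ (hcommC a haE n (hD₁ hz'N.1)) z))

end Cfsg.Agent.CharPair
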