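import Cfsg.Agent.CharPair.Transv

/-!
# the extraspecial top of order p³ (S5189)

`[a,b] = 1`: `E₁` is abelian, so `transv` on `(E₂, D, a)` gives `C'`, `τ'`. On `D = C⟨e⟩`,
`e = [a,z]`, the automorphism `τ` fixes `C` and inverts `e`; it keeps `C'`, which misses `e`, so
`C' = C`. Hence `C` is good, so trivial.
-/

set_option autoImplicit false

open Cfsg.Agent.FusRankThree

namespace Cfsg.Agent.CharPair

universe u

variable {G : Type u} [Group G] [Finite G] {p : ℕ} [Fact p.Prime] {E₁ E₂ : Subgroup G}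
  {A₁ : Subgroup (MulAut E₁)} {A₂ : Subgroup (MulAut E₂)} {B : Subgroup (MulAut G)}

omit [Finite G] in
private theorem sup_zpowers_eq {X Y : Subgroup G} (hXY : X ≤ Y) (hi : X.relIndex Y = p) {x : G}
    (hx : x ∈ Y) (hxX : x ∉ X) : X ⊔ Subgroup.zpowers x = Y := by
  have hle : X ⊔ Subgroup.zpowers x ≤ Y := sup_le hXY (Subgroup.zpowers_le.2 hx)
  have h1 := Subgroup.relIndex_mul_relIndex X (X ⊔ Subgroup.zpowers x) Y le_sup_left hle
  rw [hi] at h1
  have hne : X.relIndex (X ⊔ Subgroup.zpowers x) ≠ 1 := fun h0 =>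
    hxX (Subgroup.relIndex_eq_one.1 h0 (Subgroup.mem_sup_right (Subgroup.mem_zpowers x)))
  have h2 : X.relIndex (X ⊔ Subgroup.zpowers x) = p :=
    ((Nat.dvd_prime Fact.out).1 ⟨_, h1.symm⟩).resolve_left hne
  rw [h2] at h1
  exact le_antisymm hle (Subgroup.relIndex_eq_one.1
    ((Nat.mul_eq_left (Fact.out : p.Prime).ne_zero).1 h1))

theorem top_heis (h : Pair p E₁ E₂ A₁ A₂ B) (hI : Irr p A₁ A₂ B) {C : Subgroup G} {τ : MulAut G}
    {a b z : G} (hT : TopFrame p E₁ E₂ A₁ B C τ a b z) (hab : a * b = b * a) :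
    HeisOver p A₁ A₂ B (⊥ : Subgroup G) := by
  have hp : p.Prime := Fact.out
  have := h.s₁.normal
  have := h.s₂.normal
  have := hT.plane.normal
  have hCD : C ≤ E₁ ⊓ E₂ := le_inf hT.plane.le hT.le
  have hD₁ : (E₁ ⊓ E₂).relIndex E₁ = p := by
    rw [Subgroup.inf_relIndex_left]
    have h1 := Subgroup.relIndex_dvd_index_of_normal E₂ E₁
    rw [h.s₂.index] at h1
    exact ((Nat.dvd_prime hp).1 h1).resolve_left fun h0 =>
      hT.a_not (Subgroup.relIndex_eq_one.1 h0 hT.a_mem)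
  have hD₂ : (E₁ ⊓ E₂).relIndex E₂ = p := by
    rw [Subgroup.inf_relIndex_right]
    have h1 := Subgroup.relIndex_dvd_index_of_normal E₁ E₂
    rw [h.s₁.index] at h1
    exact ((Nat.dvd_prime hp).1 h1).resolve_left fun h0 =>
      hT.z_not (Subgroup.relIndex_eq_one.1 h0 hT.z_mem)
  have hC : C.relIndex (E₁ ⊓ E₂) = p := by
    have h1 := Subgroup.relIndex_mul_relIndex C (E₁ ⊓ E₂) E₁ hCD inf_le_left
    rw [hT.plane.index, hD₁, pow_two] at h1
    exact Nat.eq_of_mul_eq_mul_right hp.pos h1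
  -- `a` centralises `D`
  have hDa : ∀ d ∈ E₁ ⊓ E₂, a * d = d * a := by
    have hle : E₁ ⊓ E₂ ≤ Subgroup.centralizer ({a} : Set G) := by
      rw [← sup_zpowers_eq hCD hC hT.b_mem hT.b_not]
      refine sup_le (fun c hc => ?_) (Subgroup.zpowers_le.2 ?_)
      · exact Subgroup.mem_centralizer_singleton_iff.2 (hT.a_comm c hc).symm
      · exact Subgroup.mem_centralizer_singleton_iff.2 hab.symm
    exact fun d hd => (Subgroup.mem_centralizer_singleton_iff.1 (hle hd)).symm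
  -- the commutator `e`
  have heD : a * z * a⁻¹ * z⁻¹ ∈ E₁ ⊓ E₂ := by
    refine ⟨?_, E₂.mul_mem (h.s₂.normal.conj_mem z hT.z_mem a) (E₂.inv_mem hT.z_mem)⟩
    rw [show a * z * a⁻¹ * z⁻¹ = a * (z * a⁻¹ * z⁻¹) by group]
    exact E₁.mul_mem hT.a_mem (h.s₁.normal.conj_mem _ (E₁.inv_mem hT.a_mem) z)
  set e := a * z * a⁻¹ * z⁻¹ with he
  have hae : Commute a e := hDa e heD
  have he_p : e ^ p = 1 := by
    have h1 : e = a * (z * a⁻¹ * z⁻¹) := by rw [he]; group
    have h2 : z * a⁻¹ * z⁻¹ = a⁻¹ * e := by rw [h1]; group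
    have h3 : Commute a (z * a⁻¹ * z⁻¹) := by
      rw [h2]
      exact (Commute.refl a).inv_right.mul_right hae
    rw [h1, h3.mul_pow, conj_pow, inv_pow, hT.a_pow, inv_one, mul_one, mul_inv_cancel, one_mul]
  have hτe : τ e = e⁻¹ := by
    have h1 : τ e = a⁻¹ * e⁻¹ * a := by
      rw [he, map_mul, map_mul, map_mul, map_inv, map_inv, hT.a_inv, hT.z_fix]
      group
    rw [h1, mul_assoc, ← hae.inv_right.eq, inv_mul_cancel_left]
  -- the plane on the other side
  obtain ⟨C', τ', hC'D, hP', -, hOT', hax, -⟩ := transv h.pgrp h.odd h.rank h.s₂ h.r₂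
    (D := E₁ ⊓ E₂) inferInstance inf_le_right hD₂ hT.a_not hDa
  have he' : e ∉ C' := fun hm => by
    refine hax z hT.z_mem (fun hz => hT.z_not hz.1) ?_
    have h1 : z * a * z⁻¹ * a⁻¹ = e⁻¹ := by rw [he]; group
    rw [h1]
    exact C'.inv_mem hm
  -- `C' = C`
  have hle : C' ≤ C := by
    intro x hx
    have hxD := hC'D hx
    rw [← sup_zpowers_eq hCD hC heD hT.az, Subgroup.mem_sup_of_normal_left] at hxD
    obtain ⟨c, hc, w, hw, rfl⟩ := hxD
    obtain ⟨i, rfl⟩ := Subgroup.mem_zpowers_iff.1 hw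
    by_cases hpi : (p : ℤ) ∣ i
    · obtain ⟨k, rfl⟩ := hpi
      rwa [zpow_mul, zpow_natCast, he_p, one_zpow, mul_one]
    · exfalso
      have h1 : τ (c * e ^ i) ∈ C' := hP'.invB τ hT.plane.tau.mem _ hx
      rw [map_mul, hT.fix c hc, map_zpow, hτe] at h1
      have h2 : e ^ ((-2 : ℤ) * i) ∈ C' := by
        have h3 := C'.mul_mem (C'.inv_mem hx) h1
        have h4 : (c * e ^ i)⁻¹ * (c * e⁻¹ ^ i) = e ^ ((-2 : ℤ) * i) := by
          rw [inv_zpow', mul_inv_rev, mul_assoc, inv_mul_cancel_left, ← zpow_neg, ← zpow_add]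
          congr 1
          ring
        rwa [h4] at h3
      have hnd : ¬ (p : ℤ) ∣ (-2 : ℤ) * i := by
        intro hd
        rcases (Nat.prime_iff_prime_int.1 hp).dvd_mul.1 hd with h' | h'
        · have h5 : p ∣ 2 := by simpa using Int.natAbs_dvd_natAbs.2 h'
          obtain ⟨k, hk⟩ := h.odd
          rcases (Nat.dvd_prime Nat.prime_two).1 h5 with h6 | h6
          · exact hp.ne_one h6
          · omega
        · exact hpi h'
      obtain ⟨u, v, huv⟩ := ((Nat.prime_iff_prime_int.1 hp).coprime_iff_not_dvd).2 hnd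
      apply he'
      have h6 : e = e ^ (u * (p : ℤ) + v * ((-2 : ℤ) * i)) := by rw [huv, zpow_one]
      rw [h6, zpow_add, mul_comm u, zpow_mul, zpow_natCast, he_p, one_zpow, one_mul,
        mul_comm v, zpow_mul]
      exact C'.zpow_mem h2 v
  have heq : C' = C := by
    refine le_antisymm hle (Subgroup.relIndex_eq_one.1 ?_)
    have h1 := Subgroup.relIndex_mul_relIndex C' (E₁ ⊓ E₂) E₂ hC'D inf_le_right
    rw [hP'.index, hD₂, pow_two] at h1
    have h2 := Subgroup.relIndex_mul_relIndex C' C (E₁ ⊓ E₂) hle hCD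
    rw [Nat.eq_of_mul_eq_mul_right hp.pos h1, hC] at h2
    exact (Nat.mul_eq_right hp.ne_zero).1 h2
  subst heq
  have hbot : C' = ⊥ := hI C' ⟨hT.plane.normal, hT.plane.le, hT.le, hT.plane.invB, hT.plane.inv,
    hP'.inv, moves_of_otriv h.s₁ h.pgrp hT.plane.le hT.plane.normal hT.otriv,
    moves_of_otriv h.s₂ h.pgrp hP'.le hP'.normal hOT'⟩
  subst hbot
  refine ⟨?_, ⟨a, z, hT.az⟩, ⟨τ, hT.plane⟩, ⟨τ', hP'⟩⟩
  rw [← Subgroup.relIndex_mul_index (bot_le : (⊥ : Subgroup G) ≤ E₁), hT.plane.index, h.s₁.index]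
  ring

end Cfsg.Agent.CharPair
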