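import Cfsg.Agent.CharPair.Tools
import Cfsg.Agent.PGroup.Frattini

/-!
# the symplectic top (S5189)

`e = [a,b] ≠ 1` is in `C` and `C` is central; `E₂` is abelian, its `p`-th powers form a good subgroup,
so it is elementary of order `p³` and `C = ⟨e⟩`. An invariant subgroup of `E₂` is one of `⊥, C, D, E₂`;
`C` would be good. If `D` were invariant, two conjugates of `c_a` would give an involution inverting
`D` and commuting with `c_a`, so `c_a` would fix an element of `z D`, against `[a,z] ∉ C`.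
-/

set_option autoImplicit false
set_option maxHeartbeats 1000000

open Cfsg.Agent.FusRankThree

namespace Cfsg.Agent.CharPair

universe u

variable {G : Type u} [Group G] [Finite G] {p : ℕ} [Fact p.Prime] {E₁ E₂ : Subgroup G}
  {A₁ : Subgroup (MulAut E₁)} {A₂ : Subgroup (MulAut E₂)} {B : Subgroup (MulAut G)}

namespace TopSpAux

omit [Finite G] in
theorem eq_or_eq_of_relIndex {A H K : Subgroup G} (h1 : A ≤ H) (h2 : H ≤ K)
    (h : A.relIndex K = p) : H = A ∨ H = K := by
  have hm := Subgroup.relIndex_mul_relIndex A H K h1 h2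
  rw [h] at hm
  rcases (Nat.dvd_prime (Fact.out : p.Prime)).1 (Dvd.intro _ hm) with e | e
  · exact Or.inl (le_antisymm (Subgroup.relIndex_eq_one.1 e) h1)
  · rw [e] at hm
    exact Or.inr (le_antisymm h2 (Subgroup.relIndex_eq_one.1
      (Nat.mul_left_cancel (Fact.out : p.Prime).pos (by rw [hm, mul_one]))))

omit [Finite G] in
theorem le_of_relIndex {A H K : Subgroup G} (hK : A ≤ K) (h : A.relIndex K = p) (h1 : A ≤ H)
    {x : G} (hxK : x ∈ K) (hxH : x ∈ H) (hxA : x ∉ A) : K ≤ H := by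
  rcases eq_or_eq_of_relIndex (le_inf h1 hK) inf_le_right h with e | e
  · exact absurd (e.le ⟨hxH, hxK⟩) hxA
  · exact e ▸ inf_le_left

omit [Finite G] [Fact p.Prime] in
theorem mul_pow_two_step {a b e : G} (ha : Commute a e) (hb : Commute b e)
    (h : b * a = a * b * e) : ∀ n : ℕ, (a * b) ^ n = a ^ n * b ^ n * e ^ n.choose 2 := by
  have hba : ∀ n : ℕ, b ^ n * a = a * b ^ n * e ^ n := by
    intro n
    induction n with
    | zero => simp
    | succ n ih =>
      calc b ^ (n + 1) * a = b ^ n * (b * a) := by rw [pow_succ, mul_assoc]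
        _ = b ^ n * a * (b * e) := by rw [h]; group
        _ = a * b ^ n * (e ^ n * b) * e := by rw [ih]; group
        _ = a * b ^ n * (b * e ^ n) * e := by rw [(hb.pow_right n).eq]
        _ = _ := by rw [pow_succ, pow_succ]; group
  intro n
  induction n with
  | zero => simp
  | succ n ih =>
    have hc : (n + 1).choose 2 = n + n.choose 2 := by
      rw [Nat.choose_succ_succ', Nat.choose_one_right]
    calc (a * b) ^ (n + 1) = a ^ n * b ^ n * (e ^ n.choose 2 * a) * b := by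
          rw [pow_succ, ih]; group
      _ = a ^ n * b ^ n * (a * e ^ n.choose 2) * b := by rw [(ha.pow_right _).eq]
      _ = a ^ n * (b ^ n * a) * (e ^ n.choose 2 * b) := by group
      _ = a ^ n * (a * b ^ n * e ^ n) * (b * e ^ n.choose 2) := by
          rw [hba n, (hb.pow_right _).eq]
      _ = a ^ n * a * b ^ n * (e ^ n * b) * e ^ n.choose 2 := by group
      _ = a ^ n * a * b ^ n * (b * e ^ n) * e ^ n.choose 2 := by rw [(hb.pow_right n).eq]
      _ = _ := by rw [hc, pow_succ, pow_succ, pow_add]; group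

omit [Fact p.Prime] in
theorem half (ho : Odd (Nat.card G)) (a : G) : ∃ k : ℕ, a ^ k * a ^ k = a := by
  obtain ⟨r, hr⟩ : Odd (orderOf a) := ho.of_dvd_nat (orderOf_dvd_natCard a)
  refine ⟨r + 1, ?_⟩
  rw [← pow_add, show r + 1 + (r + 1) = orderOf a + 1 by omega, pow_succ, pow_orderOf_eq_one,
    one_mul]

omit [Fact p.Prime] in
theorem eq_one_of_sq (ho : Odd (Nat.card G)) {a : G} (h : a * a = 1) : a = 1 := by
  obtain ⟨k, hk⟩ := half ho a
  rw [← (Commute.refl a).mul_pow, h, one_pow] at hk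
  exact hk.symm

end TopSpAux

open TopSpAux in
theorem top_sp (h : Pair p E₁ E₂ A₁ A₂ B) (hI : Irr p A₁ A₂ B) {C : Subgroup G} {τ : MulAut G}
    {a b z : G} (hT : TopFrame p E₁ E₂ A₁ B C τ a b z) (hab : a * b ≠ b * a) :
    SpOver p A₁ A₂ B (⊥ : Subgroup G) := by
  classical
  have hp : p.Prime := Fact.out
  have hn₁ := h.s₁.normal
  have hn₂ := h.s₂.normal
  have hodd : Odd (Nat.card G) := by
    obtain ⟨n, hn⟩ := IsPGroup.iff_card.1 h.pgrp
    rw [hn]; exact h.odd.pow
  set D := E₁ ⊓ E₂ with hDdef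
  have hCn := hT.plane.normal
  have hCE₁ := hT.plane.le
  have hCD : C ≤ D := le_inf hCE₁ hT.le
  -- indices
  have hD₁ : D.relIndex E₁ = p := by
    rw [hDdef, Subgroup.inf_relIndex_left]
    rcases (Nat.dvd_prime hp).1 (h.s₂.index ▸ Subgroup.relIndex_dvd_index_of_normal E₂ E₁) with e | e
    · exact absurd (Subgroup.relIndex_eq_one.1 e hT.a_mem) hT.a_not
    · exact e
  have hD₂ : D.relIndex E₂ = p := by
    rw [hDdef, inf_comm, Subgroup.inf_relIndex_left]
    rcases (Nat.dvd_prime hp).1 (h.s₁.index ▸ Subgroup.relIndex_dvd_index_of_normal E₁ E₂) with e | e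
    · exact absurd (Subgroup.relIndex_eq_one.1 e hT.z_mem) hT.z_not
    · exact e
  have hCD' : C.relIndex D = p := by
    have h0 := Subgroup.relIndex_mul_relIndex C D E₁ hCD inf_le_left
    rw [hD₁, hT.plane.index, pow_two] at h0
    exact Nat.mul_right_cancel hp.pos h0
  have haD : a ∉ D := fun hh => hT.a_not hh.2
  have hzD : z ∉ D := fun hh => hT.z_not hh.1
  have genD : ∀ H : Subgroup G, C ≤ H → b ∈ H → D ≤ H := fun H h1 h2 =>
    le_of_relIndex hCD hCD' h1 hT.b_mem h2 hT.b_not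
  have gen₁ : ∀ H : Subgroup G, D ≤ H → a ∈ H → E₁ ≤ H := fun H h1 h2 =>
    le_of_relIndex inf_le_left hD₁ h1 hT.a_mem h2 haD
  have gen₂ : ∀ H : Subgroup G, D ≤ H → z ∈ H → E₂ ≤ H := fun H h1 h2 =>
    le_of_relIndex inf_le_right hD₂ h1 hT.z_mem h2 hzD
  -- `C` is central
  have hcen : ∀ g : G, ∀ c ∈ C, g * c = c * g := by
    intro g c hc
    have hD : D ≤ Subgroup.centralizer ({c} : Set G) :=
      genD _ (fun d hd => Subgroup.mem_centralizer_singleton_iff.2 (hT.c_comm d hd c hc))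
        (Subgroup.mem_centralizer_singleton_iff.2 (hT.b_comm c hc))
    have h1 : E₁ ≤ Subgroup.centralizer ({c} : Set G) :=
      gen₁ _ hD (Subgroup.mem_centralizer_singleton_iff.2 (hT.a_comm c hc))
    have h2 : (⊤ : Subgroup G) ≤ Subgroup.centralizer ({c} : Set G) :=
      le_of_relIndex le_top (by rw [Subgroup.relIndex_top_right, h.s₁.index]) h1 (Subgroup.mem_top z)
        (Subgroup.mem_centralizer_singleton_iff.2 (hT.z_cent c (hT.le hc))) hT.z_not
    exact Subgroup.mem_centralizer_singleton_iff.1 (h2 (Subgroup.mem_top g))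
  have normC : ∀ {X : Subgroup G}, X ≤ C → X.Normal := fun {X} hX => ⟨fun x hx g => by
    rw [hcen g x (hX hx), mul_inv_cancel_right]; exact hx⟩
  -- commutators in `E₁`
  have comm₁ : ∀ x ∈ E₁, ∀ y ∈ E₁, x * y * x⁻¹ * y⁻¹ ∈ C := by
    intro x hx y hy
    have hq : Nat.card (↥E₁ ⧸ C.subgroupOf E₁) = p ^ 2 := hT.plane.index
    have e := IsPGroup.commutative_of_card_eq_prime_sq hq
      (QuotientGroup.mk' _ (⟨x, hx⟩ : E₁)) (QuotientGroup.mk' _ (⟨y, hy⟩ : E₁))
    rw [← map_mul, ← map_mul, eq_comm] at e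
    have e1 := QuotientGroup.eq.1 e
    have e2 := hCn.conj_mem _ e1 ((y : G) * x)
    simpa [mul_assoc] using e2
  have comm_top : ∀ g x : G, g * x * g⁻¹ * x⁻¹ ∈ E₁ := by
    intro g x
    have hq : Nat.card (G ⧸ E₁) = p := h.s₁.index
    have := isCyclic_of_prime_card hq
    obtain ⟨γ, hγ⟩ := IsCyclic.exists_generator (α := G ⧸ E₁)
    obtain ⟨i, hi⟩ := Subgroup.mem_zpowers_iff.1 (hγ (QuotientGroup.mk' E₁ g))
    obtain ⟨j, hj⟩ := Subgroup.mem_zpowers_iff.1 (hγ (QuotientGroup.mk' E₁ x))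
    refine (QuotientGroup.eq_one_iff (N := E₁) _).1 ?_
    show QuotientGroup.mk' E₁ (g * x * g⁻¹ * x⁻¹) = 1
    rw [map_mul, map_mul, map_mul, map_inv, map_inv, ← hi, ← hj,
      ((Commute.refl γ).zpow_zpow i j).eq, mul_inv_cancel_right, mul_inv_cancel]
  -- `E₂` is abelian
  have habD : ∀ x ∈ D, ∀ y ∈ D, x * y = y * x := by
    intro x hx y hy
    have hb : ∀ d ∈ D, d * b = b * d := fun d hd => Subgroup.mem_centralizer_singleton_iff.1
      (genD (Subgroup.centralizer ({b} : Set G))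
        (fun c hc => Subgroup.mem_centralizer_singleton_iff.2 (hT.b_comm c hc).symm)
        (Subgroup.mem_centralizer_singleton_iff.2 rfl) hd)
    exact (Subgroup.mem_centralizer_singleton_iff.1
      (genD (Subgroup.centralizer ({x} : Set G))
        (fun c hc => Subgroup.mem_centralizer_singleton_iff.2 (hcen x c hc).symm)
        (Subgroup.mem_centralizer_singleton_iff.2 (hb x hx).symm) hy)).symm
  have hab₂ : ∀ x ∈ E₂, ∀ y ∈ E₂, x * y = y * x := by
    intro x hx y hy
    have hd : ∀ d ∈ D, d * x = x * d := fun d hd => (Subgroup.mem_centralizer_singleton_iff.1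
      (gen₂ (Subgroup.centralizer ({d} : Set G))
        (fun w hw => Subgroup.mem_centralizer_singleton_iff.2 (habD w hw d hd))
        (Subgroup.mem_centralizer_singleton_iff.2 (hT.z_cent d hd.2)) hx)).symm
    exact (Subgroup.mem_centralizer_singleton_iff.1
      (gen₂ (Subgroup.centralizer ({x} : Set G))
        (fun d hd' => Subgroup.mem_centralizer_singleton_iff.2 (hd d hd'))
        (Subgroup.mem_centralizer_singleton_iff.2 (hT.z_cent x hx)) hy)).symm
  -- `p`-th powers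
  have hzp : z ^ p ∈ C := by
    have hzD' : z ^ p ∈ D := ⟨h.s₁.index ▸ Subgroup.pow_index_mem E₁ z, E₂.pow_mem hT.z_mem p⟩
    have h2 := hT.plane.tau.neg _ hzD'.1
    rw [map_pow, hT.z_fix, ← pow_two] at h2
    obtain ⟨k, hk⟩ := half hodd (z ^ p)
    rw [← hk, ← pow_add, ← two_mul, pow_mul]
    exact C.pow_mem h2 k
  let S : Subgroup G :=
    { carrier := {x | x ∈ E₂ ∧ x ^ p ∈ C}
      one_mem' := ⟨E₂.one_mem, by rw [one_pow]; exact C.one_mem⟩
      mul_mem' := fun {x y} hx hy => ⟨E₂.mul_mem hx.1 hy.1, by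
        rw [(show Commute x y from hab₂ x hx.1 y hy.1).mul_pow]; exact C.mul_mem hx.2 hy.2⟩
      inv_mem' := fun {x} hx => ⟨E₂.inv_mem hx.1, by rw [inv_pow]; exact C.inv_mem hx.2⟩ }
  have hS : E₂ ≤ S := gen₂ S (genD S (fun c hc => ⟨hT.le hc, C.pow_mem hc p⟩)
    ⟨hT.b_mem.2, by rw [hT.b_pow]; exact C.one_mem⟩) ⟨hT.z_mem, hzp⟩
  have fixC : ∀ l ∈ Lgen A₁, ∀ x : E₁, (x : G) ∈ C → ((l x : E₁) : G) = x := by
    intro l hl x hx
    have h1 := lgen_trivOn hn₁ h.s₁.cT_le (X := C) (M := ⊥) hCn inferInstance bot_le hT.plane.inv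
      (fun α _ x hx => by
        rw [Subgroup.mem_bot] at hx ⊢
        rw [show x = 1 from Subtype.ext hx, map_one]; rfl)
      (fun g c hc => by
        rw [hcen g c hc, mul_inv_cancel_right, inv_mul_cancel]; exact Subgroup.one_mem _) l hl x hx
    exact (inv_mul_eq_one.1 (Subgroup.mem_bot.1 h1)).symm
  let X : Subgroup G :=
    { carrier := {g | ∃ x ∈ E₂, x ^ p = g}
      one_mem' := ⟨1, E₂.one_mem, one_pow p⟩
      mul_mem' := by
        rintro _ _ ⟨x, hx, rfl⟩ ⟨y, hy, rfl⟩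
        exact ⟨x * y, E₂.mul_mem hx hy, (show Commute x y from hab₂ x hx y hy).mul_pow p⟩
      inv_mem' := by
        rintro _ ⟨x, hx, rfl⟩
        exact ⟨x⁻¹, E₂.inv_mem hx, inv_pow x p⟩ }
  have hXC : X ≤ C := by
    rintro _ ⟨x, hx, rfl⟩
    exact (hS hx).2
  have hXB : InvB B X := by
    rintro β hβ _ ⟨x, hx, rfl⟩
    obtain ⟨α, -, hαβ⟩ := h.r₂ β hβ
    exact ⟨β x, hαβ ⟨x, hx⟩ ▸ (α ⟨x, hx⟩).2, (map_pow β x p).symm⟩
  have hXbot : X = ⊥ := by
    refine hI X ⟨normC hXC, hXC.trans hCE₁, hXC.trans hT.le, hXB,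
      invA_of_invB h.s₁ h.pgrp (hXC.trans hCE₁) hXB
        (fun l hl x hx => (fixC l hl x (hXC hx)).symm ▸ hx),
      ?_, moves_of_otriv h.s₁ h.pgrp (hXC.trans hCE₁) (normC hXC)
        (fun α hα hc x hx => hT.otriv α hα hc x (hXC hx)), ?_⟩
    · rintro α - x ⟨y, hy, hyx⟩
      refine ⟨(α ⟨y, hy⟩ : E₂), SetLike.coe_mem _, ?_⟩
      rw [← SubgroupClass.coe_pow, ← map_pow, show (⟨y, hy⟩ : E₂) ^ p = x from Subtype.ext hyx]
    · have hX2 : InvA A₂ X := by
        rintro α - x ⟨y, hy, hyx⟩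
        refine ⟨(α ⟨y, hy⟩ : E₂), SetLike.coe_mem _, ?_⟩
        rw [← SubgroupClass.coe_pow, ← map_pow, show (⟨y, hy⟩ : E₂) ^ p = x from Subtype.ext hyx]
      refine moves_of_frattini h.s₂ h.pgrp (hXC.trans hT.le) (normC hXC) hX2 ?_
      have hle : X ≤ (frattini E₂).map E₂.subtype := by
        rintro _ ⟨y, hy, rfl⟩
        exact ⟨_, PGroup.pow_mem_frattini (h.pgrp.to_subgroup E₂) ⟨y, hy⟩, by simp⟩
      rw [inf_eq_left.2 hle, Subgroup.relIndex_self]
      exact hp.one_le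
  have hexp₂ : ∀ x ∈ E₂, x ^ p = 1 := fun x hx => by
    have h1 : x ^ p ∈ X := ⟨x, hx, rfl⟩
    rwa [hXbot, Subgroup.mem_bot] at h1
  have hcomm₂ : ∀ x ∈ E₂, ∀ y ∈ E₂, x * y * x⁻¹ * y⁻¹ = 1 := fun x hx y hy => by
    rw [hab₂ x hx y hy, mul_inv_cancel_right, mul_inv_cancel]
  -- the order of `C`
  set e := a * b * a⁻¹ * b⁻¹ with hedef
  have heC : e ∈ C := comm₁ a hT.a_mem b hT.b_mem.1
  have he1 : e ≠ 1 := fun he => hab (by
    have h1 := congrArg (fun t => t * b * a) he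
    simpa [e, mul_assoc] using h1)
  have hcardE₂ : Nat.card E₂ = Nat.card C * p * p := by
    rw [← Subgroup.relIndex_bot_left (H := C), ← Subgroup.relIndex_bot_left (H := E₂),
      ← Subgroup.relIndex_mul_relIndex ⊥ D E₂ bot_le inf_le_right,
      ← Subgroup.relIndex_mul_relIndex ⊥ C D bot_le hCD, hCD', hD₂]
  have hcardC : Nat.card C = p := by
    have hr := h.rank E₂ ⊥ bot_le (fun x hx => by rw [hexp₂ x hx]; exact Subgroup.one_mem _)
      (fun x hx y hy => by rw [hcomm₂ x hx y hy]; exact Subgroup.one_mem _)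
    rw [Subgroup.relIndex_bot_left, hcardE₂] at hr
    obtain ⟨n, hn⟩ := IsPGroup.iff_card.1 (h.pgrp.to_subgroup C)
    rw [hn] at hr ⊢
    have hne : n ≠ 0 := by
      rintro rfl
      rw [pow_zero] at hn
      exact he1 (Subgroup.mem_bot.1 ((Subgroup.card_eq_one.1 hn).le heC))
    have hn1 : n + 2 ≤ 3 := by
      refine (Nat.pow_le_pow_iff_right hp.one_lt).1 ?_
      rw [pow_add, pow_two, ← mul_assoc]; exact hr
    rw [show n = 1 by omega, pow_one]
  have hbotC : (⊥ : Subgroup G).relIndex C = p := by rw [Subgroup.relIndex_bot_left, hcardC]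
  have genC : ∀ {H : Subgroup G} {x : G}, x ∈ C → x ∈ H → x ≠ 1 → C ≤ H := fun {H x} hx hxH hx1 =>
    le_of_relIndex bot_le hbotC bot_le hx hxH (fun hh => hx1 (Subgroup.mem_bot.1 hh))
  -- exponent of `E₁`
  have hexp₁ : ∀ x ∈ E₁, x ^ p = 1 := by
    intro x hx
    have hDn : D.Normal := Subgroup.normal_inf_normal E₁ E₂
    have hle : E₁ ≤ Subgroup.zpowers a ⊔ D := gen₁ _ le_sup_right
      (Subgroup.mem_sup_left (Subgroup.mem_zpowers a))
    obtain ⟨u, hu, d, hd, rfl⟩ := Subgroup.mem_sup_of_normal_right.1 (hle hx)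
    obtain ⟨i, rfl⟩ := Subgroup.mem_zpowers_iff.1 hu
    set ε := d⁻¹ * (a ^ i)⁻¹ * d * a ^ i with hε
    have hεC : ε ∈ C := by
      have := comm₁ d⁻¹ (E₁.inv_mem hd.1) (a ^ i)⁻¹ (E₁.inv_mem (E₁.zpow_mem hT.a_mem i))
      simpa [ε, mul_assoc] using this
    rw [mul_pow_two_step (e := ε) (hcen _ _ hεC) (hcen _ _ hεC) (by rw [hε]; group) p,
      hexp₂ d hd.2, mul_one]
    have hap : (a ^ i) ^ p = 1 := by
      rw [← zpow_natCast, zpow_comm, zpow_natCast, hT.a_pow, one_zpow]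
    obtain ⟨t, ht⟩ : p ∣ p.choose 2 := hp.dvd_choose_self two_ne_zero
      (lt_of_le_of_ne hp.two_le fun e2 => by
        obtain ⟨r, hr⟩ := h.odd
        omega)
    rw [hap, one_mul, ht, pow_mul, hexp₂ ε (hT.le hεC), one_pow]
  -- invariant subgroups of `E₂`
  have hnotC : ¬ InvA A₂ C := by
    intro hinv
    have hC : C = ⊥ := hI C ⟨hCn, hCE₁, hT.le, hT.plane.invB, hT.plane.inv, hinv,
      moves_of_otriv h.s₁ h.pgrp hCE₁ hCn hT.otriv,
      moves_of_otriv h.s₂ h.pgrp hT.le hCn (otriv_of_relIndex_le h.pgrp hn₂ h.s₂.cT_le hT.le hCn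
        inferInstance bot_le hinv (fun α _ x hx => by
          rw [Subgroup.mem_bot] at hx ⊢
          rw [show x = 1 from Subtype.ext hx, map_one]; rfl) hbotC.le)⟩
    exact he1 (Subgroup.mem_bot.1 (hC.le heC))
  have comm_D : ∀ d ∈ D, a * d * a⁻¹ * d⁻¹ ∈ C := fun d hd => comm₁ a hT.a_mem d hd.1
  have hnotD : ¬ InvA A₂ D := by
    intro hinvD
    obtain ⟨α, hα, x, hxC, hfC⟩ :
        ∃ α ∈ A₂, ∃ x : E₂, (x : G) ∈ C ∧ ((α x : E₂) : G) ∉ C := by
      by_contra hne
      push Not at hne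
      exact hnotC hne
    have hfD : ((α x : E₂) : G) ∈ D := hinvD α hα x (hCD hxC)
    let c : MulAut E₂ := E₂.normalizerMonoidHom
      ⟨a, by rw [Subgroup.normalizer_eq_top]; exact Subgroup.mem_top a⟩
    have hc : c ∈ cT E₂ := ⟨_, rfl⟩
    have hcA : c ∈ A₂ := h.s₂.cT_le hc
    have c_val : ∀ y : E₂, ((c y : E₂) : G) = a * y * a⁻¹ := fun _ => rfl
    have fixc : ∀ y : E₂, (y : G) ∈ C → c y = y := fun y hy => Subtype.ext (by
      rw [c_val, hcen a _ hy, mul_inv_cancel_right])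
    set f := α x with hf
    -- two transvections
    obtain ⟨ε, hεC, hcf, hε1⟩ : ∃ ε : E₂, (ε : G) ∈ C ∧ c f = f * ε ∧ ε ≠ 1 := by
      refine ⟨f⁻¹ * c f, ?_, (mul_inv_cancel_left _ _).symm, fun h1 => ?_⟩
      · show (f : G)⁻¹ * (a * f * a⁻¹) ∈ C
        have := hCn.conj_mem _ (comm_D _ hfD) (f : G)⁻¹
        simpa [mul_assoc] using this
      · have hfa : a * f = f * a := by
          have h2 := congrArg Subtype.val (inv_mul_eq_one.1 h1)
          rw [c_val] at h2
          exact mul_inv_eq_iff_eq_mul.1 h2.symm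
        have hD' : D ≤ Subgroup.centralizer ({a} : Set G) := le_of_relIndex hCD hCD'
          (fun d hd => Subgroup.mem_centralizer_singleton_iff.2 (hcen a d hd).symm) hfD
          (Subgroup.mem_centralizer_singleton_iff.2 hfa.symm) hfC
        exact hab (Subgroup.mem_centralizer_singleton_iff.1 (hD' hT.b_mem)).symm
    have hεne : (ε : G) ≠ 1 := fun h1 => hε1 (Subtype.ext h1)
    set y := α⁻¹ ε with hy
    have hyD : (y : G) ∈ D := hinvD α⁻¹ (A₂.inv_mem hα) ε (hCD hεC)
    -- the image of `C` under `α` is `⟨f⟩`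
    have himg : ∀ w : E₂, (w : G) ∈ C → ∃ k : ℤ, α w = f ^ k := by
      intro w hw
      have hxne : (x : G) ≠ 1 := fun h1 => hfC (by
        rw [hf, show x = 1 from Subtype.ext h1, map_one]; exact C.one_mem)
      obtain ⟨k, hk⟩ := Subgroup.mem_zpowers_iff.1
        (genC (H := Subgroup.zpowers (x : G)) hxC (Subgroup.mem_zpowers _) hxne hw)
      exact ⟨k, by rw [hf, ← map_zpow]; exact congrArg α (Subtype.ext (by simp [hk]))⟩
    have hfzC : ∀ k : ℤ, ((f ^ k : E₂) : G) ∈ C → f ^ k = 1 := by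
      intro k hk
      by_contra hne
      have hle : (f : G) ∈ Subgroup.zpowers ((f ^ k : E₂) : G) := by
        have hfp : (f : G) ^ p = 1 := hexp₂ _ f.2
        have hcard : Nat.card (Subgroup.zpowers (f : G)) = p := by
          rw [Nat.card_zpowers]
          exact orderOf_eq_prime hfp fun h1 => hfC (h1 ▸ C.one_mem)
        exact le_of_relIndex (A := ⊥) (K := Subgroup.zpowers (f : G)) bot_le
          (by rw [Subgroup.relIndex_bot_left, hcard]) bot_le
          (show ((f ^ k : E₂) : G) ∈ Subgroup.zpowers (f : G) from ⟨k, by simp⟩)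
          (Subgroup.mem_zpowers _) (fun h1 => hne (Subtype.ext (Subgroup.mem_bot.1 h1)))
          (Subgroup.mem_zpowers _)
      exact hfC (Subgroup.zpowers_le.2 hk hle)
    have hyC : (y : G) ∉ C := by
      intro hh
      obtain ⟨k, hk⟩ := himg y hh
      rw [hy, MulAut.apply_inv_self] at hk
      exact hε1 (hk.trans (hfzC k (hk ▸ hεC)))
    set δ := y⁻¹ * c y with hδ
    have hδC : (δ : G) ∈ C := by
      show (y : G)⁻¹ * (a * y * a⁻¹) ∈ C
      have := hCn.conj_mem _ (comm_D _ hyD) (y : G)⁻¹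
      simpa [mul_assoc] using this
    have hδ1 : δ ≠ 1 := by
      intro h1
      have h2 := congrArg Subtype.val (inv_mul_eq_one.1 h1)
      rw [c_val] at h2
      have hD' : D ≤ Subgroup.centralizer ({a} : Set G) := le_of_relIndex hCD hCD'
        (fun d hd => Subgroup.mem_centralizer_singleton_iff.2 (hcen a d hd).symm) hyD
        (Subgroup.mem_centralizer_singleton_iff.2 (mul_inv_eq_iff_eq_mul.1 h2.symm).symm) hyC
      exact hab (Subgroup.mem_centralizer_singleton_iff.1 (hD' hT.b_mem)).symm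
    obtain ⟨m, hm⟩ := himg δ hδC
    obtain ⟨k, hk⟩ : ∃ k : ℕ, (α δ) ^ k = f⁻¹ := by
      have hne : ((α δ : E₂) : G) ≠ 1 := fun h1 => hδ1 (α.injective (by
        rw [map_one]; exact Subtype.ext h1))
      have hord : orderOf (α δ) = p :=
        orderOf_eq_prime (Subtype.ext (by simpa using hexp₂ _ (α δ).2))
          fun h1 => hne (by rw [h1]; rfl)
      have hfne : orderOf f = p := orderOf_eq_prime (Subtype.ext (by simpa using hexp₂ _ f.2))
        fun h1 => hfC (by rw [h1]; exact C.one_mem)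
      have hle : Subgroup.zpowers (α δ) ≤ Subgroup.zpowers f :=
        Subgroup.zpowers_le.2 ⟨m, hm.symm⟩
      have heq : Subgroup.zpowers (α δ) = Subgroup.zpowers f :=
        Subgroup.eq_of_le_of_card_ge hle (by rw [Nat.card_zpowers, Nat.card_zpowers, hord, hfne])
      have hmem : f⁻¹ ∈ Subgroup.zpowers (α δ) := heq ▸ Subgroup.inv_mem _ (Subgroup.mem_zpowers f)
      exact mem_powers_iff_mem_zpowers.2 hmem
    set c' := α * c * α⁻¹ with hc'
    have hc'L : c' ∈ Lgen A₂ := lgen_conj hα (cT_le_lgen hc)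
    have hc'f : c' f = f := by
      rw [hc', MulAut.mul_apply, MulAut.mul_apply, hf, MulAut.inv_apply_self, fixc x hxC]
    have hc'ε : c' ε = ε * α δ := by
      rw [hc', MulAut.mul_apply, MulAut.mul_apply, ← hy,
        show c y = y * δ from (mul_inv_cancel_left _ _).symm, map_mul, hy, MulAut.apply_inv_self]
    have hc'δ : c' (α δ) = α δ := by rw [hm, map_zpow, hc'f]
    set v := c' ^ k with hv
    have hvpow : ∀ n : ℕ, (c' ^ n) ε = ε * (α δ) ^ n ∧ (c' ^ n) f = f := by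
      intro n
      induction n with
      | zero => simp
      | succ n ih =>
        simp only [pow_succ', MulAut.mul_apply, ih.1, ih.2, map_mul, map_pow, hc'ε, hc'δ, hc'f,
          mul_assoc, and_self]
    have hvε : v ε = ε * f⁻¹ := by rw [hv, (hvpow k).1, hk]
    have hvf : v f = f := (hvpow k).2
    have cmul : ∀ y w : E₂, y * w = w * y := fun y w => Subtype.ext (hab₂ _ y.2 _ w.2)
    set w := c * v * c with hw
    have hwL : w ∈ Lgen A₂ :=
      Subgroup.mul_mem _ (Subgroup.mul_mem _ (cT_le_lgen hc) (Subgroup.pow_mem _ hc'L k))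
        (cT_le_lgen hc)
    have hcε : c ε = ε := fixc ε hεC
    have hwε : w ε = f⁻¹ := by
      rw [hw, MulAut.mul_apply, MulAut.mul_apply, hcε, hvε, map_mul, map_inv, hcε, hcf, mul_inv_rev,
        ← mul_assoc, mul_inv_cancel, one_mul]
    have hwf : w f = ε := by
      rw [hw, MulAut.mul_apply, MulAut.mul_apply, hcf, map_mul, hvf, hvε, cmul ε f⁻¹,
        ← mul_assoc, mul_inv_cancel, one_mul, hcε]
    set i := w * w with hi
    have hiL : i ∈ Lgen A₂ := Subgroup.mul_mem _ hwL hwL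
    have hiA : i ∈ A₂ := lgen_le h.s₂.cT_le hiL
    have hiε : i ε = ε⁻¹ := by rw [hi, MulAut.mul_apply, hwε, map_inv, hwf]
    have hif : i f = f⁻¹ := by rw [hi, MulAut.mul_apply, hwf, hwε]
    let T : Subgroup G :=
      { carrier := {g | ∃ y : E₂, (y : G) = g ∧ i y = y⁻¹}
        one_mem' := ⟨1, rfl, by simp⟩
        mul_mem' := by
          rintro _ _ ⟨y, rfl, hy⟩ ⟨y', rfl, hy'⟩
          exact ⟨y * y', rfl, by rw [map_mul, hy, hy', mul_inv_rev, cmul]⟩
        inv_mem' := by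
          rintro _ ⟨y, rfl, hy⟩
          exact ⟨y⁻¹, rfl, by rw [map_inv, hy]⟩ }
    have hDT : D ≤ T := le_of_relIndex hCD hCD' (genC hεC ⟨ε, rfl, hiε⟩ hεne) hfD ⟨f, rfl, hif⟩ hfC
    have hiD : ∀ y : E₂, (y : G) ∈ D → i y = y⁻¹ := fun y hy => by
      obtain ⟨y', e', h'⟩ := hDT hy
      rwa [Subtype.ext e'] at h'
    -- `Lgen A₂` centralises `E₂ / D`
    have hDn : D.Normal := Subgroup.normal_inf_normal E₁ E₂
    have htriv : ∀ l ∈ Lgen A₂, TrivOn l E₂ D :=
      lgen_trivOn hn₂ h.s₂.cT_le hn₂ hDn inf_le_right (fun α _ y _ => SetLike.coe_mem _) hinvD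
        fun g y hy => by
          refine ⟨?_, E₂.mul_mem (E₂.inv_mem hy) (hn₂.conj_mem y hy g)⟩
          have := hn₁.conj_mem _ (comm_top g y) y⁻¹
          simpa [mul_assoc] using this
    -- the automorphisms trivial on both layers
    have hN : ∀ n ∈ A₂, (∀ y : E₂, (y : G) ∈ D → n y = y) → TrivOn n E₂ D → n = 1 := by
      intro n hn hnD hnT
      let N : Subgroup (MulAut E₂) :=
        { carrier := {n | n ∈ A₂ ∧ (∀ y : E₂, (y : G) ∈ D → n y = y) ∧
            ∀ y : E₂, ((y⁻¹ * n y : E₂) : G) ∈ D}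
          one_mem' := ⟨A₂.one_mem, fun _ _ => rfl, fun y => by simp⟩
          mul_mem' := by
            rintro n n' ⟨h1, h2, h3⟩ ⟨h1', h2', h3'⟩
            refine ⟨A₂.mul_mem h1 h1', fun y hy => by rw [MulAut.mul_apply, h2' y hy, h2 y hy],
              fun y => ?_⟩
            have e : n (n' y) = n y * (y⁻¹ * n' y) := by
              conv_lhs => rw [show n' y = y * (y⁻¹ * n' y) by rw [mul_inv_cancel_left]]
              rw [map_mul, h2 _ (h3' y)]
            rw [MulAut.mul_apply, e, ← mul_assoc]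
            exact D.mul_mem (h3 y) (h3' y)
          inv_mem' := by
            rintro n ⟨h1, h2, h3⟩
            refine ⟨A₂.inv_mem h1, fun y hy => ?_, fun y => ?_⟩
            · conv_lhs => rw [← h2 y hy]
              rw [MulAut.inv_apply_self]
            · have h4 := D.inv_mem (h3 (n⁻¹ y))
              rw [MulAut.apply_inv_self] at h4
              simpa using h4 }
      have hnN : n ∈ N := ⟨hn, hnD, fun y => hnT y y.2⟩
      have hNp : IsPGroup p N := fun g => ⟨1, Subtype.ext (by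
        obtain ⟨g, hg1, hg2, hg3⟩ := g
        refine MulEquiv.ext fun y => ?_
        have hpow : ∀ j : ℕ, (g ^ j) y = y * (y⁻¹ * g y) ^ j := by
          intro j
          induction j with
          | zero => simp
          | succ j ih =>
            rw [pow_succ', MulAut.mul_apply, ih, map_mul, map_pow, hg2 _ (hg3 y)]
            rw [pow_succ', ← mul_assoc y, mul_inv_cancel_left]
        show (g ^ p ^ 1) y = y
        rw [hpow, pow_one]
        exact (congrArg (y * ·) (Subtype.ext (by simpa using hexp₂ _ (y⁻¹ * g y).2))).trans (mul_one y))⟩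
      have hnorm : cT E₂ ≤ Subgroup.normalizer (N : Set (MulAut E₂)) := by
        have key : ∀ γ ∈ cT E₂, ∀ n ∈ N, γ * n * γ⁻¹ ∈ N := by
          rintro γ hγ n ⟨h1, h2, h3⟩
          have hγA := h.s₂.cT_le hγ
          refine ⟨A₂.mul_mem (A₂.mul_mem hγA h1) (A₂.inv_mem hγA), fun y hy => ?_, fun y => ?_⟩
          · rw [MulAut.mul_apply, MulAut.mul_apply, h2 _ (hinvD γ⁻¹ (A₂.inv_mem hγA) y hy),
              MulAut.apply_inv_self]
          · have h4 := hinvD γ hγA _ (h3 (γ⁻¹ y))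
            rwa [map_mul, map_inv, MulAut.apply_inv_self] at h4
        intro γ hγ
        rw [Subgroup.mem_normalizer_iff]
        refine fun n => ⟨key γ hγ n, fun h1 => ?_⟩
        have h2 := key γ⁻¹ (inv_mem hγ) _ h1
        simpa [mul_assoc] using h2
      have hsup : cT E₂ ⊔ N ≤ A₂ := sup_le h.s₂.cT_le fun _ h1 => h1.1
      have hP : IsPGroup p (cT E₂ ⊔ N : Subgroup (MulAut E₂)) :=
        IsPGroup.to_sup_of_normal_right' (cT_isPGroup h.pgrp) hNp hnorm
      obtain ⟨g, hg⟩ := (mem_cT hn₂).1 (h.s₂.syl _ hsup hP le_sup_left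
        (Subgroup.mem_sup_right hnN))
      have hgb : g ∈ Subgroup.centralizer ({b} : Set G) := by
        rw [Subgroup.mem_centralizer_singleton_iff]
        have h1 := congrArg Subtype.val (hnD ⟨b, hT.b_mem.2⟩ hT.b_mem)
        rw [hg] at h1
        exact mul_inv_eq_iff_eq_mul.1 h1
      have hE₂b : E₂ ≤ Subgroup.centralizer ({b} : Set G) := fun y hy =>
        Subgroup.mem_centralizer_singleton_iff.2 (hab₂ y hy b hT.b_mem.2)
      have hgE : g ∈ E₂ := by
        rcases eq_or_eq_of_relIndex hE₂b le_top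
          (by rw [Subgroup.relIndex_top_right, h.s₂.index]) with e' | e'
        · exact e' ▸ hgb
        · exact absurd (Subgroup.mem_centralizer_singleton_iff.1 (e' ▸ Subgroup.mem_top a)) hab
      refine MulEquiv.ext fun y => Subtype.ext ?_
      rw [hg, hab₂ g hgE y y.2, mul_inv_cancel_right]
      rfl
    have hcomm : (c * i)⁻¹ * (i * c) = 1 := by
      have hL1 : (c * i)⁻¹ * (i * c) ∈ Lgen A₂ := Subgroup.mul_mem _
        (Subgroup.inv_mem _ (Subgroup.mul_mem _ (cT_le_lgen hc) hiL))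
        (Subgroup.mul_mem _ hiL (cT_le_lgen hc))
      refine hN _ (lgen_le h.s₂.cT_le hL1) (fun y hy => ?_) (htriv _ hL1)
      have e1 : (i * c) y = (c * i) y := by
        show i (c y) = c (i y)
        rw [hiD y hy, hiD _ (hinvD c hcA y hy), map_inv]
      rw [MulAut.mul_apply, e1, MulAut.inv_apply_self]
    rw [inv_mul_eq_one] at hcomm
    -- a fixed point of `i` in `z D`
    set Z : E₂ := ⟨z, hT.z_mem⟩
    set d₀ := Z⁻¹ * i Z with hd₀
    have hd₀D : (d₀ : G) ∈ D := htriv i hiL Z hT.z_mem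
    obtain ⟨r, hr⟩ := half hodd (d₀ : G)
    have hr' : d₀ ^ r * d₀ ^ r = d₀ := Subtype.ext (by simpa using hr)
    set z' := Z * d₀ ^ r with hz'
    have hdrD : ((d₀ ^ r : E₂) : G) ∈ D := by simpa using D.pow_mem hd₀D r
    have hiz' : i z' = z' := by
      rw [hz', map_mul, map_pow, hiD d₀ hd₀D, show i Z = Z * d₀ by rw [hd₀, mul_inv_cancel_left],
        inv_pow, mul_assoc]
      congr 1
      conv_lhs => enter [1]; rw [← hr']
      rw [mul_inv_cancel_right]
    set q := z'⁻¹ * c z' with hq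
    have hqD : (q : G) ∈ D := htriv c (cT_le_lgen hc) z' z'.2
    have hicz : i (c z') = c z' := by
      rw [← MulAut.mul_apply, ← hcomm, MulAut.mul_apply, hiz']
    have hq1 : q = 1 := by
      have h1 : i q = q := by rw [hq, map_mul, map_inv, hiz', hicz]
      rw [hiD q hqD] at h1
      have h2 : q * q = 1 := by nth_rw 1 [← h1]; rw [inv_mul_cancel]
      exact Subtype.ext (eq_one_of_sq hodd (congrArg Subtype.val h2))
    have hcz' : a * (z' : G) * a⁻¹ = z' :=
      (c_val z').symm.trans (congrArg Subtype.val (inv_mul_eq_one.1 hq1).symm)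
    refine hT.az ?_
    set d := ((d₀ ^ r : E₂) : G) with hd
    have hzd : z = (z' : G) * d⁻¹ := by
      rw [hz', hd, Subgroup.coe_mul, mul_inv_cancel_right]
    have h1 := comm_D d⁻¹ (D.inv_mem hdrD)
    have h2 := hCn.conj_mem _ h1 (z' : G)
    rw [hzd]
    have e3 : a * ((z' : G) * d⁻¹) * a⁻¹ * ((z' : G) * d⁻¹)⁻¹ =
        (z' : G) * (a * d⁻¹ * a⁻¹ * d⁻¹⁻¹) * (z' : G)⁻¹ :=
      calc a * ((z' : G) * d⁻¹) * a⁻¹ * ((z' : G) * d⁻¹)⁻¹
          = a * (z' : G) * a⁻¹ * (a * d⁻¹ * a⁻¹ * d⁻¹⁻¹) * (z' : G)⁻¹ := by group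
        _ = (z' : G) * (a * d⁻¹ * a⁻¹ * d⁻¹⁻¹) * (z' : G)⁻¹ := by rw [hcz']
    rw [e3]
    exact h2
  have hirred : ∀ Y : Subgroup G, (⊥ : Subgroup G) ≤ Y → Y ≤ E₂ → InvA A₂ Y →
      Y = ⊥ ∨ Y = E₂ := by
    intro Y _ hYE hYi
    by_cases hY : Y = ⊥
    · exact Or.inl hY
    refine Or.inr ?_
    have hYn : Y.Normal := normal_of_invB h.inn (invB_of_invA h.r₂ hYE hYi)
    have hDn : D.Normal := Subgroup.normal_inf_normal E₁ E₂
    let U : Subgroup G :=
      { carrier := {y | y ∈ E₂ ∧ a * y * a⁻¹ * y⁻¹ ∈ C}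
        one_mem' := ⟨E₂.one_mem, by simp⟩
        mul_mem' := fun {y y'} hy hy' => ⟨E₂.mul_mem hy.1 hy'.1, by
          have h1 := C.mul_mem hy.2 (hCn.conj_mem _ hy'.2 y)
          simpa [mul_assoc] using h1⟩
        inv_mem' := fun {y} hy => ⟨E₂.inv_mem hy.1, by
          have h1 := hCn.conj_mem _ (C.inv_mem hy.2) y⁻¹
          simpa [mul_assoc] using h1⟩ }
    have hDU : D ≤ U := fun d hd => ⟨hd.2, comm_D d hd⟩
    have hUz : ¬ E₂ ≤ U := fun hh => hT.az (hh hT.z_mem).2
    have hcY : ∀ y ∈ Y, a * y * a⁻¹ * y⁻¹ ∈ Y := fun y hy =>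
      Y.mul_mem (hYn.conj_mem y hy a) (Y.inv_mem hy)
    have hcD : ∀ y ∈ E₂, a * y * a⁻¹ * y⁻¹ ∈ D := fun y hy =>
      ⟨comm_top a y, E₂.mul_mem (hn₂.conj_mem y hy a) (E₂.inv_mem hy)⟩
    have hCY : C ≤ Y := by
      obtain ⟨y, hy, hy1⟩ := Subgroup.bot_or_exists_ne_one Y |>.resolve_left hY
      -- move into `D`
      obtain ⟨d, hdY, hdD, hd1⟩ : ∃ d ∈ Y, d ∈ D ∧ d ≠ 1 := by
        by_cases hyD : y ∈ D
        · exact ⟨y, hy, hyD, hy1⟩
        refine ⟨_, hcY y hy, hcD y (hYE hy), fun h1 => hUz ?_⟩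
        exact le_of_relIndex inf_le_right hD₂ hDU (hYE hy)
          ⟨hYE hy, by rw [h1]; exact C.one_mem⟩ hyD
      by_cases hdC : d ∈ C
      · exact genC hdC hdY hd1
      refine genC (comm_D d hdD) (hcY d hdY) fun h1 => hab ?_
      have hD' : D ≤ Subgroup.centralizer ({a} : Set G) := le_of_relIndex hCD hCD'
        (fun c hc => Subgroup.mem_centralizer_singleton_iff.2 (hcen a c hc).symm) hdD
        (Subgroup.mem_centralizer_singleton_iff.2
          (mul_inv_eq_iff_eq_mul.1 (mul_inv_eq_one.1 h1)).symm) hdC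
      exact (Subgroup.mem_centralizer_singleton_iff.1 (hD' hT.b_mem)).symm
    by_cases hYD : Y ≤ D
    · rcases eq_or_eq_of_relIndex hCY hYD hCD' with e' | e'
      · exact absurd (e' ▸ hYi) hnotC
      · exact absurd (e' ▸ hYi) hnotD
    obtain ⟨y, hy, hyD⟩ := SetLike.not_le_iff_exists.1 hYD
    refine le_antisymm hYE ?_
    have hyC : a * y * a⁻¹ * y⁻¹ ∉ C := fun h1 =>
      hUz (le_of_relIndex inf_le_right hD₂ hDU (hYE hy) ⟨hYE hy, h1⟩ hyD)
    have hDY : D ≤ Y := le_of_relIndex hCD hCD' hCY (hcD y (hYE hy)) (hcY y hy) hyC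
    exact le_of_relIndex inf_le_right hD₂ hDY (hYE hy) hy hyD
  refine ⟨?_, ⟨C, τ, hT.plane, bot_le, hT.le, hbotC, fun g c hc => ?_, fun c hc => ?_,
    a, hT.a_mem, b, hT.b_mem, fun h1 => he1 (Subgroup.mem_bot.1 h1)⟩,
    fun x hx => Subgroup.mem_bot.2 (hexp₁ x hx),
    ⟨fun x hx => Subgroup.mem_bot.2 (hexp₂ x hx),
      fun x hx y hy => Subgroup.mem_bot.2 (hcomm₂ x hx y hy)⟩, hirred⟩
  · rw [Subgroup.index_bot, ← Subgroup.card_mul_index E₂, h.s₂.index, hcardE₂, hcardC]
    ring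
  · rw [Subgroup.mem_bot, hcen g c hc, mul_inv_cancel_right, mul_inv_cancel]
  · rw [Subgroup.mem_bot, hT.fix c hc, inv_mul_cancel]

end Cfsg.Agent.CharPair
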