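import Cfsg.Agent.CharPair.Centre
import Cfsg.Agent.CharPair.TopFrame
import Cfsg.Agent.CharPair.TopHeis
import Cfsg.Agent.CharPair.TopSp
import Cfsg.Agent.CharPair.Quot
import Cfsg.Agent.CharPair.LayerSp
import Cfsg.Agent.CharPair.LayerHeis
import Cfsg.Agent.CharPair.DirectHeis
import Cfsg.Agent.CharPair.DirectSp
import Cfsg.Agent.CharPair.SpShape

/-!
# The two possible shapes (S5189)
-/

set_option autoImplicit false

open Cfsg.Agent.FusRankThree

namespace Cfsg.Agent.CharPair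

universe u

variable {G : Type u} [Group G] [Finite G] {p : ℕ} [Fact p.Prime] {E₁ E₂ : Subgroup G}
  {A₁ : Subgroup (MulAut E₁)} {A₂ : Subgroup (MulAut E₂)} {B : Subgroup (MulAut G)}

theorem good_bot (h : Pair p E₁ E₂ A₁ A₂ B) : Good p A₁ A₂ B (⊥ : Subgroup G) where
  normal := Subgroup.normal_bot
  le₁ := bot_le
  le₂ := bot_le
  invB := fun β _ x hx => by
    rw [Subgroup.mem_bot] at hx ⊢
    rw [hx, map_one]
  inv₁ := fun α _ x hx => by
    rw [Subgroup.mem_bot, OneMemClass.coe_eq_one] at hx ⊢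
    rw [hx, map_one]
  inv₂ := fun α _ x hx => by
    rw [Subgroup.mem_bot, OneMemClass.coe_eq_one] at hx ⊢
    rw [hx, map_one]
  moves₁ := h.s₁.moves
  moves₂ := h.s₂.moves

theorem top_layer (h : Pair p E₁ E₂ A₁ A₂ B) (hI : Irr p A₁ A₂ B) {z : G} (hz₂ : z ∈ E₂)
    (hz₁ : z ∉ E₁) (hzc : ∀ x ∈ E₂, z * x = x * z) :
    HeisOver p A₁ A₂ B (⊥ : Subgroup G) ∨ SpOver p A₁ A₂ B (⊥ : Subgroup G) := by
  obtain ⟨C, τ, a, b, z', hT⟩ := exists_topFrame h hz₂ hz₁ hzc
  rcases eq_or_ne (a * b) (b * a) with hab | hab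
  · exact Or.inl (top_heis h hI hT hab)
  · exact Or.inr (top_sp h hI hT hab)

/-- Either `G` is a Sylow subgroup of `Sp(4,p)`, or a nontrivial invariant subgroup lies in a
centre of index `p ^ 2`. -/
theorem main_alternative (h : Pair p E₁ E₂ A₁ A₂ B) (hnot2 : ¬ Cfsg.SectionalPRankLE p 2 G) :
    SpOver p A₁ A₂ B (⊥ : Subgroup G) ∨ SpOver p A₂ A₁ B (⊥ : Subgroup G) ∨
      ∃ K : Subgroup G, Good p A₁ A₂ B K ∧ K ≠ ⊥ ∧ K ≤ Subgroup.center G ∧
        (Subgroup.center G).index = p ^ 2 := by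
  obtain ⟨K, hK, hmax⟩ := (Set.toFinite {X : Subgroup G | Good p A₁ A₂ B X}).exists_maximal
    ⟨⊥, good_bot h⟩
  have hK' : Good p A₁ A₂ B K := hK
  haveI := hK'.normal
  have hq := pair_quot h hK'
  have hIq : Irr p (qA K A₁) (qA K A₂) (qB K B) := by
    intro X hX
    have h1 : K ≤ X.comap (QuotientGroup.mk' K) := by
      intro k hk
      rw [Subgroup.mem_comap, show QuotientGroup.mk' K k = 1 from
        (QuotientGroup.eq_one_iff k).2 hk]
      exact one_mem X
    have h2 : X.comap (QuotientGroup.mk' K) ≤ K := hmax (good_comap h hK' hX) h1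
    rw [← Subgroup.map_comap_eq_self_of_surjective (QuotientGroup.mk'_surjective K) X,
      le_antisymm h2 h1, QuotientGroup.map_mk'_self]
  rcases exists_central_outside hq hIq with ⟨z, hz₂, hz₁, hzc⟩ | ⟨z, hz₂, hz₁, hzc⟩
  · rcases top_layer hq hIq hz₂ hz₁ hzc with hH | hS
    · have hH' := heisOver_of_quot h hK' hH
      obtain ⟨o₁, o₂⟩ := layer_heis h hK' hH'
      exact Or.inr (Or.inr ⟨K, hK', direct_heis h hK' hH' o₁ o₂ hnot2⟩)
    · have hS' := spOver_of_quot h hK' hS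
      obtain ⟨o₁, o₂⟩ := layer_sp h hK' hS'
      have hb := direct_sp h hK' hS' o₁ o₂
      subst hb
      exact Or.inl hS'
  · rcases top_layer hq.symm (fun X hX => hIq X hX.symm) hz₂ hz₁ hzc with hH | hS
    · have hH' := heisOver_of_quot h.symm hK'.symm hH
      obtain ⟨o₁, o₂⟩ := layer_heis h.symm hK'.symm hH'
      exact Or.inr (Or.inr ⟨K, hK', direct_heis h.symm hK'.symm hH' o₁ o₂ hnot2⟩)
    · have hS' := spOver_of_quot h.symm hK'.symm hS
      obtain ⟨o₁, o₂⟩ := layer_sp h.symm hK'.symm hS'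
      have hb := direct_sp h.symm hK'.symm hS' o₁ o₂
      subst hb
      exact Or.inr (Or.inl hS')

end Cfsg.Agent.CharPair
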