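import Cfsg.Agent.CharPair.TransvLin
import Cfsg.Agent.PGroup.Basic

/-!
# the torus of a transvection (S5189)

Paper proof from exists_core_sq. x = image of c_z on V = E/C (order p²), y a conjugate with other
fixed line; w = x y' x (suitable power) maps b to e to b⁻¹, so w*w = -1 on V. The kernel of Lgen A
on V (trivial on C by p'-parts) is a normal p-group, so lies in cT E; hence w*w normalises cT E;
s.ext gives β ∈ B, replace by its p'-part. β acts trivially on G/E as it commutes with c_z modulo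
the inner ones. InvB C follows from Restricts.
-/

set_option autoImplicit false

open Cfsg.Agent.FusRankThree

namespace Cfsg.Agent.CharPair

universe u

variable {G : Type u} [Group G] [Finite G] {p : ℕ} [Fact p.Prime] {E : Subgroup G}
  {A : Subgroup (MulAut E)} {B : Subgroup (MulAut G)}

omit [Finite G] in
/-- A subgroup properly above `X` inside a step of index `p` is the whole step. -/
private theorem transv_step {X H Z : Subgroup G} (hXH : X ≤ H) (hHZ : H ≤ Z)
    (hi : X.relIndex Z = p) {h : G} (hh : h ∈ H) (hhX : h ∉ X) : Z ≤ H := by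
  have hm := Subgroup.relIndex_mul_relIndex X H Z hXH hHZ
  rw [hi] at hm
  rcases (Fact.out : p.Prime).eq_one_or_self_of_dvd _ ⟨_, hm.symm⟩ with h1 | h1
  · exact absurd (Subgroup.relIndex_eq_one.1 h1 hh) hhX
  · rw [h1] at hm
    exact Subgroup.relIndex_eq_one.1
      (Nat.eq_of_mul_eq_mul_left (Fact.out : p.Prime).pos (hm.trans (mul_one p).symm))

omit [Fact p.Prime] in
private theorem transv_pow_coprime [hp : Fact p.Prime] {M : Type*} [Group M] [Finite M] (g : M) :
    ∃ e : ℕ, (orderOf (g ^ p ^ e)).Coprime p := by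
  refine ⟨(orderOf g).factorization p, ?_⟩
  rw [orderOf_pow' g (pow_ne_zero _ hp.out.ne_zero),
    Nat.gcd_eq_right (Nat.ordProj_dvd (orderOf g) p)]
  exact (Nat.coprime_ordCompl hp.out (orderOf_pos g).ne').symm

omit [Finite G] [Fact p.Prime] in
private theorem transv_restrict {α : MulAut E} {β : MulAut G}
    (h : ∀ x : E, β (x : G) = ((α x : E) : G)) :
    ∀ (n : ℕ) (x : E), (β ^ n) (x : G) = (((α ^ n) x : E) : G) := by
  intro n
  induction n with
  | zero => intro x; rfl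
  | succ n ih =>
    intro x
    rw [pow_succ', pow_succ', MulAut.mul_apply, MulAut.mul_apply, ih, h]

theorem transv (hG : IsPGroup p G) (hodd : Odd p) (hr : RankThree p G) (s : Side p E A B)
    (r : Restricts A B) {D : Subgroup G} (hDn : D.Normal) (hDE : D ≤ E) (hD : D.relIndex E = p)
    {z : G} (hz : z ∉ E) (hzD : ∀ d ∈ D, z * d = d * z) :
    ∃ C τ, C ≤ D ∧ Plane p E A B C τ ∧ (∀ c ∈ C, τ c = c) ∧ OTriv p A C ⊥ ∧
      (∀ a ∈ E, a ∉ D → a * z * a⁻¹ * z⁻¹ ∉ C) ∧ ¬ InvA A D := by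
  obtain ⟨hDinv, C, hCn, hCD, hCi, hCidx, hCt, hexp, haz, hirr⟩ :=
    exists_core_sq hG hodd hr s hDn hDE hD hz hzD
  haveI := hCn
  haveI := hDn
  haveI : E.Normal := s.normal
  have hCE : C ≤ E := hCD.trans hDE
  have hLA : Lgen A ≤ A := lgen_le s.cT_le
  set π : G →* G ⧸ C := QuotientGroup.mk' C with hπ
  set q : E →* G ⧸ C := π.comp E.subtype with hq
  have hq1 : ∀ u : E, q u = 1 ↔ (u : G) ∈ C := fun u => QuotientGroup.eq_one_iff _
  -- `E / C` is abelian
  have hcomm : ∀ u v : E, q u * q v = q v * q u := by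
    have hc : Nat.card (E.map π) = p ^ 2 := by
      have h1 := Subgroup.relIndex_ker (K := E) π
      rw [hπ, QuotientGroup.ker_mk', hCidx] at h1
      exact h1.symm
    have h2 : ∀ a b : E.map π, a * b = b * a :=
      fun a b => (IsPGroup.isMulCommutative_of_card_eq_prime_sq hc).is_comm.comm a b
    intro u v
    exact congrArg Subtype.val (h2 ⟨q u, Subgroup.mem_map_of_mem π u.2⟩
      ⟨q v, Subgroup.mem_map_of_mem π v.2⟩)
  -- automorphisms in `A` preserve congruence modulo `C`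
  have hcong : ∀ α ∈ A, ∀ u v : E, q u = q v → q (α u) = q (α v) := by
    intro α hα u v huv
    have h1 : ((u⁻¹ * v : E) : G) ∈ C := (hq1 _).1 (by rw [map_mul, map_inv, huv, inv_mul_cancel])
    have h2 := (hq1 _).2 (hCi α hα _ h1)
    rw [map_mul α, map_inv α, map_mul, map_inv, inv_mul_eq_one] at h2
    exact h2
  -- conjugation by `z`
  obtain ⟨cz, hczT, hcz⟩ : ∃ c ∈ cT E, ∀ u : E, ((c u : E) : G) = z * u * z⁻¹ := by
    refine ⟨E.normalizerMonoidHom ⟨z, by rw [Subgroup.normalizer_eq_top]; trivial⟩, ⟨_, rfl⟩,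
      fun u => rfl⟩
  have hczA : cz ∈ A := s.cT_le hczT
  have hfixD : ∀ u : E, (u : G) ∈ D → cz u = u := fun u hu => Subtype.ext (by
    rw [hcz, hzD _ hu, mul_inv_cancel_right])
  have hCDi : C.relIndex D = p := by
    have h1 := Subgroup.relIndex_mul_relIndex C D E hCD hDE
    rw [hCidx, hD, sq] at h1
    exact Nat.eq_of_mul_eq_mul_right (Fact.out : p.Prime).pos h1
  -- displacement by `z` lies in `D`
  have hdisp : ∀ u : E, ((u⁻¹ * cz u : E) : G) ∈ D := by
    intro u
    set E' := E.map (QuotientGroup.mk' D) with hE'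
    have hcard : Nat.card E' = p := by
      have h1 := Subgroup.relIndex_ker (K := E) (QuotientGroup.mk' D)
      rw [QuotientGroup.ker_mk', hD] at h1
      exact h1.symm
    haveI : E'.Normal := Subgroup.Normal.map inferInstance _ (QuotientGroup.mk'_surjective D)
    have hPQ : IsPGroup p (G ⧸ D) := hG.to_quotient D
    have hcen : E' ≤ Subgroup.center (G ⧸ D) := by
      have hne : E' ≠ ⊥ := fun e => by
        rw [e, Subgroup.card_bot] at hcard
        exact (Fact.out : p.Prime).ne_one hcard.symm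
      obtain ⟨y, hy, hy1⟩ := (Subgroup.bot_or_exists_ne_one _).resolve_left
        (Cfsg.Agent.PGroup.inf_center_ne_bot hPQ E' hne)
      intro w hw
      obtain ⟨n, hn⟩ : (⟨w, hw⟩ : E') ∈ Subgroup.zpowers (⟨y, hy.1⟩ : E') := by
        rw [zpowers_eq_top_of_prime_card hcard (fun h => hy1 (congrArg Subtype.val h))]
        trivial
      have hn' : y ^ n = w := congrArg Subtype.val hn
      exact hn' ▸ Subgroup.zpow_mem _ hy.2 n
    have h1 := Subgroup.mem_center_iff.1 (hcen (Subgroup.mem_map_of_mem (QuotientGroup.mk' D) u.2))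
      (QuotientGroup.mk' D z)
    refine (QuotientGroup.eq_one_iff _).1 ?_
    show QuotientGroup.mk' D ((u⁻¹ * cz u : E) : G) = 1
    rw [Subgroup.coe_mul, hcz, Subgroup.coe_inv]
    simp only [map_mul, map_inv]
    rw [h1, mul_inv_cancel_right, inv_mul_cancel]
  have hdispC : ∀ u : E, (u : G) ∉ D → q (u⁻¹ * cz u) ≠ 1 := by
    intro u hu h
    refine haz (u : G)⁻¹ (inv_mem u.2) (fun h' => hu (inv_mem_iff.1 h')) ?_
    have h1 := (hq1 _).1 h
    rw [Subgroup.coe_mul, hcz, Subgroup.coe_inv] at h1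
    simpa only [inv_inv, mul_assoc] using h1
  have hDgen : ∀ d : E, (d : G) ∈ D → (d : G) ∉ C → ∀ f : E, (f : G) ∈ D →
      ∃ j : ℤ, q f = q d ^ j := by
    intro d hd hdC f hf
    have h1 : D ≤ C ⊔ Subgroup.zpowers (d : G) :=
      transv_step le_sup_left (sup_le hCD (Subgroup.zpowers_le.2 hd)) hCDi
        (Subgroup.mem_sup_right (Subgroup.mem_zpowers _)) hdC
    have h2 : (f : G) ∈ C ⊔ Subgroup.zpowers (d : G) := h1 hf
    rw [Subgroup.mem_sup_of_normal_left] at h2
    obtain ⟨c, hc, y, ⟨j, rfl⟩, hy⟩ := h2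
    refine ⟨j, ?_⟩
    show π (f : G) = π (d : G) ^ j
    rw [← hy, map_mul, map_zpow, show π c = 1 from (QuotientGroup.eq_one_iff c).2 hc, one_mul]
  have hqp : ∀ (u : E) (t : ℤ), q u ^ ((p : ℤ) * t) = 1 := fun u t => by
    rw [zpow_mul, zpow_natCast, ← map_pow, (hq1 _).2 (by simpa using hexp u u.2), one_zpow]
  -- a conjugate of `cz` with another axis
  obtain ⟨γ, hγ, d, hdD, hγd⟩ :
      ∃ γ ∈ A, ∃ d : E, (d : G) ∈ D ∧ ((γ d : E) : G) ∉ D := by
    by_contra h
    push Not at h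
    exact hDinv h
  have hdC : (d : G) ∉ C := fun h => hγd (hCD (hCi γ hγ d h))
  obtain ⟨b, hb⟩ : ∃ x : E, x = γ d := ⟨_, rfl⟩
  rw [← hb] at hγd
  obtain ⟨e, he⟩ : ∃ x : E, x = b⁻¹ * cz b := ⟨_, rfl⟩
  have heD : (e : G) ∈ D := he ▸ hdisp b
  have hxe : cz e = e := hfixD e heD
  have hxb : cz b = b * e := by rw [he, mul_inv_cancel_left]
  have heC : q e ≠ 1 := he ▸ hdispC b hγd
  obtain ⟨u, hu⟩ : ∃ x : E, x = γ⁻¹ e := ⟨_, rfl⟩
  have hγu : γ u = e := by rw [hu, MulAut.apply_inv_self]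
  have huD : (u : G) ∉ D := by
    intro h
    obtain ⟨j, hj⟩ := hDgen d hdD hdC u h
    have h1 := hcong γ hγ u (d ^ j) (by rw [hj, map_zpow])
    rw [hγu, map_zpow γ, map_zpow, ← hb] at h1
    by_cases hpj : (p : ℤ) ∣ j
    · obtain ⟨t, rfl⟩ := hpj
      exact heC (h1.trans (hqp b t))
    · have hbj : ((b ^ j : E) : G) ∈ D := by
        have h2 : ((e⁻¹ * b ^ j : E) : G) ∈ C :=
          (hq1 _).1 (by rw [map_mul, map_inv, map_zpow, h1, inv_mul_cancel])
        have h3 := D.mul_mem heD (hCD h2)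
        simpa [mul_assoc] using h3
      obtain ⟨v, w, hvw⟩ :=
        ((Nat.prime_iff_prime_int.1 Fact.out).coprime_iff_not_dvd).2 hpj
      refine hγd ?_
      have hbp : (b : G) ^ p ∈ D := hCD (hexp b b.2)
      rw [Subgroup.coe_zpow] at hbj
      have h4 := D.mul_mem (D.zpow_mem hbp v) (D.zpow_mem hbj w)
      rwa [← zpow_natCast, ← zpow_mul, ← zpow_mul, ← zpow_add, mul_comm (p : ℤ) v, mul_comm j w,
        hvw, zpow_one] at h4
  obtain ⟨f, hf⟩ : ∃ x : E, x = u⁻¹ * cz u := ⟨_, rfl⟩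
  obtain ⟨k, hk⟩ := hDgen d hdD hdC f (hf ▸ hdisp u)
  have hpk : ¬ (p : ℤ) ∣ k := by
    rintro ⟨t, rfl⟩
    rw [hqp] at hk
    exact hdispC u huD (hf ▸ hk)
  obtain ⟨y, hy⟩ : ∃ x : MulAut E, x = γ * cz * γ⁻¹ := ⟨_, rfl⟩
  have hyL : y ∈ Lgen A := hy ▸ Subgroup.subset_closure ⟨γ, hγ, cz, hczT, rfl⟩
  have hyA : y ∈ A := hLA hyL
  have hyb : y b = b := by
    rw [hy, hb, MulAut.mul_apply, MulAut.mul_apply, MulAut.inv_apply_self, hfixD d hdD]
  have hye : q (y e) = q e * q b ^ k := by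
    have h1 : y e = e * γ f := by
      rw [hy, MulAut.mul_apply, MulAut.mul_apply, ← hu, hf, map_mul γ, map_inv γ, hγu,
        mul_inv_cancel_left]
    rw [h1, map_mul, hcong γ hγ f (d ^ k) (by rw [hk, map_zpow]), map_zpow γ, map_zpow, hb]
  have hybn : ∀ n : ℕ, (y ^ n) b = b := fun n => by
    induction n with
    | zero => rfl
    | succ n ih => rw [pow_succ', MulAut.mul_apply, ih, hyb]
  have hyen : ∀ n : ℕ, q ((y ^ n) e) = q e * q b ^ (k * n) := fun n => by
    induction n with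
    | zero => simp
    | succ n ih =>
      rw [pow_succ', MulAut.mul_apply, hcong y hyA _ (e * b ^ (k * n))
        (by rw [ih, map_mul, map_zpow]), map_mul y, map_zpow y, hyb, map_mul, hye, map_zpow,
        mul_assoc, ← zpow_add]
      congr 2
      push_cast
      ring
  obtain ⟨m, t, hmt⟩ : ∃ (m : ℕ) (t : ℤ), k * m = -1 + (p : ℤ) * t := by
    refine ⟨(-(k : ZMod p)⁻¹).val, ?_⟩
    have hk0 : (k : ZMod p) ≠ 0 := fun h => hpk ((ZMod.intCast_zmod_eq_zero_iff_dvd k p).1 h)
    have h1 : ((k * ((-(k : ZMod p)⁻¹).val : ℕ) + 1 : ℤ) : ZMod p) = 0 := by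
      push_cast
      rw [ZMod.natCast_zmod_val, mul_neg, mul_inv_cancel₀ hk0, neg_add_cancel]
    obtain ⟨t, ht⟩ := (ZMod.intCast_zmod_eq_zero_iff_dvd _ p).1 h1
    exact ⟨t, by linarith⟩
  have hymL : y ^ m ∈ Lgen A := pow_mem hyL m
  have hyme : q ((y ^ m) e) = q e * (q b)⁻¹ := by
    rw [hyen, hmt, zpow_add, hqp, mul_one, zpow_neg_one]
  obtain ⟨w, hw⟩ : ∃ x : MulAut E, x = cz * y ^ m * cz := ⟨_, rfl⟩
  have hwL : w ∈ Lgen A := hw ▸ mul_mem (mul_mem (cT_le_lgen hczT) hymL) (cT_le_lgen hczT)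
  have hwb : q (w b) = q e := by
    have h1 : q ((y ^ m) (b * e)) = q e := by
      rw [map_mul (y ^ m), hybn, map_mul, hyme, ← mul_assoc, hcomm b e, mul_inv_cancel_right]
    rw [hw, MulAut.mul_apply, MulAut.mul_apply, hxb, hcong cz hczA _ e h1, hxe]
  have hwe : q (w e) = (q b)⁻¹ := by
    rw [hw, MulAut.mul_apply, MulAut.mul_apply, hxe,
      hcong cz hczA _ (e * b⁻¹) (by rw [hyme, map_mul, map_inv]), map_mul cz, map_inv cz, hxe, hxb,
      map_mul, map_inv, map_mul, mul_inv_rev, mul_inv_cancel_left]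
  obtain ⟨α, hα⟩ : ∃ x : MulAut E, x = w * w := ⟨_, rfl⟩
  have hαL : α ∈ Lgen A := hα ▸ mul_mem hwL hwL
  have hαA : α ∈ A := hLA hαL
  -- `α` inverts `E / C`
  have hneg : ∀ x : E, q (α x) = (q x)⁻¹ := by
    have hadd : ∀ x x' : E, q (α x) = (q x)⁻¹ → q (α x') = (q x')⁻¹ →
        q (α (x * x')) = (q (x * x'))⁻¹ := fun x x' h h' => by
      rw [map_mul α, map_mul, map_mul, h, h', mul_inv_rev, ← map_inv, ← map_inv, hcomm]
    let H : Subgroup E :=
      { carrier := {x | q (α x) = (q x)⁻¹}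
        one_mem' := by simp
        mul_mem' := fun {x x'} h h' => hadd x x' h h'
        inv_mem' := fun {x} h => by
          show q (α x⁻¹) = (q x⁻¹)⁻¹
          rw [map_inv α, map_inv, map_inv, show q (α x) = (q x)⁻¹ from h] }
    have hbH : b ∈ H := by
      show q (α b) = (q b)⁻¹
      rw [hα, MulAut.mul_apply, hcong w (hLA hwL) _ e hwb, hwe]
    have heH : e ∈ H := by
      show q (α e) = (q e)⁻¹
      rw [hα, MulAut.mul_apply, hcong w (hLA hwL) _ b⁻¹ (by rw [hwe, map_inv]), map_inv w,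
        map_inv, hwb]
    have hC : C ≤ H.map E.subtype := fun c hc => ⟨⟨c, hCE hc⟩, by
      show q (α _) = (q _)⁻¹
      rw [(hq1 _).2 (hCi α hαA _ hc), (hq1 ⟨c, hCE hc⟩).2 hc, inv_one], rfl⟩
    have hHE : H.map E.subtype ≤ E := Subgroup.map_subtype_le H
    have h1 : D ≤ H.map E.subtype := fun x hx => by
      have h2 := transv_step (X := C) (H := H.map E.subtype ⊓ D) (Z := D) (le_inf hC hCD)
        inf_le_right hCDi ⟨Subgroup.mem_map_of_mem _ heH, heD⟩ (fun h => heC ((hq1 e).2 h))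
      exact (h2 hx).1
    have h3 : E ≤ H.map E.subtype :=
      transv_step h1 hHE hD (Subgroup.mem_map_of_mem _ hbH) hγd
    intro x
    obtain ⟨x', hx', hxx⟩ := h3 x.2
    rwa [← Subtype.ext hxx]
  -- the kernel on `E / C` lies in `cT E`
  let N : Subgroup (MulAut E) :=
    { carrier := {l | l ∈ Lgen A ∧ ∀ x : E, q (l x) = q x}
      one_mem' := ⟨one_mem _, fun x => rfl⟩
      mul_mem' := fun {l l'} h h' => ⟨mul_mem h.1 h'.1, fun x => by
        rw [MulAut.mul_apply, h.2, h'.2]⟩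
      inv_mem' := fun {l} h => ⟨inv_mem h.1, fun x => by
        conv_rhs => rw [← MulAut.apply_inv_self E l x, h.2]⟩ }
  have hNp : IsPGroup p N := by
    rintro ⟨l, hl⟩
    obtain ⟨i, hi⟩ := transv_pow_coprime (p := p) l
    refine ⟨i, Subtype.ext ?_⟩
    show l ^ p ^ i = 1
    set l' := l ^ p ^ i with hl'
    have hl'N : l' ∈ N := pow_mem hl _
    have h1 : TrivOn l' E C := fun x _ => (hq1 (x⁻¹ * l' x)).1 (by
      rw [map_mul, map_inv, hl'N.2, inv_mul_cancel])
    have h2 : TrivOn l' C ⊥ := hCt l' hl'N.1 hi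
    have h3 := trivOn_trans hG hi hCE bot_le inferInstance h1 h2
    refine MulEquiv.ext fun x => Subtype.ext ?_
    have h4 := Subgroup.mem_bot.1 (h3 x x.2)
    rw [inv_mul_eq_one] at h4
    exact h4.symm
  have hNT : N ≤ cT E := by
    have hnorm : cT E ≤ Subgroup.normalizer (N : Set (MulAut E)) := by
      intro c hc
      have hcL : c ∈ Lgen A := cT_le_lgen hc
      have key : ∀ c' ∈ Lgen A, ∀ l ∈ N, c' * l * c'⁻¹ ∈ N := by
        rintro c' hc' l ⟨hl, hl2⟩
        refine ⟨mul_mem (mul_mem hc' hl) (inv_mem hc'), fun x => ?_⟩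
        rw [MulAut.mul_apply, MulAut.mul_apply, hcong c' (hLA hc') _ _ (hl2 (c'⁻¹ x)),
          MulAut.apply_inv_self]
      refine Subgroup.mem_normalizer_iff.2 fun l => ⟨fun h => key c hcL l h, fun h => ?_⟩
      have h2 := key c⁻¹ (inv_mem hcL) _ h
      simpa [mul_assoc] using h2
    have hP : IsPGroup p (N ⊔ cT E : Subgroup (MulAut E)) :=
      hNp.to_sup_of_normal_left' (cT_isPGroup hG) hnorm
    exact le_sup_left.trans
      (s.syl _ (sup_le (fun l hl => hLA hl.1) s.cT_le) hP le_sup_right)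
  have hnormT : ∀ c ∈ cT E, α * c * α⁻¹ ∈ cT E := by
    intro c hc
    have hcA : c ∈ A := s.cT_le hc
    have h1 : α * c * α⁻¹ * c⁻¹ ∈ N := by
      refine ⟨mul_mem (mul_mem (mul_mem hαL (cT_le_lgen hc)) (inv_mem hαL))
        (inv_mem (cT_le_lgen hc)), fun x => ?_⟩
      simp only [MulAut.mul_apply]
      have h2 : q (α⁻¹ (c⁻¹ x)) = q (c⁻¹ x)⁻¹ := by
        have h3 := hneg (α⁻¹ (c⁻¹ x))
        rw [MulAut.apply_inv_self] at h3
        rw [map_inv, h3, inv_inv]
      rw [hneg, hcong c hcA _ _ h2, map_inv c, MulAut.apply_inv_self, map_inv, inv_inv]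
    have h4 := mul_mem (hNT h1) hc
    simpa using h4
  obtain ⟨β, hβ, hβα⟩ := s.ext α hαA hnormT
  obtain ⟨i, hi⟩ := transv_pow_coprime (p := p) β
  set α' := α ^ p ^ i with hα'
  set τ := β ^ p ^ i with hτdef
  have hres : ∀ x : E, τ (x : G) = ((α' x : E) : G) := transv_restrict hβα (p ^ i)
  have hneg' : ∀ x : E, q (α' x) = (q x)⁻¹ := by
    have key : ∀ (n : ℕ) (x : E), q ((α ^ (2 * n + 1)) x) = (q x)⁻¹ := by
      intro n
      induction n with
      | zero => intro x; rw [mul_zero, zero_add, pow_one, hneg]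
      | succ n ih =>
        intro x
        rw [show 2 * (n + 1) + 1 = 1 + (1 + (2 * n + 1)) by ring, pow_add, pow_add, pow_one,
          MulAut.mul_apply, MulAut.mul_apply, hneg, hneg, inv_inv, ih]
    obtain ⟨n, hn⟩ := hodd.pow (n := i)
    intro x
    rw [hα', hn, key n x]
  have hfix : ∀ c ∈ C, τ c = c := by
    have hcop : (orderOf α').Coprime p := by
      refine Nat.Coprime.coprime_dvd_left (orderOf_dvd_of_pow_eq_one ?_) hi
      refine MulEquiv.ext fun x => Subtype.ext ?_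
      rw [← transv_restrict hres, pow_orderOf_eq_one]
      rfl
    intro c hc
    have h1 := Subgroup.mem_bot.1 (hCt α' (pow_mem hαL _) hcop ⟨c, hCE hc⟩ hc)
    rw [inv_mul_eq_one] at h1
    rw [show τ c = τ ((⟨c, hCE hc⟩ : E) : G) from rfl, hres, ← h1]
  have hquot : ∀ g : G, g⁻¹ * τ g ∈ E := by
    have hw : z⁻¹ * τ z ∈ E := by
      by_contra hwE
      let K : Subgroup G := (Subgroup.centralizer ({q b} : Set (G ⧸ C))).comap π
      have hK : ∀ g, g ∈ K ↔ π g * q b = q b * π g := fun g => by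
        show π g ∈ Subgroup.centralizer _ ↔ _
        rw [Subgroup.mem_centralizer_singleton_iff]
      have hEK : E ≤ K := fun g hg => (hK g).2 (hcomm ⟨g, hg⟩ b)
      have hwK : z⁻¹ * τ z ∈ K := by
        rw [hK]
        have hn : ∀ g : G, ∀ hg : g ∈ E, π (τ g) = (π g)⁻¹ := fun g hg => by
          have h5 := hres ⟨g, hg⟩
          have h6 := hneg' ⟨g, hg⟩
          rw [show τ g = _ from h5]
          exact h6
        have h1 : π (τ (z * b * z⁻¹)) = (π (z * b * z⁻¹))⁻¹ :=
          hn _ (s.normal.conj_mem _ b.2 z)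
        rw [map_mul τ, map_mul τ, map_inv τ, map_mul, map_mul, map_inv, hn _ b.2, map_mul, map_mul,
          map_inv] at h1
        have h2 : π (τ z) * q b * (π (τ z))⁻¹ = π z * q b * (π z)⁻¹ := by
          have h3 := congrArg (·⁻¹) h1
          simp only [mul_inv_rev, inv_inv, ← mul_assoc] at h3
          exact h3
        rw [map_mul, map_inv]
        calc (π z)⁻¹ * π (τ z) * q b
            = (π z)⁻¹ * (π (τ z) * q b * (π (τ z))⁻¹) * π (τ z) := by group
          _ = q b * ((π z)⁻¹ * π (τ z)) := by rw [h2]; group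
      have htop : (⊤ : Subgroup G) ≤ K :=
        transv_step hEK le_top (by rw [Subgroup.relIndex_top_right, s.index]) hwK hwE
      refine heC ?_
      rw [he, map_mul, map_inv]
      have h4 := (hK z).1 (htop trivial)
      have h5 : q (cz b) = π z * q b * (π z)⁻¹ := by
        show π ((cz b : E) : G) = _
        rw [hcz, map_mul, map_mul, map_inv]
        rfl
      rw [h5, h4, mul_inv_cancel_right, inv_mul_cancel]
    let L : Subgroup G := MonoidHom.eqLocus ((QuotientGroup.mk' E).comp τ.toMonoidHom)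
      (QuotientGroup.mk' E)
    have hL : ∀ g, g ∈ L ↔ g⁻¹ * τ g ∈ E := fun g => by
      show QuotientGroup.mk' E (τ g) = QuotientGroup.mk' E g ↔ _
      rw [eq_comm]
      exact QuotientGroup.eq
    have hEL : E ≤ L := fun g hg => (hL g).2 (mul_mem (inv_mem hg) (by
      rw [show τ g = _ from hres ⟨g, hg⟩]; exact (α' ⟨g, hg⟩).2))
    intro g
    exact (hL g).1 (transv_step hEL le_top (by rw [Subgroup.relIndex_top_right, s.index])
      ((hL z).2 hw) hz (Subgroup.mem_top g))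
  refine ⟨C, τ, hCD, ⟨hCn, hCE, hCidx, hCi, invB_of_invA r hCE hCi, hirr,
    ⟨pow_mem hβ _, hi, ⟨α', pow_mem hαL _, fun x => (hres x).symm⟩, hquot, ?_⟩⟩, hfix, hCt,
    haz, hDinv⟩
  intro x hx
  refine (QuotientGroup.eq_one_iff _).1 ?_
  show π (x * τ x) = 1
  rw [map_mul, show τ x = _ from hres ⟨x, hx⟩]
  show q ⟨x, hx⟩ * q (α' ⟨x, hx⟩) = 1
  rw [hneg', mul_inv_cancel]

end Cfsg.Agent.CharPair
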