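import Cfsg.Agent.CharPair.FusionSide
import Cfsg.Agent.CharPair.Transv

/-!
# An invariant kernel below the centre contradicts a trivial core (S5189)

Paper proof. An essential `R` is centric, so strictly above `Z(S)`, hence of index `p`, normal and
abelian. If it is neither `E₁` nor `E₂`, `transv` on `R` with `D = Z(S)` gives `τ` keeping
`E₁`, `E₂`; it fixes both lines modulo `Z(S)` as it is trivial on `S / R`, yet inverts `R`
modulo `C`.
So `R` is one of the two and `K` is invariant: `PearlExists.isNormal_of_essentials`.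
-/

set_option autoImplicit false

open Cfsg Cfsg.FusionSystem Cfsg.Agent.FusionSys Cfsg.Agent.FusRankThree

namespace Cfsg.Agent.CharPair

universe u

variable {Ω : Type u} [Group Ω] {S : Subgroup Ω} {p : ℕ} [Finite S] [Fact p.Prime]
  {F : FusionSystem S}

omit [Fact p.Prime] in
private theorem eq_of_le_of_index {G : Type u} [Group G] [Finite G] {H H' : Subgroup G}
    (hle : H ≤ H') (h : H.index = H'.index) : H = H' := by
  refine le_antisymm hle (Subgroup.relIndex_eq_one.1 ?_)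
  have h1 := Subgroup.relIndex_mul_index hle
  rw [h] at h1
  exact Nat.eq_of_mul_eq_mul_right (Nat.pos_of_ne_zero H'.index_ne_zero_of_finite)
    (h1.trans (one_mul _).symm)

/-- An essential subgroup lies between the centre and the whole group. -/
private theorem layers_of_essential (hS : IsPGroup p S) (hF : F.IsSaturated p) {R : Subgroup Ω}
    (hR : F.IsEssential p R) (hidx : (Subgroup.center S).index = p ^ 2) :
    Subgroup.center S ≤ R.subgroupOf S ∧ (R.subgroupOf S).index = p ∧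
      (Subgroup.center S).relIndex (R.subgroupOf S) = p ∧ (R.subgroupOf S).Normal := by
  have hpp : p.Prime := Fact.out
  have hRS : R ≤ S := hR.1.1
  have hcen : centralizerIn S R ≤ R := hR.1.2 R (isConj_refl F hRS)
  have hZR : Subgroup.center S ≤ R.subgroupOf S := fun z hz =>
    hcen (mem_centralizerIn.2 ⟨z.2, fun x hx =>
      congrArg Subtype.val (Subgroup.mem_center_iff.1 hz ⟨x, hRS hx⟩)⟩)
  obtain ⟨g, hg, hgR⟩ := exists_mem_normalizerIn_not_mem hS hF hR
  have htop : R.subgroupOf S ≠ ⊤ := fun e =>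
    hgR (Subgroup.mem_subgroupOf.1 (e ▸ Subgroup.mem_top (⟨g, hg.1⟩ : S)))
  have hne : (Subgroup.center S).relIndex (R.subgroupOf S) ≠ 1 := fun e => by
    have hRZ : R.subgroupOf S ≤ Subgroup.center S := Subgroup.relIndex_eq_one.1 e
    refine hgR (hcen (mem_centralizerIn.2 ⟨hg.1, fun x hx => ?_⟩))
    exact (congrArg Subtype.val (Subgroup.mem_center_iff.1
      (hRZ (show (⟨x, hRS hx⟩ : S) ∈ R.subgroupOf S from hx)) ⟨g, hg.1⟩)).symm
  have hmul := Subgroup.relIndex_mul_index hZR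
  rw [hidx] at hmul
  obtain ⟨a, ha, ha'⟩ := (Nat.dvd_prime_pow hpp).1 ⟨_, hmul.symm⟩
  have hi : (R.subgroupOf S).index = p ∧ (Subgroup.center S).relIndex (R.subgroupOf S) = p := by
    interval_cases a
    · exact absurd (by simpa using ha') hne
    · rw [ha', pow_one, sq] at hmul
      exact ⟨Nat.eq_of_mul_eq_mul_left hpp.pos hmul, by rw [ha', pow_one]⟩
    · rw [ha'] at hmul
      exact absurd (Subgroup.index_eq_one.1 (Nat.eq_of_mul_eq_mul_left (pow_pos hpp.pos 2)
        (hmul.trans (mul_one _).symm))) htop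
  refine ⟨hZR, hi.1, hi.2, Subgroup.normal_of_index_eq_minFac_card ?_⟩
  obtain ⟨n, hn⟩ := hS.exists_card_eq
  rcases n with _ | n
  · have h1 := (R.subgroupOf S).index_dvd_card
    rw [hi.1, hn, pow_zero, Nat.dvd_one] at h1
    exact absurd h1 hpp.ne_one
  · rw [hi.1, hn, hpp.pow_minFac n.succ_ne_zero]

theorem third_false (hp : Odd p) (hS : IsPGroup p S) (hr : RankThree p S)
    (hF : F.IsSaturated p) (hO : F.core = ⊥) {E₁ E₂ : Subgroup Ω}
    (hne : E₁ ≠ E₂) (hE₁ : F.IsEssential p E₁) (hE₂ : F.IsEssential p E₂)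
    (hc₁ : ∀ φ : MulAut S, φ ∈ F.autGroup S →
      (E₁.subgroupOf S).map φ.toMonoidHom = E₁.subgroupOf S)
    (hc₂ : ∀ φ : MulAut S, φ ∈ F.autGroup S →
      (E₂.subgroupOf S).map φ.toMonoidHom = E₂.subgroupOf S)
    {K : Subgroup S} (hK : K ≠ ⊥) (hKc : K ≤ Subgroup.center S)
    (hidx : (Subgroup.center S).index = p ^ 2) (hKB : InvB (F.autGroup S) K)
    (hK₁ : InvA (autS F E₁) K) (hK₂ : InvA (autS F E₂) K) : False := by
  have hpp : p.Prime := Fact.out
  obtain ⟨-, hi₁, -, -⟩ := layers_of_essential hS hF hE₁ hidx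
  obtain ⟨-, hi₂, -, -⟩ := layers_of_essential hS hF hE₂ hidx
  have key : ∀ R, F.IsEssential p R → R = E₁ ∨ R = E₂ := by
    intro R hR
    by_contra hcon
    push Not at hcon
    obtain ⟨hR1, hR2⟩ := hcon
    obtain ⟨hZR, hiR, hrel, hnR⟩ := layers_of_essential hS hF hR hidx
    have hRS : R ≤ S := hR.1.1
    have hn : S ≤ Subgroup.normalizer (R : Set Ω) := by
      have hk : ∀ a ∈ S, ∀ y ∈ R, a * y * a⁻¹ ∈ R := fun a ha y hy =>
        hnR.conj_mem ⟨y, hRS hy⟩ hy ⟨a, ha⟩
      intro g hg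
      rw [Subgroup.mem_normalizer_iff]
      refine fun x => ⟨hk g hg x, fun hx => ?_⟩
      simpa [mul_assoc] using hk g⁻¹ (S.inv_mem hg) _ hx
    obtain ⟨z, hz⟩ : ∃ z, z ∉ R.subgroupOf S := by
      by_contra hh
      push Not at hh
      rw [show R.subgroupOf S = ⊤ from eq_top_iff.2 fun x _ => hh x, Subgroup.index_top] at hiR
      exact hpp.ne_one hiR.symm
    obtain ⟨C, τ, hCD, hP, -, -, -, -⟩ := transv hS hp hr
      (side_of_essential hp hS hr hF hR hn) (restricts_stab hRS) inferInstance hZR hrel hz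
      fun d hd => Subgroup.mem_center_iff.1 hd z
    have hτ : τ ∈ F.autGroup S := hP.tau.mem.1
    set Z := Subgroup.center S with hZ
    let H : Subgroup S :=
      MonoidHom.eqLocus (QuotientGroup.mk' Z) ((QuotientGroup.mk' Z).comp τ.toMonoidHom)
    have hmemH : ∀ g, g ∈ H ↔ g⁻¹ * τ g ∈ Z := fun g => QuotientGroup.eq
    have hEH : ∀ E : Subgroup Ω, E ≤ S → (E.subgroupOf S).index = p →
        Z ≤ E.subgroupOf S → R ≠ E →
        (E.subgroupOf S).map τ.toMonoidHom = E.subgroupOf S → E.subgroupOf S ≤ H := by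
      intro E hES hiE hZE hRE hτE g hg
      have hτg : τ g ∈ E.subgroupOf S := by
        rw [← hτE]
        exact ⟨g, hg, rfl⟩
      have h1 : g⁻¹ * τ g ∈ R.subgroupOf S ⊓ E.subgroupOf S :=
        ⟨hP.tau.quot g, mul_mem ((E.subgroupOf S).inv_mem hg) hτg⟩
      have h2 := Subgroup.relIndex_mul_relIndex Z (R.subgroupOf S ⊓ E.subgroupOf S)
        (R.subgroupOf S) (le_inf hZR hZE) inf_le_left
      have h3 : (R.subgroupOf S ⊓ E.subgroupOf S).relIndex (R.subgroupOf S) ≠ 1 :=
          fun e => hRE <| by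
        have h4 : R.subgroupOf S ≤ E.subgroupOf S :=
          (Subgroup.relIndex_eq_one.1 e).trans inf_le_right
        have h5 := eq_of_le_of_index h4 (hiR.trans hiE.symm)
        rwa [Subgroup.subgroupOf_inj, inf_eq_left.2 hRS, inf_eq_left.2 hES] at h5
      rw [hrel] at h2
      rcases (Nat.dvd_prime hpp).1 ⟨_, h2.symm⟩ with h6 | h6
      · exact (hmemH g).2 (Subgroup.relIndex_eq_one.1 h6 h1)
      · rw [h6] at h2
        exact absurd (Nat.eq_of_mul_eq_mul_left hpp.pos (h2.trans (mul_one p).symm)) h3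
    obtain ⟨hZ₁, -, -, -⟩ := layers_of_essential hS hF hE₁ hidx
    obtain ⟨hZ₂, -, -, -⟩ := layers_of_essential hS hF hE₂ hidx
    have hH₁ := hEH E₁ hE₁.1.1 hi₁ hZ₁ hR1 (hc₁ τ hτ)
    have hH₂ := hEH E₂ hE₂.1.1 hi₂ hZ₂ hR2 (hc₂ τ hτ)
    have hHtop : H = ⊤ := by
      rcases (Nat.dvd_prime hpp).1 (hi₁ ▸ Subgroup.index_dvd_of_le hH₁) with h | h
      · exact Subgroup.index_eq_one.1 h
      · have e₁ := eq_of_le_of_index hH₁ (hi₁.trans h.symm)
        have e₂ := eq_of_le_of_index hH₂ (hi₂.trans h.symm)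
        have e := e₁.trans e₂.symm
        rw [Subgroup.subgroupOf_inj, inf_eq_left.2 hE₁.1.1, inf_eq_left.2 hE₂.1.1] at e
        exact absurd e hne
    -- the square of every element of `R` is central
    have hle : R.subgroupOf S ≤ Z := fun x hx => by
      have hx1 : x⁻¹ * τ x ∈ Z := (hmemH x).1 (hHtop ▸ Subgroup.mem_top x)
      have hx2 : x * τ x ∈ Z := hCD (hP.tau.neg x hx)
      have hsq : x ^ 2 ∈ Z := by
        have h4 : x * τ x * (x⁻¹ * τ x)⁻¹ ∈ Z := mul_mem hx2 (Z.inv_mem hx1)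
        have h5 : x * τ x * (x⁻¹ * τ x)⁻¹ = x ^ 2 := by rw [pow_two]; group
        rwa [h5] at h4
      obtain ⟨k, hk⟩ := hS x
      obtain ⟨m, hm⟩ := hp.pow (n := k)
      rw [hm, pow_succ', mul_eq_one_iff_eq_inv, pow_mul] at hk
      exact hk ▸ Z.inv_mem (pow_mem hsq m)
    rw [Subgroup.relIndex_eq_one.2 hle] at hrel
    exact hpp.ne_one hrel.symm
  set Q : Subgroup Ω := K.map S.subtype with hQ
  have hQS : Q ≤ S := by
    rintro _ ⟨x, -, rfl⟩
    exact x.2
  have hmemQ : ∀ x : S, (x : Ω) ∈ Q ↔ x ∈ K := fun x =>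
    Subgroup.mem_map_iff_mem S.subtype_injective
  have hQinv : ∀ E, E ≤ S → InvA (autS F E) K →
      ∀ α ∈ F.autGroup E, ∀ x : E, (x : Ω) ∈ Q → ((α x : E) : Ω) ∈ Q := by
    intro E hES hinv α hα x hx
    let e : E.subgroupOf S ≃* E := Subgroup.subgroupOfEquivOfLe hES
    let γ : MulAut (E.subgroupOf S) := (e.trans α).trans e.symm
    have hγ : γ ∈ autS F E := ⟨α, hα, fun _ => rfl⟩
    exact (hmemQ _).2 (hinv γ hγ (e.symm x) ((hmemQ _).1 hx))
  have hn : F.IsNormal Q := PearlExists.isNormal_of_essentials hS hF hQS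
    (fun α hα x hx => (hmemQ _).2 (hKB α hα x ((hmemQ x).1 hx))) fun P hP => by
    obtain ⟨hZP, -, -, -⟩ := layers_of_essential hS hF hP hidx
    refine ⟨?_, ?_⟩
    · rintro _ ⟨x, hx, rfl⟩
      exact hZP (hKc hx)
    · rcases key P hP with rfl | rfl
      · exact hQinv _ hE₁.1.1 hK₁
      · exact hQinv _ hE₂.1.1 hK₂
  have hbot : Q ≤ ⊥ := hO ▸ le_sSup hn
  exact hK ((Subgroup.map_eq_bot_iff_of_injective _ S.subtype_injective).1 (le_bot_iff.1 hbot))

end Cfsg.Agent.CharPair
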