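import Cfsg.Agent.CharPair.Base
import Cfsg.Agent.PGroup.Frattini
import Cfsg.Agent.PGroup.Basic
import Mathlib.GroupTheory.Perm.Cycle.Type

/-!
# Two invariant maximal subgroups with automizers: tools (S5189)
-/

set_option autoImplicit false
set_option linter.unusedVariables false
set_option linter.unusedSectionVars false
set_option linter.style.haveILetI false

open Cfsg.Agent.FusRankThree

namespace Cfsg.Agent.CharPair

universe u

namespace ToolsAux

variable {p : ℕ} [Fact p.Prime]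

/-- Sylow conjugacy inside a subgroup. -/
theorem exists_conj_mem {K : Type*} [Group K] [Finite K] {L P Q : Subgroup K} (hPL : P ≤ L)
    (hP : IsPGroup p P) (hmax : ∀ R ≤ L, IsPGroup p R → P ≤ R → R ≤ P) (hQL : Q ≤ L)
    (hQ : IsPGroup p Q) : ∃ l ∈ L, ∀ q ∈ Q, l⁻¹ * q * l ∈ P := by
  obtain ⟨S, hS⟩ := (hP.of_equiv (Subgroup.subgroupOfEquivOfLe hPL).symm).exists_le_sylow
  obtain ⟨R, hR⟩ := (hQ.of_equiv (Subgroup.subgroupOfEquivOfLe hQL).symm).exists_le_sylow
  have hSP : (S : Subgroup L).map L.subtype ≤ P :=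
    hmax _ (Subgroup.map_subtype_le _) (S.2.map _) fun x hx => ⟨⟨x, hPL hx⟩, hS hx, rfl⟩
  obtain ⟨g, rfl⟩ := MulAction.exists_smul_eq L S R
  refine ⟨g, g.2, fun q hq => hSP ?_⟩
  have h := hR (show (⟨q, hQL hq⟩ : L) ∈ Q.subgroupOf L from hq)
  rw [Sylow.coe_subgroup_smul, Subgroup.mem_pointwise_smul_iff_inv_smul_mem] at h
  exact ⟨_, h, by simp [MulAut.smul_def]⟩

/-- A coprime automorphism of a `p`-group stabilising `M ≤ Y ≤ X` stabilises `M ≤ X`. -/
theorem stab_trans {H : Type*} [Group H] (hH : IsPGroup p H) {σ : MulAut H}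
    (hσ : (orderOf σ).Coprime p) {X Y M : Subgroup H} (hM : M ≤ Y)
    (h1 : ∀ x ∈ X, x⁻¹ * σ x ∈ Y) (h2 : ∀ y ∈ Y, y⁻¹ * σ y ∈ M) :
    ∀ x ∈ X, x⁻¹ * σ x ∈ M := by
  intro x hx
  have hyY := h1 x hx
  set y := x⁻¹ * σ x with hy
  have hσM : ∀ m ∈ M, σ m ∈ M := fun m hm => by
    have := M.mul_mem hm (h2 m (hM hm))
    rwa [mul_inv_cancel_left] at this
  have key : ∀ n : ℕ, (y ^ n)⁻¹ * (x⁻¹ * (σ ^ n) x) ∈ M := by
    intro n
    induction n with
    | zero => simp
    | succ n ih =>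
      set m := (y ^ n)⁻¹ * (x⁻¹ * (σ ^ n) x) with hm
      have e : (σ ^ n) x = x * y ^ n * m := by rw [hm]; group
      have e2 : (y ^ (n + 1))⁻¹ * (x⁻¹ * (σ ^ (n + 1)) x) =
          ((y ^ n)⁻¹ * σ (y ^ n)) * σ m := by
        rw [pow_succ' σ, MulAut.mul_apply, e, map_mul, map_mul,
          show σ x = x * y by rw [hy]; group, pow_succ']
        group
      rw [e2]
      exact M.mul_mem (h2 _ (Y.pow_mem hyY n)) (hσM _ ih)
  have h := key (orderOf σ)
  rw [pow_orderOf_eq_one, MulAut.one_apply, inv_mul_cancel, mul_one, inv_mem_iff] at h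
  obtain ⟨k, hk⟩ := IsPGroup.iff_orderOf.mp hH y
  obtain ⟨j, hj⟩ := exists_pow_eq_self_of_coprime (x := y) (n := orderOf σ)
    (by rw [hk]; exact hσ.pow_right k)
  rw [← hj]
  exact M.pow_mem h j

end ToolsAux

variable {G : Type u} [Group G] [Finite G] {p : ℕ} [Fact p.Prime] {E : Subgroup G}
  {A : Subgroup (MulAut E)} {B : Subgroup (MulAut G)}

theorem mem_cT (hn : E.Normal) {γ : MulAut E} :
    γ ∈ cT E ↔ ∃ g : G, ∀ x : E, ((γ x : E) : G) = g * x * g⁻¹ := by
  constructor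
  · rintro ⟨g, rfl⟩
    exact ⟨g, fun x => rfl⟩
  · rintro ⟨g, hg⟩
    exact ⟨⟨g, by rw [Subgroup.normalizer_eq_top]; trivial⟩,
      MulEquiv.ext fun x => Subtype.ext (hg x).symm⟩

theorem cT_isPGroup (hG : IsPGroup p G) : IsPGroup p (cT E) :=
  (hG.to_subgroup _).of_surjective E.normalizerMonoidHom.rangeRestrict
    E.normalizerMonoidHom.rangeRestrict_surjective

theorem lgen_le (hT : cT E ≤ A) : Lgen A ≤ A := by
  refine (Subgroup.closure_le _).2 ?_
  rintro _ ⟨α, hα, c, hc, rfl⟩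
  exact A.mul_mem (A.mul_mem hα (hT hc)) (A.inv_mem hα)

theorem cT_le_lgen : cT E ≤ Lgen A :=
  fun c hc => Subgroup.subset_closure ⟨1, A.one_mem, c, hc, by simp⟩

theorem lgen_conj {α l : MulAut E} (hα : α ∈ A) (hl : l ∈ Lgen A) : α * l * α⁻¹ ∈ Lgen A := by
  induction hl using Subgroup.closure_induction with
  | mem x hx =>
    obtain ⟨β, hβ, c, hc, rfl⟩ := hx
    exact Subgroup.subset_closure ⟨α * β, A.mul_mem hα hβ, c, hc, by group⟩
  | one => simp
  | mul x y _ _ hx hy =>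
    rw [show α * (x * y) * α⁻¹ = (α * x * α⁻¹) * (α * y * α⁻¹) by group]
    exact mul_mem hx hy
  | inv x _ hx =>
    rw [show α * x⁻¹ * α⁻¹ = (α * x * α⁻¹)⁻¹ by group]
    exact inv_mem hx

/-- `C_G(E) ≤ E`: otherwise `cT E` is the inner automorphism group, `Lgen A` is a `p`-group. -/
theorem Side.centric (s : Side p E A B) (hG : IsPGroup p G) :
    Subgroup.centralizer (E : Set G) ≤ E := by
  intro c hc
  by_contra hcE
  haveI := s.normal
  have htop : E ⊔ Subgroup.centralizer (E : Set G) = ⊤ := by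
    rw [← Subgroup.index_eq_one]
    have hd := Subgroup.index_dvd_of_le
      (le_sup_left : E ≤ E ⊔ Subgroup.centralizer (E : Set G))
    rw [s.index] at hd
    refine ((Nat.dvd_prime Fact.out).1 hd).resolve_right fun h => hcE ?_
    have h2 := Subgroup.relIndex_mul_index
      (le_sup_left : E ≤ E ⊔ Subgroup.centralizer (E : Set G))
    rw [s.index, h] at h2
    refine Subgroup.relIndex_eq_one.1 (Nat.eq_of_mul_eq_mul_right (Fact.out : p.Prime).pos
      (h2.trans (one_mul p).symm)) ?_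
    exact Subgroup.mem_sup_right hc
  have hinn : ∀ γ ∈ cT E, ∃ e : E, ∀ x : E, γ x = e * x * e⁻¹ := by
    intro γ hγ
    obtain ⟨g, hg⟩ := (mem_cT s.normal).1 hγ
    obtain ⟨e, he, c', hc', rfl⟩ :=
      Subgroup.mem_sup_of_normal_left.mp (show g ∈ E ⊔ Subgroup.centralizer (E : Set G) by
        rw [htop]; exact Subgroup.mem_top g)
    refine ⟨⟨e, he⟩, fun x => Subtype.ext ?_⟩
    rw [hg]
    have h := Subgroup.mem_centralizer_iff.1 hc' x x.2
    show e * c' * (x : G) * (e * c')⁻¹ = e * x * e⁻¹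
    rw [mul_assoc e c', ← h]
    group
  have hle : Lgen A ≤ cT E := by
    refine (Subgroup.closure_le _).2 ?_
    rintro _ ⟨α, -, γ, hγ, rfl⟩
    obtain ⟨e, he⟩ := hinn γ hγ
    refine (mem_cT s.normal).2 ⟨((α e : E) : G), fun x => ?_⟩
    rw [MulAut.mul_apply, MulAut.mul_apply, he, map_mul, map_mul, map_inv, MulAut.apply_inv_self]
    rfl
  refine s.moves fun α hα hco x _ => ?_
  obtain ⟨k, hk⟩ := IsPGroup.iff_orderOf.mp (cT_isPGroup hG) ⟨α, hle hα⟩
  rw [Subgroup.orderOf_mk] at hk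
  have h1 : α = 1 := orderOf_eq_one_iff.1
    (Nat.eq_one_of_dvd_coprimes (hco.pow_right k) dvd_rfl (dvd_of_eq hk))
  rw [h1]
  simp

/-- Frattini argument: Sylow conjugacy in `Lgen A`, then `ext`. -/
theorem Side.frattini (s : Side p E A B) (hG : IsPGroup p G) {α : MulAut E} (hα : α ∈ A) :
    ∃ l ∈ Lgen A, ∃ γ ∈ A, α = l * γ ∧ ∃ β ∈ B, ∀ x : E, β (x : G) = ((γ x : E) : G) := by
  obtain ⟨l, hl, hlc⟩ := ToolsAux.exists_conj_mem (L := Lgen A) (P := cT E)
    (Q := (cT E).map (MulAut.conj α).toMonoidHom) cT_le_lgen (cT_isPGroup hG)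
    (fun R hR hR' hcR => s.syl R (hR.trans (lgen_le s.cT_le)) hR' hcR)
    (by rintro _ ⟨c, hc, rfl⟩; exact lgen_conj hα (cT_le_lgen hc)) ((cT_isPGroup hG).map _)
  have hγ : l⁻¹ * α ∈ A := A.mul_mem (A.inv_mem (lgen_le s.cT_le hl)) hα
  refine ⟨l, hl, l⁻¹ * α, hγ, by group, s.ext _ hγ fun c hc => ?_⟩
  rw [show l⁻¹ * α * c * (l⁻¹ * α)⁻¹ = l⁻¹ * (α * c * α⁻¹) * l by group]
  exact hlc _ ⟨c, hc, rfl⟩

/-- `Lgen A` is generated by `cT E` and its elements of order prime to `p`. -/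
theorem Side.lgen_induction (s : Side p E A B) (hG : IsPGroup p G) {H : Subgroup (MulAut E)}
    (hT : cT E ≤ H) (hco : ∀ α ∈ Lgen A, (orderOf α).Coprime p → α ∈ H) : Lgen A ≤ H := by
  refine Subgroup.subgroupOf_eq_top.mp ?_
  rw [← Subgroup.index_eq_one]
  by_contra hne
  obtain ⟨q, hq, hqK⟩ := Nat.exists_prime_and_dvd hne
  haveI := Fact.mk hq
  rcases eq_or_ne q p with rfl | hqp
  · obtain ⟨S, hS⟩ := ((cT_isPGroup hG).of_equiv
      (Subgroup.subgroupOfEquivOfLe (cT_le_lgen (A := A))).symm).exists_le_sylow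
    have hSK : (S : Subgroup (Lgen A)) ≤ H.subgroupOf (Lgen A) := fun x hx =>
      hT (s.syl _ ((Subgroup.map_subtype_le _).trans (lgen_le s.cT_le)) (S.2.map _)
        (fun c hc => ⟨⟨c, cT_le_lgen hc⟩, hS hc, rfl⟩) ⟨x, hx, rfl⟩)
    exact S.not_dvd_index (hqK.trans (Subgroup.index_dvd_of_le hSK))
  · let S : Sylow q (Lgen A) := default
    have hSK : (S : Subgroup (Lgen A)) ≤ H.subgroupOf (Lgen A) := fun x hx => by
      refine hco _ x.2 ?_
      obtain ⟨k, hk⟩ := IsPGroup.iff_orderOf.mp S.2 ⟨x, hx⟩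
      rw [Subgroup.orderOf_mk] at hk
      change (orderOf (x : MulAut E)).Coprime p
      rw [Subgroup.orderOf_coe, hk]
      exact ((Nat.coprime_primes hq Fact.out).2 hqp).pow_left k
    exact S.not_dvd_index (hqK.trans (Subgroup.index_dvd_of_le hSK))

/-- A coprime automorphism trivial on both layers is trivial. -/
theorem trivOn_trans (hG : IsPGroup p G) {α : MulAut E} (hα : (orderOf α).Coprime p)
    {X Y M : Subgroup G} (hY : Y ≤ X) (hM : M ≤ Y) (hMn : M.Normal) (h1 : TrivOn α X Y)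
    (h2 : TrivOn α Y M) : TrivOn α X M :=
  fun x hx => ToolsAux.stab_trans (hG.to_subgroup E) hα (X := X.subgroupOf E)
    (Y := Y.subgroupOf E) (M := M.subgroupOf E) (fun _ hm => hM hm) (fun y hy => h1 y hy)
    (fun y hy => h2 y hy) x hx

theorem invA_of_invB (s : Side p E A B) (hG : IsPGroup p G) {X : Subgroup G} (hX : X ≤ E)
    (hB : InvB B X) (hL : ∀ l ∈ Lgen A, ∀ x : E, (x : G) ∈ X → ((l x : E) : G) ∈ X) :
    InvA A X := by
  intro α hα x hx
  obtain ⟨l, hl, γ, -, rfl, β, hβ, h⟩ := s.frattini hG hα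
  rw [MulAut.mul_apply]
  refine hL l hl _ ?_
  rw [← h x]
  exact hB β hβ _ hx

theorem invB_of_invA (r : Restricts A B) {X : Subgroup G} (hX : X ≤ E) (h : InvA A X) :
    InvB B X := by
  intro β hβ x hx
  obtain ⟨α, hα, h'⟩ := r β hβ
  rw [← h' ⟨x, hX hx⟩]
  exact h α hα _ hx

theorem normal_of_invB (hi : (MulAut.conj : G →* MulAut G).range ≤ B) {X : Subgroup G}
    (h : InvB B X) : X.Normal :=
  ⟨fun n hn g => h _ (hi ⟨g, rfl⟩) n hn⟩

theorem invA_map_char (K : Subgroup E) [K.Characteristic] : InvA A (K.map E.subtype) := by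
  intro α _ x hx
  obtain ⟨y, hy, hyx⟩ := hx
  obtain rfl : y = x := Subtype.ext hyx
  exact ⟨α y, Subgroup.characteristic_iff_le_comap.1 inferInstance α hy, rfl⟩

/-- If `G` centralises an invariant section, so does `Lgen A`. -/
theorem lgen_trivOn (hn : E.Normal) (hT : cT E ≤ A) {X M : Subgroup G} (hXn : X.Normal)
    (hMn : M.Normal) (hM : M ≤ X) (hXi : InvA A X) (hMi : InvA A M)
    (hc : ∀ g : G, ∀ x ∈ X, x⁻¹ * (g * x * g⁻¹) ∈ M) : ∀ l ∈ Lgen A, TrivOn l X M := by
  intro l hl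
  induction hl using Subgroup.closure_induction with
  | mem γ hγ =>
    obtain ⟨α, hα, c, hcT, rfl⟩ := hγ
    intro x hx
    obtain ⟨g, hg⟩ := (mem_cT hn).1 hcT
    have h1 : (((α⁻¹ x)⁻¹ * c (α⁻¹ x) : E) : G) ∈ M := by
      rw [Subgroup.coe_mul, Subgroup.coe_inv, hg]
      exact hc g _ (hXi _ (A.inv_mem hα) x hx)
    have h2 := hMi α hα _ h1
    simpa [map_mul, map_inv] using h2
  | one => intro x _; simp
  | mul a b ha hb iha ihb =>
    intro x hx
    have h1 : ((b x : E) : G) ∈ X := hXi _ (lgen_le hT hb) x hx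
    have := M.mul_mem (ihb x hx) (iha (b x) h1)
    simpa [mul_assoc] using this
  | inv a ha iha =>
    intro x hx
    have h1 : ((a⁻¹ x : E) : G) ∈ X := hXi _ (A.inv_mem (lgen_le hT ha)) x hx
    have := M.inv_mem (iha _ h1)
    simpa using this

/-- Nothing moves a section of order at most `p`. -/
theorem otriv_of_relIndex_le (hG : IsPGroup p G) (hn : E.Normal) (hT : cT E ≤ A)
    {X M : Subgroup G} (hXE : X ≤ E) (hXn : X.Normal) (hMn : M.Normal) (hM : M ≤ X)
    (hXi : InvA A X) (hMi : InvA A M) (h : M.relIndex X ≤ p) : OTriv p A X M := by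
  refine fun α hα _ => lgen_trivOn hn hT hXn hMn hM hXi hMi (fun g x hx => ?_) α hα
  haveI : (X.map (QuotientGroup.mk' M)).Normal := hXn.map _ (QuotientGroup.mk'_surjective M)
  have hcard : Nat.card (X.map (QuotientGroup.mk' M)) = M.relIndex X := by
    rw [← Subgroup.relIndex_ker, QuotientGroup.ker_mk']
  obtain ⟨k, hk⟩ := ((hG.to_quotient M).to_subgroup (X.map (QuotientGroup.mk' M))).exists_card_eq
  have hcen : X.map (QuotientGroup.mk' M) ≤ Subgroup.center (G ⧸ M) := by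
    rcases k with - | - | k
    · rw [pow_zero] at hk
      rw [Subgroup.card_eq_one.1 hk]
      exact bot_le
    · rw [pow_one] at hk
      exact PGroup.le_center_of_card_eq (hG.to_quotient M) hk
    · exfalso
      have h1 : p ^ 1 < p ^ (k + 1 + 1) :=
        Nat.pow_lt_pow_right (Fact.out : p.Prime).one_lt (by omega)
      rw [pow_one, ← hk, hcard] at h1
      omega
  have h2 := Subgroup.mem_center_iff.1 (hcen ⟨x, hx, rfl⟩) (QuotientGroup.mk' M g)
  rw [← QuotientGroup.eq_one_iff]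
  show QuotientGroup.mk' M (x⁻¹ * (g * x * g⁻¹)) = 1
  rw [map_mul, map_mul, map_mul, map_inv, map_inv, h2]
  group

theorem moves_of_otriv (s : Side p E A B) (hG : IsPGroup p G) {X : Subgroup G} (hXE : X ≤ E)
    (hXn : X.Normal) (h : OTriv p A X ⊥) : Moves p A X := fun h' =>
  s.moves fun α hα hco =>
    trivOn_trans hG hco hXE bot_le inferInstance (h' α hα hco) (h α hα hco)

/-- Burnside: an invariant normal subgroup with image of order at most `p` in `E / Φ(E)`. -/
theorem moves_of_frattini (s : Side p E A B) (hG : IsPGroup p G) {X : Subgroup G} (hXE : X ≤ E)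
    (hXn : X.Normal) (hXi : InvA A X)
    (h : (X ⊓ (frattini E).map E.subtype).relIndex X ≤ p) : Moves p A X := by
  intro h'
  haveI := s.normal
  refine s.moves fun α hα hco => ?_
  have hMi : InvA A (X ⊓ (frattini E).map E.subtype) :=
    fun β hβ x hx => ⟨hXi β hβ x hx.1, invA_map_char (A := A) (frattini E) β hβ x hx.2⟩
  have hMn : (X ⊓ (frattini E).map E.subtype).Normal := inferInstance
  have hO := otriv_of_relIndex_le hG s.normal s.cT_le hXE hXn hMn inf_le_left hXi hMi h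
  have h2 := trivOn_trans hG hco hXE inf_le_left hMn (h' α hα hco) (hO α hα hco)
  have h1 : α = 1 := PGroup.mulAut_eq_one_of_frattini (hG.to_subgroup E) α hco fun x =>
    (Subgroup.mem_map_iff_mem E.subtype_injective).1 (h2 x x.2).2
  intro x _
  rw [h1]
  simp

theorem moves_mono {X Y : Subgroup G} (h : Moves p A Y) (hXY : X ≤ Y) : Moves p A X :=
  fun h' => h fun α hα hco x hx => hXY (h' α hα hco x hx)

theorem exists_fixed_coprime (hG : IsPGroup p G) {τ : MulAut G} (hτ : (orderOf τ).Coprime p)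
    {N : Subgroup G} (hNn : N.Normal) (hN : ∀ n ∈ N, τ n ∈ N) {g : G} (hg : g⁻¹ * τ g ∈ N) :
    ∃ g', g⁻¹ * g' ∈ N ∧ τ g' = g' := by
  suffices ∀ n : ℕ, ∀ τ : MulAut G, τ ^ n = 1 → n.Coprime p → (∀ x ∈ N, τ x ∈ N) →
      g⁻¹ * τ g ∈ N → ∃ g', g⁻¹ * g' ∈ N ∧ τ g' = g' from
    this _ τ (pow_orderOf_eq_one τ) hτ hN hg
  intro n
  induction n using Nat.strong_induction_on with
  | _ n ih =>
  intro τ hn hco hN hg
  rcases eq_or_ne n 1 with rfl | h1
  · rw [pow_one] at hn
    exact ⟨g, by simp, by simp [hn]⟩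
  have hn0 : n ≠ 0 := by
    rintro rfl
    exact (Fact.out : p.Prime).ne_one (by simpa using hco)
  obtain ⟨q, hq, m, rfl⟩ := Nat.exists_prime_and_dvd h1
  haveI := Fact.mk hq
  have hcos : ∀ y, g⁻¹ * y ∈ N → g⁻¹ * τ y ∈ N := fun y hy => by
    have := N.mul_mem hg (hN _ hy)
    rwa [map_mul, map_inv, mul_assoc, mul_inv_cancel_left] at this
  have hcosk : ∀ (k : ℕ) y, g⁻¹ * y ∈ N → g⁻¹ * (τ ^ k) y ∈ N := by
    intro k
    induction k with
    | zero => intro y hy; simpa using hy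
    | succ k ihk => intro y hy; rw [pow_succ', MulAut.mul_apply]; exact hcos _ (ihk y hy)
  have hNk : ∀ (k : ℕ), ∀ x ∈ N, (τ ^ k) x ∈ N := by
    intro k
    induction k with
    | zero => intro y hy; simpa using hy
    | succ k ihk => intro y hy; rw [pow_succ', MulAut.mul_apply]; exact hN _ (ihk y hy)
  have hm0 : 0 < m := Nat.pos_of_ne_zero (right_ne_zero_of_mul hn0)
  obtain ⟨g1, hg1, hfix⟩ := ih m (lt_mul_left hm0 hq.one_lt) (τ ^ q) (by rw [← pow_mul, hn])
    (hco.coprime_dvd_left (dvd_mul_left m q)) (hNk q) (hcosk q g (by simp))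
  let C : Subgroup G := N ⊓ (τ ^ q).toMonoidHom.eqLocus (MonoidHom.id G)
  let T := {y : G // g⁻¹ * y ∈ N ∧ (τ ^ q) y = y}
  have eT : T ≃ C :=
    { toFun := fun y => ⟨g1⁻¹ * y.1, by
          have := N.mul_mem (N.inv_mem hg1) y.2.1
          simpa [mul_assoc] using this,
        show (τ ^ q) (g1⁻¹ * y.1) = g1⁻¹ * y.1 by rw [map_mul, map_inv, hfix, y.2.2]⟩
      invFun := fun c => ⟨g1 * c.1, by rw [← mul_assoc]; exact N.mul_mem hg1 c.2.1, by
          have h := c.2.2
          change (τ ^ q) c.1 = c.1 at h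
          rw [map_mul, hfix, h]⟩
      left_inv := fun y => Subtype.ext (by simp)
      right_inv := fun c => Subtype.ext (by simp) }
  let f : T → T := fun y => ⟨τ y.1, hcos _ y.2.1, by
    rw [← MulAut.mul_apply, ← pow_succ, pow_succ', MulAut.mul_apply, y.2.2]⟩
  have hf : Function.Injective f := fun a b hab =>
    Subtype.ext (τ.injective (congrArg Subtype.val hab))
  let e : Equiv.Perm T := Equiv.ofBijective f (Finite.injective_iff_bijective.mp hf)
  haveI := Fintype.ofFinite T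
  have he : ∀ (k : ℕ) (y : T), ((e ^ k) y).1 = (τ ^ k) y.1 := by
    intro k
    induction k with
    | zero => intro y; rfl
    | succ k ihk =>
      intro y
      rw [pow_succ', pow_succ', Equiv.Perm.mul_apply, MulAut.mul_apply, ← ihk y]
      rfl
  obtain ⟨y, hy⟩ := Equiv.Perm.exists_fixed_point_of_prime (p := q) (n := 1) (σ := e) (by
      rw [← Nat.card_eq_fintype_card, Nat.card_congr eT]
      obtain ⟨k, hk⟩ := (hG.to_subgroup C).exists_card_eq
      rw [hk]
      intro hd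
      have hqp := (Nat.prime_dvd_prime_iff_eq hq Fact.out).1 (hq.dvd_of_dvd_pow hd)
      exact hq.coprime_iff_not_dvd.1 (hco.coprime_dvd_left (dvd_mul_right q m))
        (dvd_of_eq hqp)) (by
      refine Equiv.ext fun y => Subtype.ext ?_
      rw [pow_one, he q y]
      exact y.2.2)
  exact ⟨y.1, y.2.1, congrArg Subtype.val hy⟩

/-- `τ` has square one as soon as it fixes `C`. -/
theorem Plane.tau_sq {C : Subgroup G} {τ : MulAut G} (hP : Plane p E A B C τ) (hG : IsPGroup p G)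
    (hn : E.Normal) (hfix : ∀ c ∈ C, τ c = c) : τ * τ = 1 := by
  have hco : (orderOf (τ * τ)).Coprime p :=
    hP.tau.cop.coprime_dvd_left (by rw [← sq]; exact orderOf_pow_dvd 2)
  have h1 : ∀ g ∈ (⊤ : Subgroup G), g⁻¹ * (τ * τ) g ∈ E := fun g _ => by
    have := E.mul_mem (hP.tau.quot g) (hP.tau.quot (τ g))
    rwa [mul_assoc, mul_inv_cancel_left] at this
  have h2 : ∀ x ∈ E, x⁻¹ * (τ * τ) x ∈ C := fun x hx => by
    have hc := hP.tau.neg x hx
    set c := x * τ x with hcdef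
    have e1 : τ x = x⁻¹ * c := by rw [hcdef]; group
    have e2 : (τ * τ) x = c⁻¹ * x * c := by
      rw [MulAut.mul_apply, e1, map_mul, map_inv, hfix c hc, e1, mul_inv_rev, inv_inv]
    rw [e2, show x⁻¹ * (c⁻¹ * x * c) = (x⁻¹ * c⁻¹ * x) * c by group]
    refine C.mul_mem ?_ hc
    simpa using hP.normal.conj_mem c⁻¹ (C.inv_mem hc) x⁻¹
  have h3 : ∀ c ∈ C, c⁻¹ * (τ * τ) c ∈ (⊥ : Subgroup G) := fun c hc => by
    rw [MulAut.mul_apply, hfix c hc, hfix c hc, inv_mul_cancel]
    exact one_mem _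
  refine MulEquiv.ext fun g => ?_
  have := ToolsAux.stab_trans hG hco bot_le (ToolsAux.stab_trans hG hco hP.le h1 h2) h3 g trivial
  rw [Subgroup.mem_bot, inv_mul_eq_one] at this
  exact this.symm

/-- Three subgroups lemma. -/
theorem commute_of_fixed {C : Subgroup G} (hC : C.Normal) {τ : MulAut G}
    (hfix : ∀ c ∈ C, τ c = c) (x : G) : ∀ c ∈ C, (x⁻¹ * τ x) * c = c * (x⁻¹ * τ x) := by
  intro c hc
  have h := hfix _ (hC.conj_mem c hc x)
  rw [map_mul, map_mul, map_inv, hfix c hc] at h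
  calc x⁻¹ * τ x * c = x⁻¹ * (τ x * c * (τ x)⁻¹) * τ x := by group
    _ = c * (x⁻¹ * τ x) := by rw [h]; group

end Cfsg.Agent.CharPair
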