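import Cfsg.Agent.CharPair.Tools
import Cfsg.Agent.EssMax.Lin3
import Cfsg.Agent.PGroup.Basic

/-!
# the axes of a transvection class (S5189)

Paper proof. C = the intersection of the A-images of D contains Φ(E), so E/C is elementary, of
order ≤ p³ by rank; it is not D, as D invariant gives a chain 1 ≤ D ≤ E centralised by z hence
OTriv, against s.moves. In V = E/C the conjugates of c_z are transvections with axis αD/C; a
Sylow subgroup of the image has order p (s.syl). If the centre of one lies on the axis of another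
they stabilise a common series, so generate a group of order p and the axes agree. The orbit of
H_y under x with H_x is the whole pencil at H_x ∩ H_y. If |V| = p³ three axes are not concurrent,
so the line c_x c_y is an axis: contradiction.
-/

set_option autoImplicit false
set_option linter.unusedSectionVars false

open Cfsg.Agent.FusRankThree

namespace Cfsg.Agent.CharPair

universe u

namespace TransvLinAux

open Cfsg.Agent.EssMax.LinOdd

variable {p : ℕ} [Fact p.Prime] {V : Type u} [CommGroup V]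

/-- A transvection with axis `H` in a group with Sylow subgroups of order `p`. -/
structure Axes (p : ℕ) (T : Subgroup (MulAut V)) (t : MulAut V) (H : Subgroup V) : Prop where
  three : 3 ≤ p
  exp : ∀ v : V, v ^ p = 1
  card : Nat.card V = p ^ 3
  syl : ∀ P ≤ T, IsPGroup p P → Nat.card P ≤ p
  mem : t ∈ T
  ne : t ≠ 1
  cardH : Nat.card H = p ^ 2
  fix : ∀ h ∈ H, t h = h
  moved : ∀ v, dl t v ∈ H

variable [Finite V] {T : Subgroup (MulAut V)} {t : MulAut V} {H : Subgroup V}

theorem Axes.pgroup (h : Axes p T t H) : IsPGroup p V := IsPGroup.of_card h.card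

theorem Axes.ker_eq (h : Axes p T t H) : (dl t).ker = H := by
  refine le_antisymm ?_ fun v hv => mem_ker.2 (h.fix v hv)
  by_contra hn
  have h1 := card_mul_le h.pgroup (lt_of_le_not_ge (fun v hv => mem_ker.2 (h.fix v hv)) hn :
    H < (dl t).ker)
  rw [h.cardH, ← pow_succ, ← h.card] at h1
  exact dl_ker_ne_top h.ne (Subgroup.eq_top_of_le_card _ h1)

theorem Axes.range_le (h : Axes p T t H) : (dl t).range ≤ H := by
  rintro _ ⟨v, rfl⟩
  exact h.moved v

theorem Axes.card_range (h : Axes p T t H) : Nat.card (dl t).range = p := by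
  have h1 := Subgroup.card_mul_index (dl t).ker
  rw [Subgroup.index_ker, h.ker_eq, h.cardH, h.card, pow_succ p 2] at h1
  exact Nat.eq_of_mul_eq_mul_left (pow_pos (Fact.out : p.Prime).pos 2) h1

theorem Axes.pow_eq (h : Axes p T t H) : t ^ p = 1 := by
  refine MulEquiv.ext fun v => ?_
  rw [pow_shift (h.fix _ (h.moved v)) (apply_eq t v) p, h.exp, mul_one]
  rfl

/-- The centre of one lies on the axis of the other only if the axes agree. -/
theorem Axes.key (h : Axes p T t H) {g₁ g₂ : MulAut V} (hg₁ : g₁ ∈ T) (hg₂ : g₂ ∈ T)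
    (hle : (dl t).range.map g₁.toMonoidHom ≤ H.map g₂.toMonoidHom) :
    H.map g₁.toMonoidHom = H.map g₂.toMonoidHom := by
  have k : ∀ g : MulAut V, (dl (g * t * g⁻¹)).ker = H.map g.toMonoidHom := fun g => by
    rw [ker_conj, h.ker_eq]
  have r : ∀ g : MulAut V, (dl (g * t * g⁻¹)).range ≤ (dl (g * t * g⁻¹)).ker := fun g => by
    rw [range_conj, k]
    exact Subgroup.map_mono h.range_le
  obtain ⟨h1, h2, h3⟩ := transvection_stab (r g₂) (r g₁) (by rw [range_conj, k]; exact hle)
  have hmem : ∀ g ∈ T, g * t * g⁻¹ ∈ T := fun g hg => T.mul_mem (T.mul_mem hg h.mem) (T.inv_mem hg)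
  set P := Subgroup.closure {g₁ * t * g₁⁻¹, g₂ * t * g₂⁻¹} with hP
  have hPT : P ≤ T := (Subgroup.closure_le _).2 (Set.pair_subset (hmem _ hg₁) (hmem _ hg₂))
  have hcard := h.syl P hPT (isPGroup_closure_stab (p := p) h.three h.exp h1
    (Set.pair_subset h3 h2))
  have m1 : g₁ * t * g₁⁻¹ ∈ P := Subgroup.subset_closure (Set.mem_insert _ _)
  have m2 : g₂ * t * g₂⁻¹ ∈ P := Subgroup.subset_closure (Set.mem_insert_of_mem _ rfl)
  have ho : orderOf (g₁ * t * g₁⁻¹) = p := by
    refine EssMax.LinOdd.orderOf_eq ?_ fun e => h.ne ?_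
    · rw [conj_pow, h.pow_eq, mul_one, mul_inv_cancel]
    · simpa using e
  have hPp : Nat.card P = p := le_antisymm hcard (by
    conv_lhs => rw [← ho, ← Nat.card_zpowers]
    exact Subgroup.card_le_of_le (Subgroup.zpowers_le.2 m1))
  obtain ⟨n, hn⟩ := exists_pow_eq hPp m1 (fun e => h.ne (by simpa using e)) m2
  refine Subgroup.eq_of_le_of_card_ge (fun x hx => ?_) (by rw [card_map_aut, card_map_aut])
  rw [← k g₂, ← hn, mem_ker]
  exact pow_fixed (mem_ker.1 (k g₁ ▸ hx)) n

/-- Two planes meet in a line. -/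
theorem card_inf (hV : IsPGroup p V) (hc : Nat.card V = p ^ 3) {K K' : Subgroup V}
    (hK : Nat.card K = p ^ 2) (hK' : Nat.card K' = p ^ 2) (hne : K ≠ K') :
    Nat.card ↥(K ⊓ K') = p := by
  have hpp := (Fact.out : p.Prime).pos
  have hi : ∀ L : Subgroup V, Nat.card L = p ^ 2 → L.index = p := fun L hL => by
    have h1 := Subgroup.card_mul_index L
    rw [hL, hc, pow_succ p 2] at h1
    exact Nat.eq_of_mul_eq_mul_left (pow_pos hpp 2) h1
  have hlt : K ⊓ K' < K := lt_of_le_of_ne inf_le_left fun e => hne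
    (Subgroup.eq_of_le_of_card_ge (inf_eq_left.1 e) (by rw [hK, hK']))
  have h1 := card_mul_le hV hlt
  rw [hK, sq] at h1
  refine le_antisymm (Nat.le_of_mul_le_mul_right h1 hpp) ?_
  have h2 := Subgroup.card_mul_index (K ⊓ K')
  have h3 : (K ⊓ K').index ≤ p * p := by
    simpa [hi K hK, hi K' hK'] using Subgroup.index_inf_le (H := K) (K := K')
  refine Nat.le_of_mul_le_mul_right (c := p * p) ?_ (Nat.mul_pos hpp hpp)
  calc p * (p * p) = Nat.card ↥(K ⊓ K') * (K ⊓ K').index := by rw [h2, hc]; ring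
    _ ≤ Nat.card ↥(K ⊓ K') * (p * p) := Nat.mul_le_mul_left _ h3

/-- Two lines span a plane. -/
theorem exists_span (hV : IsPGroup p V) {L M : Subgroup V} (hL : Nat.card L = p)
    (hM : Nat.card M = p) (hne : ¬ M ≤ L) :
    ∃ W : Subgroup V, L ≤ W ∧ M ≤ W ∧ Nat.card W = p ^ 2 := by
  refine ⟨(L.subtype.coprod M.subtype).range, fun x hx => ⟨(⟨x, hx⟩, 1), by simp⟩,
    fun x hx => ⟨(1, ⟨x, hx⟩), by simp⟩, le_antisymm ?_ ?_⟩
  · refine (Nat.card_le_card_of_surjective _ (MonoidHom.rangeRestrict_surjective _)).trans_eq ?_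
    rw [Nat.card_prod, hL, hM, sq]
  · have hlt : L < (L.subtype.coprod M.subtype).range := lt_of_le_of_ne
      (fun x hx => ⟨(⟨x, hx⟩, 1), by simp⟩) fun e => hne fun x hx => by
        rw [e]
        exact ⟨(1, ⟨x, hx⟩), by simp⟩
    have := card_mul_le hV hlt
    rwa [hL, ← sq] at this

/-- The pencil at the intersection of two axes consists of axes. -/
theorem Axes.pencil (h : Axes p T t H) {g₁ g₂ : MulAut V} (hg₁ : g₁ ∈ T) (hg₂ : g₂ ∈ T)
    (hne : H.map g₁.toMonoidHom ≠ H.map g₂.toMonoidHom) {W : Subgroup V}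
    (hW : Nat.card W = p ^ 2) (hLW : H.map g₁.toMonoidHom ⊓ H.map g₂.toMonoidHom ≤ W) :
    ∃ g ∈ T, W = H.map g.toMonoidHom := by
  have hcH : ∀ g : MulAut V, Nat.card (H.map g.toMonoidHom) = p ^ 2 := fun g =>
    (card_map_aut H g).trans h.cardH
  by_cases hW1 : W = H.map g₁.toMonoidHom
  · exact ⟨g₁, hg₁, hW1⟩
  obtain ⟨w, hw, hw1⟩ : ∃ w ∈ W, w ∉ H.map g₁.toMonoidHom := by
    by_contra hcon
    push Not at hcon
    exact hW1 (Subgroup.eq_of_le_of_card_ge hcon (by rw [hW, hcH]))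
  set C₁ := (dl t).range.map g₁.toMonoidHom with hC₁
  have hC₁H : C₁ ≤ H.map g₁.toMonoidHom := Subgroup.map_mono h.range_le
  have hC₁p : Nat.card C₁ = p := (card_map_aut _ g₁).trans h.card_range
  have htop : H.map g₂.toMonoidHom ⊔ C₁ = ⊤ := by
    have hlt : H.map g₂.toMonoidHom < H.map g₂.toMonoidHom ⊔ C₁ :=
      lt_of_le_of_ne le_sup_left fun e => hne (h.key hg₁ hg₂ (sup_eq_left.1 e.symm))
    have h1 := card_mul_le h.pgroup hlt
    rw [hcH, ← pow_succ, ← h.card] at h1
    exact Subgroup.eq_top_of_le_card _ h1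
  obtain ⟨x, hx, c, hc, hxc⟩ :=
    Subgroup.mem_sup.1 (htop ▸ Subgroup.mem_top w : w ∈ H.map g₂.toMonoidHom ⊔ C₁)
  set t₁ := g₁ * t * g₁⁻¹ with ht₁
  have k : (dl t₁).ker = H.map g₁.toMonoidHom := by rw [ht₁, ker_conj, h.ker_eq]
  have hd : dl t₁ x ∈ C₁ := by
    rw [hC₁, ← range_conj]
    exact ⟨x, rfl⟩
  have hd1 : dl t₁ x ≠ 1 := fun e => hw1 (hxc ▸ Subgroup.mul_mem _
    (k ▸ MonoidHom.mem_ker.2 e) (hC₁H hc))
  obtain ⟨n, hn⟩ := exists_pow_eq hC₁p hd hd1 hc
  have hgT : t₁ ^ n * g₂ ∈ T := T.mul_mem (T.pow_mem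
    (T.mul_mem (T.mul_mem hg₁ h.mem) (T.inv_mem hg₁)) n) hg₂
  refine ⟨_, hgT, ?_⟩
  set L := H.map g₁.toMonoidHom ⊓ H.map g₂.toMonoidHom with hL
  have hLp : Nat.card L = p := card_inf h.pgroup h.card (hcH _) (hcH _) hne
  have hLg : L ≤ H.map (t₁ ^ n * g₂).toMonoidHom := by
    intro y hy
    obtain ⟨y1, y0, hy0, e⟩ := hy
    refine ⟨y0, hy0, ?_⟩
    show (t₁ ^ n) (g₂ y0) = y
    rw [show g₂ y0 = y from e]
    exact pow_fixed (mem_ker.1 (k ▸ y1)) n
  have hwg : w ∈ H.map (t₁ ^ n * g₂).toMonoidHom := by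
    obtain ⟨x0, hx0, e⟩ := hx
    refine ⟨x0, hx0, ?_⟩
    show (t₁ ^ n) (g₂ x0) = w
    rw [show g₂ x0 = x from e, pow_shift (mem_ker.1 (k ▸ hC₁H hd)) (apply_eq t₁ x) n, hn, hxc]
  have hlt : L < W ⊓ H.map (t₁ ^ n * g₂).toMonoidHom := lt_of_le_of_ne (le_inf hLW hLg)
    fun e => hw1 ((e ▸ ⟨hw, hwg⟩ : w ∈ L).1)
  have h1 := card_mul_le h.pgroup hlt
  rw [hLp, ← sq] at h1
  exact Subgroup.eq_of_le_of_card_ge
    (inf_eq_left.1 (Subgroup.eq_of_le_of_card_ge inf_le_left (hW.le.trans h1)))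
    (by rw [hW, hcH])

/-- The axes cannot have trivial intersection. -/
theorem Axes.contra (h : Axes p T t H) (hcore : ∀ v : V, (∀ g ∈ T, g v ∈ H) → v = 1) : False := by
  have hcH : ∀ g : MulAut V, Nat.card (H.map g.toMonoidHom) = p ^ 2 := fun g =>
    (card_map_aut H g).trans h.cardH
  have hout : ∀ v : V, v ≠ 1 → ∃ g ∈ T, v ∉ H.map g.toMonoidHom := by
    intro v hv
    have : ¬ ∀ g ∈ T, g v ∈ H := fun hall => hv (hcore v hall)
    push Not at this
    obtain ⟨g, hg, hgv⟩ := this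
    refine ⟨g⁻¹, T.inv_mem hg, ?_⟩
    rintro ⟨y, hy, rfl⟩
    exact hgv (by simpa using hy)
  obtain ⟨v, hv, hv1⟩ := (Subgroup.bot_or_exists_ne_one H).resolve_left fun e => by
    have := h.cardH
    rw [e, Subgroup.card_bot] at this
    exact (Nat.one_lt_pow two_ne_zero (Fact.out : p.Prime).one_lt).ne this
  obtain ⟨g₂, hg₂, hvg⟩ := hout v hv1
  have hne : H.map (1 : MulAut V).toMonoidHom ≠ H.map g₂.toMonoidHom := fun e =>
    hvg (e ▸ ⟨v, hv, rfl⟩)
  obtain ⟨W, hW1, hW2, hW⟩ := exists_span h.pgroup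
    ((card_map_aut _ (1 : MulAut V)).trans h.card_range) ((card_map_aut _ g₂).trans h.card_range)
    (fun hle => hne (h.key hg₂ T.one_mem (hle.trans (Subgroup.map_mono h.range_le))).symm)
  have hWnot : ∀ g ∈ T, W ≠ H.map g.toMonoidHom := fun g hg e =>
    hne ((h.key T.one_mem hg (hW1.trans e.le)).trans (h.key hg₂ hg (hW2.trans e.le)).symm)
  set L := H.map (1 : MulAut V).toMonoidHom ⊓ H.map g₂.toMonoidHom with hLdef
  have hLp : Nat.card L = p := card_inf h.pgroup h.card (hcH _) (hcH _) hne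
  by_cases hLW : L ≤ W
  · obtain ⟨g, hg, e⟩ := h.pencil T.one_mem hg₂ hne hW hLW
    exact hWnot g hg e
  obtain ⟨w, hwL, hwW⟩ := SetLike.not_le_iff_exists.1 hLW
  obtain ⟨g₃, hg₃, hw3⟩ := hout w fun e => hwW (e ▸ W.one_mem)
  have hMp : Nat.card ↥(W ⊓ H.map g₃.toMonoidHom) = p :=
    card_inf h.pgroup h.card hW (hcH _) (hWnot g₃ hg₃)
  obtain ⟨U, hLU, hMU, hU⟩ := exists_span h.pgroup hLp hMp fun hle => hLW
    ((Subgroup.eq_of_le_of_card_ge hle (by rw [hLp, hMp])).symm.le.trans inf_le_left)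
  obtain ⟨g₅, hg₅, e₅⟩ := h.pencil T.one_mem hg₂ hne hU hLU
  have hne5 : H.map g₅.toMonoidHom ≠ H.map g₃.toMonoidHom := fun e =>
    hw3 (e ▸ e₅ ▸ hLU hwL)
  have hM5 : W ⊓ H.map g₃.toMonoidHom = H.map g₅.toMonoidHom ⊓ H.map g₃.toMonoidHom :=
    Subgroup.eq_of_le_of_card_ge (le_inf (hMU.trans e₅.le) inf_le_right)
      (by rw [hMp, card_inf h.pgroup h.card (hcH _) (hcH _) hne5])
  obtain ⟨g, hg, e⟩ := h.pencil hg₅ hg₃ hne5 hW (hM5.symm.le.trans inf_le_left)
  exact hWnot g hg e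

/-- The action of `A` on an invariant quotient. -/
def quotAut {X : Type u} [Group X] (N : Subgroup X) [N.Normal] (A : Subgroup (MulAut X))
    (h : ∀ α ∈ A, ∀ x ∈ N, α x ∈ N) : A →* MulAut (X ⧸ N) where
  toFun α := QuotientGroup.congr N N (α : MulAut X) (by
    ext x
    refine ⟨?_, fun hx => ⟨(α : MulAut X)⁻¹ x, h _ (A.inv_mem α.2) x hx, by simp⟩⟩
    rintro ⟨y, hy, rfl⟩
    exact h _ α.2 y hy)
  map_one' := by
    ext q
    induction q using QuotientGroup.induction_on
    rfl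
  map_mul' α β := by
    ext q
    induction q using QuotientGroup.induction_on
    rfl

theorem quotAut_mk {X : Type u} [Group X] (N : Subgroup X) [N.Normal] (A : Subgroup (MulAut X))
    (h : ∀ α ∈ A, ∀ x ∈ N, α x ∈ N) (α : A) (x : X) :
    quotAut N A h α (x : X ⧸ N) = (((α : MulAut X) x : X) : X ⧸ N) := rfl

variable {G : Type u} [Group G] [Finite G] {E : Subgroup G} {A : Subgroup (MulAut E)}

omit [Finite G] in
theorem sup_zpowers_top {B : Subgroup (MulAut G)} (s : Side p E A B) {z : G} (hz : z ∉ E) :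
    E ⊔ Subgroup.zpowers z = ⊤ := by
  have hle : E ≤ E ⊔ Subgroup.zpowers z := le_sup_left
  have hd := Subgroup.index_dvd_of_le hle
  rw [s.index] at hd
  rcases (Nat.dvd_prime Fact.out).1 hd with h1 | h1
  · exact Subgroup.index_eq_one.1 h1
  · exfalso
    have hh := Subgroup.relIndex_mul_index hle
    rw [h1, s.index] at hh
    have h2 : E.relIndex (E ⊔ Subgroup.zpowers z) = 1 :=
      Nat.eq_of_mul_eq_mul_right (Fact.out : p.Prime).pos (hh.trans (one_mul p).symm)
    exact hz (Subgroup.relIndex_eq_one.1 h2 (Subgroup.mem_sup_right (Subgroup.mem_zpowers z)))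

theorem normal_of_invA (hn : E.Normal) (hT : cT E ≤ A) {X : Subgroup G} (hXE : X ≤ E)
    (hX : InvA A X) : X.Normal := by
  refine ⟨fun x hx g => ?_⟩
  have hc : MulAut.conjNormal g ∈ cT E :=
    (mem_cT hn).2 ⟨g, fun y => MulAut.conjNormal_apply g y⟩
  have := hX _ (hT hc) ⟨x, hXE hx⟩ hx
  rwa [MulAut.conjNormal_apply] at this

/-- A subgroup centralised by `z` and invariant under `A` is fixed by the elements of `Lgen A` of
order prime to `p`: they induce there inner automorphisms of `E`. -/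
theorem otriv_core {B : Subgroup (MulAut G)} (hG : IsPGroup p G) (s : Side p E A B)
    {z : G} (hz : z ∉ E) {C : Subgroup G} (hCn : C.Normal) (hCi : InvA A C)
    (hzC : ∀ c ∈ C, z * c = c * z) : OTriv p A C ⊥ := by
  have hn := s.normal
  let M : Subgroup (MulAut E) :=
    { carrier := {γ | ∃ e : E, ∀ x : E, (x : G) ∈ C → γ x = e * x * e⁻¹}
      one_mem' := ⟨1, fun x _ => by simp⟩
      mul_mem' := by
        rintro γ δ ⟨e, he⟩ ⟨f, hf⟩
        refine ⟨e * f, fun x hx => ?_⟩
        rw [MulAut.mul_apply, hf x hx, he _ (by simpa using hCn.conj_mem _ hx (f : G))]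
        group
      inv_mem' := by
        rintro γ ⟨e, he⟩
        refine ⟨e⁻¹, fun x hx => ?_⟩
        apply γ.injective
        rw [MulAut.apply_inv_self, he _ (by simpa [mul_assoc] using hCn.conj_mem _ hx (e⁻¹ : G))]
        group }
  have htop := sup_zpowers_top s hz
  have hcM : ∀ c ∈ cT E, c ∈ M := by
    intro c hc
    obtain ⟨g, hg⟩ := (mem_cT hn).1 hc
    have hg' : g ∈ E ⊔ Subgroup.zpowers z := htop ▸ Subgroup.mem_top g
    rw [← SetLike.mem_coe, Subgroup.normal_mul] at hg'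
    obtain ⟨e, he, w, ⟨k, hk⟩, rfl⟩ := Set.mem_mul.1 hg'
    subst hk
    refine ⟨⟨e, he⟩, fun x hx => Subtype.ext ?_⟩
    have hk : z ^ k * (x : G) = x * z ^ k := (show Commute z (x : G) from hzC _ hx).zpow_left k
    rw [hg, Subgroup.coe_mul, Subgroup.coe_mul, Subgroup.coe_inv,
      show e * z ^ k * (x : G) * (e * z ^ k)⁻¹ = e * (z ^ k * x * (z ^ k)⁻¹) * e⁻¹ by group, hk,
      mul_inv_cancel_right]
  have hL : Lgen A ≤ M := by
    refine (Subgroup.closure_le _).2 ?_
    rintro _ ⟨α, hα, c, hc, rfl⟩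
    obtain ⟨e, he⟩ := hcM c hc
    refine ⟨α e, fun x hx => ?_⟩
    rw [MulAut.mul_apply, MulAut.mul_apply, he _ (hCi _ (A.inv_mem hα) x hx), map_mul, map_mul,
      map_inv, MulAut.apply_inv_self]
  intro α hα hco x hx
  obtain ⟨e, he⟩ := hL hα
  have hpow : ∀ k : ℕ, (α ^ k) x = e ^ k * x * (e ^ k)⁻¹ := by
    intro k
    induction k with
    | zero => simp
    | succ k ih =>
      rw [pow_succ', MulAut.mul_apply, ih,
        he _ (by simpa using hCn.conj_mem _ hx ((e : G) ^ k)), pow_succ']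
      group
  have h1 := hpow (orderOf α)
  rw [pow_orderOf_eq_one, MulAut.one_apply, eq_mul_inv_iff_mul_eq] at h1
  obtain ⟨k, hk⟩ := hG.to_subgroup E e
  obtain ⟨j, -, hj⟩ := (Nat.dvd_prime_pow Fact.out).1 (orderOf_dvd_of_pow_eq_one hk)
  have hc : (orderOf α).Coprime (orderOf e) := hj ▸ hco.pow_right j
  obtain ⟨m, hm⟩ := exists_pow_eq_self_of_coprime hc
  have h2 : e * x = x * e := hm ▸ (show Commute (e ^ orderOf α) x from h1.symm).pow_left m
  rw [Subgroup.mem_bot, he x hx, h2, mul_inv_cancel_right, inv_mul_cancel]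

end TransvLinAux

open TransvLinAux

variable {G : Type u} [Group G] [Finite G] {p : ℕ} [Fact p.Prime] {E : Subgroup G}
  {A : Subgroup (MulAut E)} {B : Subgroup (MulAut G)}

theorem exists_core_sq (hG : IsPGroup p G) (hodd : Odd p) (hr : RankThree p G)
    (s : Side p E A B) {D : Subgroup G} (hDn : D.Normal) (hDE : D ≤ E) (hD : D.relIndex E = p)
    {z : G} (hz : z ∉ E) (hzD : ∀ d ∈ D, z * d = d * z) :
    ¬ InvA A D ∧ ∃ C : Subgroup G, C.Normal ∧ C ≤ D ∧ InvA A C ∧ C.relIndex E = p ^ 2 ∧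
      OTriv p A C ⊥ ∧ (∀ x ∈ E, x ^ p ∈ C) ∧
      (∀ a ∈ E, a ∉ D → a * z * a⁻¹ * z⁻¹ ∉ C) ∧
      ∀ X : Subgroup G, C ≤ X → X ≤ E → InvA A X → X = C ∨ X = E := by
  have hp := (Fact.out : p.Prime)
  have hn := s.normal
  have hiE : InvA A E := fun α _ x _ => (α x).2
  have h3 : 3 ≤ p := by
    obtain ⟨m, hm⟩ := hodd
    have := hp.two_le
    omega
  -- a chain from `C` to `⊥` cannot be trivial
  have hkill : ∀ C : Subgroup G, C.Normal → C ≤ E → InvA A C → (∀ c ∈ C, z * c = c * z) →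
      OTriv p A E C → False := fun C hCn hCE hCi hzC hEC => s.moves fun α hα hco =>
    trivOn_trans hG hco hCE bot_le Subgroup.normal_bot (hEC α hα hco)
      (otriv_core hG s hz hCn hCi hzC α hα hco)
  have hnot : ¬ InvA A D := fun hDi => hkill D hDn hDE hDi hzD
    (otriv_of_relIndex_le hG hn s.cT_le le_rfl hn hDn hDE hiE hDi hD.le)
  refine ⟨hnot, ?_⟩
  have hGE : ∀ g : G, ∀ e ∈ E, g * e * g⁻¹ * e⁻¹ ∈ D := by
    have := hDn
    have : (E.map (QuotientGroup.mk' D)).Normal :=
      hn.map _ (QuotientGroup.mk'_surjective D)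
    have hcard : Nat.card (E.map (QuotientGroup.mk' D)) = p := by
      rw [← Subgroup.relIndex_ker, QuotientGroup.ker_mk', hD]
    intro g e he
    have h := Subgroup.mem_center_iff.1
      (PGroup.le_center_of_card_eq (hG.to_quotient D) hcard (Subgroup.mem_map_of_mem _ he))
      (QuotientGroup.mk' D g)
    rw [← QuotientGroup.eq_one_iff]
    change (QuotientGroup.mk' D) (g * e * g⁻¹ * e⁻¹) = 1
    rw [map_mul, map_mul, map_mul, h, map_inv, map_inv, mul_inv_cancel_right, mul_inv_cancel]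
  let C₀ : Subgroup E :=
    { carrier := {x | ∀ α ∈ A, ((α x : E) : G) ∈ D}
      one_mem' := fun α _ => by simp
      mul_mem' := fun hx hy α hα => by
        simpa using D.mul_mem (hx α hα) (hy α hα)
      inv_mem' := fun hx α hα => by simpa using D.inv_mem (hx α hα) }
  have hC₀n : C₀.Normal := ⟨fun c hc e α hα => by
    simpa using hDn.conj_mem _ (hc α hα) ((α e : E) : G)⟩
  have hC₀i : ∀ α ∈ A, ∀ x ∈ C₀, α x ∈ C₀ := fun α hα x hx β hβ => by
    simpa using hx (β * α) (A.mul_mem hβ hα)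
  set C := C₀.map E.subtype with hC
  have hmem : ∀ x : E, (x : G) ∈ C ↔ x ∈ C₀ := fun x =>
    Subgroup.mem_map_iff_mem E.subtype_injective
  have hCE : C ≤ E := Subgroup.map_subtype_le C₀
  have hCD : C ≤ D := by
    rintro _ ⟨x, hx, rfl⟩
    simpa using hx 1 A.one_mem
  have hCi : InvA A C := fun α hα x hx => (hmem _).2 (hC₀i α hα x ((hmem x).1 hx))
  have hCn : C.Normal := normal_of_invA hn s.cT_le hCE hCi
  have hzC : ∀ c ∈ C, z * c = c * z := fun c hc => hzD c (hCD hc)
  have hpow : ∀ x ∈ E, x ^ p ∈ C := by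
    intro x hx
    show ((⟨x, hx⟩ : E) : G) ^ p ∈ C
    rw [← Subgroup.coe_pow, hmem]
    intro α hα
    rw [map_pow]
    have : (D.subgroupOf E).Normal := hDn.subgroupOf E
    have := Subgroup.pow_index_mem (D.subgroupOf E) (α ⟨x, hx⟩)
    rwa [show (D.subgroupOf E).index = p from hD] at this
  have hcomm : ∀ a b : E, a * b * a⁻¹ * b⁻¹ ∈ C₀ := fun a b α hα => by
    simpa using hGE (α a : G) (α b : G) (α b).2
  have hindex : C.relIndex E = C₀.index := by
    rw [Subgroup.relIndex, Subgroup.subgroupOf, hC,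
      Subgroup.comap_map_eq_self_of_injective E.subtype_injective]
  have hrank : C.relIndex E ≤ p ^ 3 := hr E C hCE hpow fun a ha b hb => by
    have := (hmem _).2 (hcomm ⟨a, ha⟩ ⟨b, hb⟩)
    simpa using this
  -- the quotient and the transvection
  let : CommGroup (E ⧸ C₀) :=
    { (inferInstance : Group (E ⧸ C₀)) with
      mul_comm := fun a b => by
        induction a using QuotientGroup.induction_on with | H a => ?_
        induction b using QuotientGroup.induction_on with | H b => ?_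
        rw [← QuotientGroup.mk_mul, ← QuotientGroup.mk_mul, QuotientGroup.eq]
        simpa [mul_assoc] using hcomm b⁻¹ a⁻¹ }
  set φ := quotAut C₀ A hC₀i with hφ
  have hcA : ∀ g : G, (MulAut.conjNormal g : MulAut E) ∈ A := fun g =>
    s.cT_le ((mem_cT hn).2 ⟨g, fun y => MulAut.conjNormal_apply g y⟩)
  let ψ : G →* MulAut (E ⧸ C₀) := φ.comp ((MulAut.conjNormal).codRestrict A hcA)
  have hψ : ∀ (g : G) (x : E), ψ g (x : E ⧸ C₀) = ((MulAut.conjNormal g x : E) : E ⧸ C₀) :=
    fun g x => rfl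
  have hψE : ∀ e ∈ E, ψ e = 1 := by
    intro e he
    ext q
    induction q using QuotientGroup.induction_on with | H x => ?_
    rw [hψ, show MulAut.conjNormal e x = ⟨e, he⟩ * x * (⟨e, he⟩ : E)⁻¹ from
      Subtype.ext (by simp), QuotientGroup.mk_mul, QuotientGroup.mk_mul, QuotientGroup.mk_inv,
      mul_inv_cancel_comm]
    rfl
  set t := ψ z with ht
  have htop := sup_zpowers_top s hz
  have hψt : ∀ g : G, ψ g ∈ Subgroup.zpowers t := by
    intro g
    have hle : E ⊔ Subgroup.zpowers z ≤ (Subgroup.zpowers t).comap ψ :=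
      sup_le (fun e he => by simp [hψE e he]) (Subgroup.zpowers_le.2 (Subgroup.mem_zpowers t))
    exact hle (htop ▸ Subgroup.mem_top g)
  set H : Subgroup (E ⧸ C₀) := (D.subgroupOf E).map (QuotientGroup.mk' C₀) with hHdef
  have hC₀D : C₀ ≤ D.subgroupOf E := fun x hx => by
    simpa [Subgroup.mem_subgroupOf] using hx 1 A.one_mem
  have hH : ∀ x : E, (x : E ⧸ C₀) ∈ H ↔ (x : G) ∈ D := by
    intro x
    rw [← Subgroup.mem_subgroupOf, ← QuotientGroup.mk'_apply, hHdef, ← Subgroup.mem_comap,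
      QuotientGroup.comap_map_mk', sup_eq_right.2 hC₀D]
  have hHi : H.index = p := by
    rw [hHdef, Subgroup.index_map_eq _ (QuotientGroup.mk'_surjective C₀)
      (by rw [QuotientGroup.ker_mk']; exact hC₀D)]
    exact hD
  have hfix : ∀ v ∈ H, t v = v := by
    rintro _ ⟨x, hx, rfl⟩
    rw [QuotientGroup.mk'_apply, ht, hψ]
    congr 1
    refine Subtype.ext ?_
    rw [MulAut.conjNormal_apply, hzD _ (show (x : G) ∈ D from hx), mul_inv_cancel_right]
  have hmoved : ∀ v, v⁻¹ * t v ∈ H := by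
    intro v
    induction v using QuotientGroup.induction_on with | H x => ?_
    rw [ht, hψ, ← QuotientGroup.mk_inv, ← QuotientGroup.mk_mul, hH, Subgroup.coe_mul,
      Subgroup.coe_inv, MulAut.conjNormal_apply]
    have := hDn.conj_mem _ (hGE z x x.2) (x : G)⁻¹
    simpa [mul_assoc] using this
  have ht1 : t ≠ 1 := by
    intro e
    refine hkill C hCn hCE hCi hzC fun α hα _ => ?_
    refine lgen_trivOn hn s.cT_le hn hCn hCE hiE hCi (fun g x hx => ?_) α hα
    have h1 : ψ g = 1 := by simpa [e] using hψt g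
    have h2 := DFunLike.congr_fun h1 ((⟨x, hx⟩ : E) : E ⧸ C₀)
    rw [hψ, MulAut.one_apply, eq_comm, QuotientGroup.eq, ← hmem] at h2
    simpa [mul_assoc] using h2
  have hax : ∀ a : E, (a : G) ∉ D → t (a : E ⧸ C₀) ≠ a := by
    intro a ha e
    have hlt : H < (EssMax.LinOdd.dl t).ker := by
      refine lt_of_le_of_ne (fun v hv => EssMax.LinOdd.mem_ker.2 (hfix v hv)) fun e' => ha ?_
      rw [← hH, e', EssMax.LinOdd.mem_ker]
      exact e
    have hd := Subgroup.index_dvd_of_le hlt.le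
    rw [hHi] at hd
    rcases (Nat.dvd_prime hp).1 hd with h1 | h1
    · exact EssMax.LinOdd.dl_ker_ne_top ht1 (Subgroup.index_eq_one.1 h1)
    · have hh := Subgroup.relIndex_mul_index hlt.le
      rw [hHi, h1] at hh
      exact hlt.not_ge (Subgroup.relIndex_eq_one.1
        (Nat.eq_of_mul_eq_mul_right hp.pos (hh.trans (one_mul p).symm)))
  -- the order of the quotient
  have hVp : IsPGroup p (E ⧸ C₀) := (hG.to_subgroup E).to_quotient C₀
  obtain ⟨k, hk⟩ := hVp.exists_card_eq
  rw [← Subgroup.index_eq_card, ← hindex] at hk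
  have hk3 : k ≤ 3 := (Nat.pow_le_pow_iff_right hp.one_lt).1 (hk ▸ hrank)
  have hk2 : 2 ≤ k := by
    by_contra hlt
    have hmul := Subgroup.relIndex_mul_relIndex C D E hCD hDE
    rw [hD, hk] at hmul
    have hle : p ^ k ≤ 1 * p := by
      rw [one_mul]
      exact (Nat.pow_le_pow_right hp.pos (by omega : k ≤ 1)).trans_eq (pow_one p)
    have h1 : C.relIndex D = 1 := by
      have h2 : C.relIndex D ≤ 1 := Nat.le_of_mul_le_mul_right (hmul.le.trans hle) hp.pos
      have h3 : C.relIndex D ≠ 0 := fun e => by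
        rw [e, zero_mul] at hmul
        exact absurd hmul.symm (pow_pos hp.pos k).ne'
      omega
    exact hnot (le_antisymm hCD (Subgroup.relIndex_eq_one.1 h1) ▸ hCi)
  have hkne : k ≠ 3 := by
    rintro rfl
    have hcard : Nat.card (E ⧸ C₀) = p ^ 3 := by rw [← Subgroup.index_eq_card, ← hindex, hk]
    have hexp : ∀ v : E ⧸ C₀, v ^ p = 1 := by
      intro v
      induction v using QuotientGroup.induction_on with | H x => ?_
      rw [← QuotientGroup.mk_pow, QuotientGroup.eq_one_iff, ← hmem, Subgroup.coe_pow]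
      exact hpow x x.2
    have hcardH : Nat.card H = p ^ 2 := by
      have h1 := Subgroup.card_mul_index H
      rw [hHi, hcard, pow_succ p 2] at h1
      exact Nat.eq_of_mul_eq_mul_right hp.pos h1
    have htp : t ^ p = 1 := by
      refine MulEquiv.ext fun v => ?_
      rw [EssMax.LinOdd.pow_shift (hfix _ (hmoved v)) (EssMax.LinOdd.apply_eq t v) p, hexp,
        mul_one]
      rfl
    -- the image of `cT E` is a Sylow subgroup of order at most `p`
    let R : Sylow p A :=
      { toSubgroup := (cT E).subgroupOf A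
        isPGroup' := (cT_isPGroup hG).of_equiv (Subgroup.subgroupOfEquivOfLe s.cT_le).symm
        is_maximal' := fun {Q} hQ hle => le_antisymm (fun q hq => Subgroup.mem_subgroupOf.2
          (s.syl (Q.map A.subtype) (Subgroup.map_subtype_le Q) (hQ.map _)
            (fun c hc => ⟨⟨c, s.cT_le hc⟩, hle hc, rfl⟩) ⟨q, hq, rfl⟩)) hle }
    have hR : Nat.card (R.mapSurjective φ.rangeRestrict_surjective : Sylow p φ.range) ≤ p := by
      have hle : ((R.mapSurjective φ.rangeRestrict_surjective : Sylow p φ.range) :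
          Subgroup φ.range).map φ.range.subtype ≤ Subgroup.zpowers t := by
        rintro _ ⟨x, hx, rfl⟩
        rw [Sylow.coe_mapSurjective] at hx
        obtain ⟨a, ha, rfl⟩ := hx
        obtain ⟨g, hg⟩ := (mem_cT hn).1 (Subgroup.mem_subgroupOf.1 ha)
        have hga : a = ⟨MulAut.conjNormal g, hcA g⟩ := Subtype.ext (MulEquiv.ext fun x =>
          Subtype.ext ((hg x).trans (MulAut.conjNormal_apply g x).symm))
        rw [hga]
        exact hψt g
      have := Subgroup.card_le_of_le hle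
      rw [Subgroup.card_map_of_injective φ.range.subtype_injective, Nat.card_zpowers] at this
      exact this.trans (Nat.le_of_dvd hp.pos (orderOf_dvd_of_pow_eq_one htp))
    have hsyl : ∀ P ≤ φ.range, IsPGroup p P → Nat.card P ≤ p := by
      intro P hP hPp
      obtain ⟨S, hS⟩ := (hPp.of_equiv (Subgroup.subgroupOfEquivOfLe hP).symm).exists_le_sylow
      have h1 := Subgroup.card_le_of_le hS
      rw [Nat.card_congr (Subgroup.subgroupOfEquivOfLe hP).toEquiv] at h1
      rw [Sylow.card_eq_multiplicity] at hR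
      rw [Sylow.card_eq_multiplicity] at h1
      exact h1.trans hR
    refine Axes.contra (p := p) (T := φ.range) (t := t) (H := H)
      ⟨h3, hexp, hcard, hsyl, ⟨_, rfl⟩, ht1, hcardH, hfix, hmoved⟩ fun v hv => ?_
    induction v using QuotientGroup.induction_on with | H x => ?_
    rw [QuotientGroup.eq_one_iff]
    intro α hα
    exact (hH _).1 (hv _ ⟨⟨α, hα⟩, rfl⟩)
  have hC2 : C.relIndex E = p ^ 2 := by
    rw [hk, show k = 2 by omega]
  refine ⟨C, hCn, hCD, hCi, hC2, otriv_core hG s hz hCn hCi hzC, hpow, ?_, ?_⟩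
  · intro a ha haD hc
    refine hax ⟨a, ha⟩ haD ?_
    rw [ht, hψ, QuotientGroup.eq, ← hmem, Subgroup.coe_mul, Subgroup.coe_inv,
      MulAut.conjNormal_apply]
    have h2 := hCn.conj_mem _ hc a⁻¹
    simpa [mul_assoc] using h2
  · intro X hCX hXE hXi
    by_contra hne
    push Not at hne
    have hXn := normal_of_invA hn s.cT_le hXE hXi
    have hmul := Subgroup.relIndex_mul_relIndex C X E hCX hXE
    rw [hC2] at hmul
    have h1 : C.relIndex X ≠ 1 := fun e =>
      hne.1 (le_antisymm (Subgroup.relIndex_eq_one.1 e) hCX)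
    have h2 : X.relIndex E ≠ 1 := fun e =>
      hne.2 (le_antisymm hXE (Subgroup.relIndex_eq_one.1 e))
    rw [sq] at hmul
    have hd := Nat.Prime.mul_eq_prime_sq_iff hp h1 h2 |>.1 (hmul.trans (sq p).symm)
    refine hkill C hCn hCE hCi hzC fun α hα hco => ?_
    exact trivOn_trans hG hco hXE hCX hCn
      (otriv_of_relIndex_le hG hn s.cT_le le_rfl hn hXn hXE hiE hXi hd.2.le α hα hco)
      (otriv_of_relIndex_le hG hn s.cT_le hXE hXn hCn hCX hXi hCi hd.1.le α hα hco)

end Cfsg.Agent.CharPair
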